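import Cfsg.Agent.Lib.Linear.AutPSU.Main
import Cfsg.Agent.Lib.Linear.AutPSL.Out

/-!
# The outer automorphism group of `PSU_n(q)`
-/

set_option autoImplicit false

namespace Cfsg.Lib.Linear.AutPSU

open Matrix Module Cfsg.Lib.Linear.Herm

set_option quotPrecheck false

variable {n : ℕ} {F : Type*} [Field F] {q : ℕ}

local notation "V" => (Fin n → F)
local notation "G" => ↥(Cfsg.SU n F q)
local notation "P" => Cfsg.PSU n F q

/-- A special unitary matrix in the unitary group. -/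
def toGU : G →* ↥(Cfsg.GU n F q) :=
  ((Matrix.SpecialLinearGroup.toGL).comp (Cfsg.SU n F q).subtype).codRestrict _ fun s => s.2

theorem cnj_toGU (s t : G) : cnj (toGU s) t = s * t * s⁻¹ := by
  refine Subtype.ext (Subtype.ext ?_)
  show (toGU s).1.1 * t.1.1 * ((toGU s).1⁻¹).1 = s.1.1 * t.1.1 * ((s⁻¹ : G).1).1
  congr 1

theorem conj_mk_eq (s : G) : MulAut.conj (QuotientGroup.mk s : P) = innd (toGU s) := aut_ext fun t => by
  rw [innd_mk, cnj_toGU, MulAut.conj_apply]
  rfl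

theorem mem_inn_iff {β : MulAut P} : β ∈ Cfsg.Inn P ↔ ∃ s : G, innd (toGU s) = β := by
  constructor
  · rintro ⟨x, rfl⟩
    obtain ⟨s, rfl⟩ := QuotientGroup.mk_surjective x
    exact ⟨s, (conj_mk_eq s).symm⟩
  · rintro ⟨s, rfl⟩
    exact ⟨QuotientGroup.mk s, conj_mk_eq s⟩

theorem smUnit_val {g : GL (Fin n) F} {c : F} (h : g.1 = c • (1 : Matrix (Fin n) (Fin n) F)) (v : Fin n → F) :
    g.1 *ᵥ v = c • v := by
  rw [h, Matrix.smul_mulVec, Matrix.one_mulVec]

/-- A field automorphism on unitary matrices. -/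
def smGU (σ : F ≃+* F) : ↥(Cfsg.GU n F q) →* ↥(Cfsg.GU n F q) :=
  ((GeneralLinearGroup.map σ.toRingHom).comp (Cfsg.GU n F q).subtype).codRestrict _ fun g => map_memGU σ g.2

theorem fld_mul_innd (σ : F ≃+* F) (A : ↥(Cfsg.GU n F q)) :
    (fld σ : MulAut P) * innd A = innd (smGU σ A) * fld σ := aut_ext fun s => by
  rw [MulAut.mul_apply, MulAut.mul_apply, innd_mk, fld_mk, fld_mk, innd_mk]
  refine congrArg _ (Subtype.ext (Subtype.ext ?_))
  show (A.1.1 * s.1.1 * (A.1⁻¹).1).map σ =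
    (A.1.1.map σ) * s.1.1.map σ * ((GeneralLinearGroup.map σ.toRingHom A.1)⁻¹).1
  rw [← map_inv, Matrix.map_mul, Matrix.map_mul]
  rfl

theorem innd_scalar {g : ↥(Cfsg.GU n F q)} (c : F) (hc : g.1.1 = c • (1 : Matrix (Fin n) (Fin n) F)) :
    (innd g : MulAut P) = 1 := aut_ext fun s => by
  rw [innd_mk, MulAut.one_apply]
  refine congrArg _ (Subtype.ext (Subtype.ext ?_))
  show g.1.1 * s.1.1 * (g.1⁻¹).1 = s.1.1
  have h : g.1.1 * (g.1⁻¹).1 = 1 := Units.mul_inv g.1
  rw [hc] at h ⊢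
  rw [Matrix.smul_mul, Matrix.one_mul] at h ⊢
  rw [Matrix.smul_mul, ← Matrix.mul_smul, h, Matrix.mul_one]

variable [Fintype F] (hF : Fintype.card F = q ^ 2) (p : ℕ) [Fact p.Prime] [CharP F p]

local notation "σ₀" => frob hF
local notation "H" => hB hF n

include hF p in
/-- The kernel of `innd` consists of the scalars. -/
theorem innd_mul_fld_eq_one (hn : 3 ≤ n) {g : ↥(Cfsg.GU n F q)} {σ : F ≃+* F}
    (h : (innd g * fld σ : MulAut P) = 1) :
    (∃ c : F, g.1.1 = c • (1 : Matrix (Fin n) (Fin n) F)) ∧ σ = 1 := by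
  classical
  have hn2 : 2 ≤ n := by omega
  let L : V → V := fun v => g.1.1 *ᵥ (σ ∘ v)
  have hLadd : ∀ v w, L (v + w) = L v + L w := fun v w => by
    show g.1.1 *ᵥ (σ ∘ (v + w)) = _
    rw [show σ ∘ (v + w) = σ ∘ v + σ ∘ w from funext fun i => map_add σ _ _, Matrix.mulVec_add]
  have hLsmul : ∀ (s : F) v, L (s • v) = σ s • L v := fun s v => by
    show g.1.1 *ᵥ (σ ∘ (s • v)) = _
    rw [show σ ∘ (s • v) = σ s • (σ ∘ v) from funext fun i => map_mul σ _ _, Matrix.mulVec_smul]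
  have hLform : ∀ v w, H (L v) (L w) = σ (H v w) := fun v w => by rw [form_GU, form_comp]
  have hline : ∀ v, Iso hF v → ∃ a : F, a ≠ 0 ∧ L v = a • v := by
    intro v hv
    have h1 : Img hF (1 : MulAut P) v (L v) := h ▸ img_innd_mul_fld hF g σ hv
    obtain ⟨k, hk0, hk⟩ := exists_skew hF
    have h2 : Img hF (1 : MulAut P) v v := ⟨hv, hv, k, k, hk0, hk, hk0, hk, rfl⟩
    exact Img.unique hF p hn2 h2 h1
  obtain ⟨x, -, hx0, hxx⟩ := exists_iso_ne_zero (frob_ne_id hF) (frob_frob hF) (hB_isSymm hF n) ⊤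
    (by rw [finrank_top, finrank_fin_fun]; omega)
  obtain ⟨f, hf, hxf⟩ := exists_partner hF (v := x) ⟨hx0, hxx⟩
  have Q : Hyp hF x f := ⟨⟨hx0, hxx⟩, hf, hxf⟩
  obtain ⟨a, ha, hLx⟩ := hline x Q.hx
  obtain ⟨b, hb, hLf⟩ := hline f hf
  have key : ∀ u c, H x u = 0 → H f u = 0 → c + σ₀ c + H u u = 0 → L u = b • u ∧ σ c * a = b * c := by
    intro u c hu hu' hc
    have hz := Q.iso_pair hF (a := 1) (b := c) hu hu' one_ne_zero (by rw [map_one]; linear_combination hc)
    rw [one_smul] at hz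
    obtain ⟨e, he, hLz⟩ := hline _ hz
    have h1 : H x (L u) = 0 := by
      have := hLform x u
      rw [hu, map_zero, hLx, form_smul_left] at this
      exact (mul_eq_zero.1 this).resolve_left ((map_ne_zero _).2 ha)
    have h2 : H f (L u) = 0 := by
      have := hLform f u
      rw [hu', map_zero, hLf, form_smul_left] at this
      exact (mul_eq_zero.1 this).resolve_left ((map_ne_zero _).2 hb)
    rw [hLadd, hLadd, hLsmul, hLx, hLf, smul_smul] at hLz
    obtain ⟨c1, c2, -⟩ := Q.form_f_add hF (a := b) (b := σ c * a) h1 h2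
    obtain ⟨d1, d2, -⟩ := Q.form_f_add hF (a := 1) (b := c) hu hu'
    rw [one_smul] at d1 d2
    rw [hLz, form_smul_right, d1, mul_one] at c1
    rw [hLz, form_smul_right, d2] at c2
    subst c1
    refine ⟨?_, c2.symm⟩
    have h3 := congrArg (proj hF x f) hLz
    rw [Q.proj_eq hF h1 h2, map_smul] at h3
    have h4 := Q.proj_eq hF (a := 1) (b := c) hu hu'
    rw [one_smul] at h4
    rw [h3, h4]
  obtain ⟨u₀, hxu₀, hfu₀, hu₀⟩ := Q.exists_aniso hF hn
  have hall : ∀ c, σ c * a = b * c := by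
    intro c
    by_cases hcs : c + σ₀ c = 0
    · exact (key 0 c (map_zero _) (map_zero _) (by rw [map_zero, add_zero]; exact hcs)).2
    obtain ⟨r, hr⟩ := exists_norm_fixed (frob_ne_id hF) (frob_frob hF) (a := -(c + σ₀ c) / H u₀ u₀)
      (div_ne_zero (neg_ne_zero.2 hcs) hu₀)
      (by rw [map_div₀, map_neg, map_add, frob_frob hF, self_mem, add_comm (σ₀ c)])
    exact (key (r • u₀) c (by rw [form_smul_right, hxu₀, mul_zero]) (by rw [form_smul_right, hfu₀, mul_zero])
      (by rw [form_smul_left, form_smul_right, ← mul_assoc, hr, div_mul_cancel₀ _ hu₀, add_neg_cancel])).2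
  have hab : b = a := by simpa using (hall 1).symm
  subst hab
  have hσ : σ = 1 := RingEquiv.ext fun c => mul_right_cancel₀ ha ((hall c).trans (mul_comm _ _))
  refine ⟨⟨b, ?_⟩, hσ⟩
  have hLall : ∀ v, g.1.1 *ᵥ v = b • v := by
    intro v
    obtain ⟨c, hc⟩ := exists_trace hF (-(H (proj hF x f v) (proj hF x f v))) (by rw [map_neg, self_mem])
    obtain ⟨h1, -⟩ := key _ c (Q.proj_perp_x hF v) (Q.proj_perp_f hF v) (by rw [hc]; ring)
    have e : ∀ w, g.1.1 *ᵥ w = L w := fun w => by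
      show _ = g.1.1 *ᵥ (σ ∘ w); rw [hσ]; rfl
    have hone : ∀ s : F, σ s = s := fun s => by rw [hσ]; rfl
    rw [e]
    conv_lhs => rw [proj_decomp hF (x := x) (f := f) v]
    conv_rhs => rw [proj_decomp hF (x := x) (f := f) v]
    rw [hLadd, hLadd, hLsmul, hLsmul, hLx, hLf, h1, hone, hone]
    module
  refine Matrix.toLin'.injective (LinearMap.ext fun v => ?_)
  rw [Matrix.toLin'_apply, Matrix.toLin'_apply, hLall, Matrix.smul_mulVec, Matrix.one_mulVec]

include hF p in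
theorem fld_eq_of_eq (hn : 3 ≤ n) {g g' : ↥(Cfsg.GU n F q)} {σ σ' : F ≃+* F}
    (h : (innd g * fld σ : MulAut P) = innd g' * fld σ') : σ = σ' := by
  refine mul_inv_eq_one.1 (innd_mul_fld_eq_one hF p hn (g := g'⁻¹ * g) ?_).2
  rw [map_mul, map_mul, map_inv, map_inv, mul_assoc, ← mul_assoc (innd g), h, mul_inv_cancel_right, inv_mul_cancel]

include hF p in
theorem innd_eq_innd (hn : 3 ≤ n) {A B : ↥(Cfsg.GU n F q)} :
    (innd A : MulAut P) = innd B ↔ ∃ c : F, A.1.1 = c • B.1.1 := by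
  constructor
  · intro h
    obtain ⟨c, hc⟩ := (innd_mul_fld_eq_one hF p hn (g := A * B⁻¹) (σ := 1) (by
      rw [map_one, mul_one, map_mul, map_inv, h, mul_inv_cancel])).1
    refine ⟨c, ?_⟩
    have h2 : (A * B⁻¹).1.1 * B.1.1 = A.1.1 :=
      congrArg Units.val (inv_mul_cancel_right A.1 B.1 : A.1 * B.1⁻¹ * B.1 = A.1)
    rw [← h2, hc, smul_mul_assoc, Matrix.one_mul]
  · rintro ⟨c, hc⟩
    rw [← mul_inv_eq_one, ← map_inv, ← map_mul]
    refine innd_scalar c ?_
    show A.1.1 * (B.1⁻¹).1 = _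
    rw [hc, smul_mul_assoc]
    exact congrArg _ (Units.mul_inv B.1)

include hF p in
theorem inn_injective (hn : 3 ≤ n) : Function.Injective (MulAut.conj : P →* MulAut P) := by
  refine (injective_iff_map_eq_one _).2 fun x hx => ?_
  obtain ⟨s, rfl⟩ := QuotientGroup.mk_surjective x
  rw [conj_mk_eq] at hx
  obtain ⟨c, hc⟩ := (innd_mul_fld_eq_one hF p hn (g := toGU s) (σ := 1) (by rw [map_one, mul_one, hx])).1
  have hs : ∀ v, act s v = c • v := fun v => smUnit_val (g := (toGU s).1) hc v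
  rw [QuotientGroup.eq_one_iff]
  exact Subgroup.mem_center_iff.2 fun t => su_ext fun v => by rw [act_mul, act_mul, hs, hs, act_smul]

include hF p in
theorem outInnd_range_card (hn : 3 ≤ n) :
    IsCyclic ((QuotientGroup.mk' _).comp innd : ↥(Cfsg.GU n F q) →* Cfsg.Out P).range ∧
      Nat.card ((QuotientGroup.mk' _).comp innd : ↥(Cfsg.GU n F q) →* Cfsg.Out P).range = Nat.gcd n (q + 1) := by
  classical
  let o : ↥(Cfsg.GU n F q) →* Cfsg.Out P := (QuotientGroup.mk' _).comp innd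
  let N : Subgroup Fˣ := (powMonoidHom (q + 1) : Fˣ →* Fˣ).ker
  let d : ↥(Cfsg.GU n F q) →* N := (GeneralLinearGroup.det.comp (Cfsg.GU n F q).subtype).codRestrict N fun g => by
    rw [MonoidHom.mem_ker, powMonoidHom_apply]
    exact Units.ext (by simpa using det_GU_pow hF g)
  have hN : ∀ c : N, ((c : Fˣ) : F) ^ (q + 1) = 1 := fun c => by
    simpa using congrArg Units.val (MonoidHom.mem_ker.1 c.2)
  have hsurj : Function.Surjective d := by
    intro c
    obtain ⟨i₀⟩ : Nonempty (Fin n) := ⟨⟨0, by omega⟩⟩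
    have hd : (Matrix.diagonal (Function.update (1 : Fin n → F) i₀ ((c : Fˣ) : F))).det = ((c : Fˣ) : F) := by
      rw [Matrix.det_diagonal, Finset.prod_update_of_mem (Finset.mem_univ _)]; simp
    refine ⟨⟨GeneralLinearGroup.mk'' (Matrix.diagonal (Function.update (1 : Fin n → F) i₀ ((c : Fˣ) : F)))
      (by rw [hd]; exact (c : Fˣ).isUnit), mem_GU.2 fun u v => hermForm_diagonal _ (fun i => ?_) u v⟩,
      Subtype.ext (Units.ext hd)⟩
    rw [Function.update_apply, Pi.one_apply]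
    split_ifs
    · exact hN c
    · exact one_pow _
  have hker : ∀ g, g ∈ o.ker ↔ d g ∈ (powMonoidHom n : N →* N).range := by
    intro g
    show QuotientGroup.mk (innd g : MulAut P) = (1 : Cfsg.Out P) ↔ _
    rw [QuotientGroup.eq_one_iff]
    constructor
    · intro hg
      obtain ⟨s, hs⟩ := mem_inn_iff.1 hg
      obtain ⟨c, hc⟩ := (innd_eq_innd hF p hn).1 hs.symm
      have hdet : g.1.1.det = c ^ n := by
        rw [hc, Matrix.det_smul, Fintype.card_fin, show (toGU s).1.1.det = 1 from s.1.2, mul_one]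
      have hc0 : c ≠ 0 := fun h0 => (GeneralLinearGroup.det g.1).ne_zero (by
        show g.1.1.det = 0; rw [hdet, h0, zero_pow (by omega)])
      have hcN : Units.mk0 c hc0 ∈ N := by
        rw [MonoidHom.mem_ker, powMonoidHom_apply]
        refine Units.ext ?_
        rw [Units.val_pow_eq_pow_val, Units.val_mk0, Units.val_one]
        obtain ⟨u, hu⟩ : ∃ u : V, H u u ≠ 0 := by
          obtain ⟨x, -, hx0, hxx⟩ := exists_iso_ne_zero (frob_ne_id hF) (frob_frob hF) (hB_isSymm hF n) ⊤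
            (by rw [finrank_top, finrank_fin_fun]; omega)
          obtain ⟨f, hf, hxf⟩ := exists_partner hF (v := x) ⟨hx0, hxx⟩
          obtain ⟨u, -, -, hu⟩ := (⟨⟨hx0, hxx⟩, hf, hxf⟩ : Hyp hF x f).exists_aniso hF hn
          exact ⟨u, hu⟩
        have h1 := form_GU hF g u u
        rw [hc, Matrix.smul_mulVec, form_smul_left, form_smul_right, form_GU, ← mul_assoc] at h1
        have h2 : σ₀ c * c = 1 := mul_right_cancel₀ hu (h1.trans (one_mul _).symm)
        rwa [frob_apply, ← pow_succ] at h2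
      exact ⟨⟨_, hcN⟩, Subtype.ext (Units.ext hdet.symm)⟩
    · rintro ⟨c, hc⟩
      have hdet : g.1.1.det = ((c : Fˣ) : F) ^ n := (congrArg (fun z : N => ((z : Fˣ) : F)) hc).symm
      let sg : ↥(Cfsg.GU n F q) := ⟨GeneralLinearGroup.scalar (Fin n) (c⁻¹ : N).1, scalar_mem_GU (hN c⁻¹)⟩
      have hval : (sg * g).1.1 = ((c⁻¹ : N).1 : F) • g.1.1 := by
        show Matrix.diagonal (fun _ => ((c⁻¹ : N).1 : F)) * g.1.1 = _
        rw [← Matrix.smul_one_eq_diagonal, smul_mul_assoc, Matrix.one_mul]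
      have hdet1 : (sg * g).1.1.det = 1 := by
        rw [hval, Matrix.det_smul, Fintype.card_fin, hdet, ← mul_pow, ← Units.val_mul, Subgroup.coe_inv,
          inv_mul_cancel, Units.val_one, one_pow]
      refine mem_inn_iff.2 ⟨⟨⟨(sg * g).1.1, hdet1⟩, fun u v => (sg * g).2 u v⟩, ?_⟩
      exact (innd_eq_innd hF p hn).2 ⟨_, hval⟩
  let o' : N →* Cfsg.Out P := d.liftOfSurjective hsurj ⟨o, fun g hg => (hker g).2 (by
    rw [MonoidHom.mem_ker.1 hg]; exact one_mem _)⟩
  have ho' : ∀ g, o' (d g) = o g := fun g => d.liftOfRightInverse_comp_apply _ _ _ g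
  have hrange : o.range = o'.range := by
    refine le_antisymm ?_ ?_
    · rintro _ ⟨g, rfl⟩; exact ⟨d g, ho' g⟩
    · rintro _ ⟨c, rfl⟩
      obtain ⟨g, rfl⟩ := hsurj c
      exact ⟨g, (ho' g).symm⟩
  show IsCyclic o.range ∧ Nat.card o.range = _
  rw [hrange]
  refine ⟨isCyclic_of_surjective o'.rangeRestrict o'.rangeRestrict_surjective, ?_⟩
  have hk : o'.ker = (powMonoidHom n : N →* N).range := by
    ext c
    obtain ⟨g, rfl⟩ := hsurj c
    rw [MonoidHom.mem_ker, ho', ← MonoidHom.mem_ker, hker]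
  rw [← Subgroup.index_ker, hk, IsCyclic.index_powMonoidHom_range, card_norm_one hF, Nat.gcd_comm]

include hF p in
theorem exists_outHom (hn : 3 ≤ n) (h32 : ¬ (n = 3 ∧ q = 2)) {N : ℕ}
    (E : (F ≃+* F) ≃* Multiplicative (ZMod N)) :
    ∃ φ : Cfsg.Out P →* Multiplicative (ZMod N), Function.Surjective φ ∧ IsCyclic φ.ker ∧
      Nat.card φ.ker = Nat.gcd n (q + 1) := by
  choose g₀ ψ₀ hψ using exists_decomp hF (p := p) hn h32
  have huniq : ∀ β g σ, β = innd g * fld σ → ψ₀ β = σ := fun β g σ h =>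
    fld_eq_of_eq hF p hn ((hψ β).symm.trans h)
  let ψ := E.toMonoidHom.comp (MonoidHom.mk' ψ₀ fun β β' => huniq _ (g₀ β * smGU (ψ₀ β) (g₀ β')) _ (by
    conv_lhs => rw [hψ β, hψ β']
    rw [map_mul, map_mul, mul_assoc, ← mul_assoc (fld (ψ₀ β)), fld_mul_innd]
    simp only [mul_assoc]))
  have hone : ∀ g, ψ₀ (innd g) = 1 := fun g => huniq _ g 1 (by rw [map_one, mul_one])
  have hinn : Cfsg.Inn _ ≤ ψ.ker := fun β hβ => by
    obtain ⟨s, rfl⟩ := mem_inn_iff.1 hβ
    rw [MonoidHom.mem_ker]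
    show E (ψ₀ _) = 1
    rw [hone, map_one]
  refine ⟨QuotientGroup.lift _ ψ hinn, ?_, ?_⟩
  · intro z
    obtain ⟨σ, rfl⟩ := E.surjective z
    refine ⟨QuotientGroup.mk (fld σ), ?_⟩
    show E (ψ₀ _) = E σ
    rw [huniq _ 1 σ (by rw [map_one, one_mul])]
  have hker : (QuotientGroup.lift _ ψ hinn).ker =
      ((QuotientGroup.mk' _).comp innd : ↥(Cfsg.GU n F q) →* Cfsg.Out P).range := by
    ext x
    obtain ⟨β, rfl⟩ := QuotientGroup.mk_surjective x
    rw [MonoidHom.mem_ker]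
    constructor
    · intro h
      have h1 : ψ₀ β = 1 := E.injective (by rw [map_one]; exact h)
      have h2 := hψ β
      rw [h1, map_one, mul_one] at h2
      exact ⟨g₀ β, by rw [MonoidHom.comp_apply, ← h2]; rfl⟩
    · rintro ⟨g, hg⟩
      rw [← hg]
      show E (ψ₀ _) = 1
      rw [hone, map_one]
  rw [hker]
  exact outInnd_range_card hF p hn

end Cfsg.Lib.Linear.AutPSU
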