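import Cfsg.Agent.Lib.Linear.AutPSU.Multiplier

/-!
# Automorphisms of `PSU_n(q)`

An automorphism fixing the points of a hyperbolic pair `(x, f)` maps the isotropic point `(1, u, c)` to
`(1, psi u, l σ c)`, and `psi` multiplies the form by `l`; hence it is induced by a unitary matrix and `σ`.
-/

set_option autoImplicit false

namespace Cfsg.Lib.Linear.AutPSU

open Matrix Module Cfsg.Lib.Linear.Herm

set_option quotPrecheck false

variable {n : ℕ} {F : Type*} [Field F] [Fintype F] {q : ℕ} (hF : Fintype.card F = q ^ 2)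

local notation "V" => (Fin n → F)
local notation "G" => ↥(Cfsg.SU n F q)
local notation "P" => Cfsg.PSU n F q
local notation "σ₀" => frob hF
local notation "H" => hB hF n

theorem exists_circle {h c : F} (hh : h ≠ 0) (hfix : σ₀ h = h) (hc : c + σ₀ c + h = 0) :
    ∃ s : F, σ₀ s ≠ s ∧ s * c + σ₀ (s * c) + σ₀ s * s * h = 0 := by
  classical
  have hq := two_le_q hF
  have hc0 : c ≠ 0 := fun h0 => hh (by rw [h0, map_zero, zero_add, zero_add] at hc; exact hc)
  have hc' : σ₀ c ≠ 0 := (map_ne_zero _).2 hc0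
  obtain ⟨z, hz, hz1, hz2⟩ : ∃ z : F, z ^ (q + 1) = 1 ∧ z ≠ 1 ∧ z ≠ -(c / σ₀ c) := by
    by_contra hcon
    push Not at hcon
    have hsub : (Finset.univ.filter fun z : F => z ^ (q + 1) = 1) ⊆ ({1, -(c / σ₀ c)} : Finset F) := by
      intro z hz
      rcases eq_or_ne z 1 with rfl | h1
      · simp
      · simp [hcon z (Finset.mem_filter.1 hz).2 h1]
    have h1 := (Finset.card_le_card hsub).trans Finset.card_le_two
    rw [← Fintype.card_subtype, ← Nat.card_eq_fintype_card, card_norm_eq hF one_ne_zero (one_pow q)] at h1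
    omega
  have hzN : σ₀ z * z = 1 := by rw [frob_apply, ← pow_succ, hz]
  refine ⟨-(σ₀ c) * (1 - z) / h, fun hs => ?_, ?_⟩
  · rw [map_div₀, map_mul, map_neg, frob_frob hF, map_sub, map_one, hfix, div_left_inj' hh] at hs
    have h1 : (1 - z) * (σ₀ z * c + σ₀ c) = 0 := by linear_combination hs - c * hzN
    rcases mul_eq_zero.1 h1 with h2 | h2
    · exact hz1 (sub_eq_zero.1 h2).symm
    · refine hz2 ?_
      have h3 : z * σ₀ c + c = 0 := by linear_combination z * h2 - c * hzN
      rw [eq_neg_iff_add_eq_zero]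
      field_simp
      linear_combination h3
  · simp only [map_mul, map_div₀, map_neg, map_sub, map_one, frob_frob hF, hfix]
    field_simp
    linear_combination (c * σ₀ c) * hzN

variable {x f : Fin n → F} {γ : MulAut (Cfsg.PSU n F q)} {p : ℕ} [Fact p.Prime] [CharP F p]

/-- The last coordinate of the images, and the multiplier of `psi`. -/
theorem Fixes.exists_lambda (S : Fixes hF p γ x f) {σ : F ≃+* F}
    (hσ : ∀ u, H x u = 0 → H f u = 0 → ∀ s : F, psi hF γ x f (s • u) = σ s • psi hF γ x f u) :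
    ∃ l : F, l ≠ 0 ∧ σ₀ l = l ∧
      (∀ u c, H x u = 0 → H f u = 0 → c + σ₀ c + H u u = 0 →
        phi hF γ x (pt x f u c) = pt x f (psi hF γ x f u) (l * σ c)) ∧
      ∀ u v, H x u = 0 → H f u = 0 → H x v = 0 → H f v = 0 →
        H (psi hF γ x f u) (psi hF γ x f v) = l * σ (H u v) := by
  classical
  set E : V → F → F := fun u c => H f (phi hF γ x (pt x f u c)) with hE
  have haniso : ∀ u c, H x u = 0 → H f u = 0 → c + σ₀ c + H u u = 0 → H u u ≠ 0 →
      E u c = H (psi hF γ x f u) (psi hF γ x f u) / σ (H u u) * σ c := by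
    intro u c hu hu' hc huu
    obtain ⟨s, hs, hsc⟩ := exists_circle hF huu (self_mem hF u) hc
    have hs0 : s ≠ 0 := fun h => hs (by rw [h, map_zero])
    have hc0 : c ≠ 0 := fun h0 => huu (by rw [h0, map_zero, zero_add, zero_add] at hc; exact hc)
    obtain ⟨b, hb, hbe⟩ := S.psi_line hF hu hu' hc hc0 hs0 hsc
    set u' := psi hF γ x f u
    have hu'0 : u' ≠ 0 := fun h0 => huu (by
      rw [S.psi_inj hF hu hu' (map_zero _) (map_zero _) (h0.trans (S.psi_zero hF).symm), map_zero])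
    rw [hσ u hu hu'] at hb
    obtain rfl : σ s = b := smul_left_injective F hu'0 hb
    have hxs : H x (s • u) = 0 := by rw [form_smul_right, hu, mul_zero]
    have hfs : H f (s • u) = 0 := by rw [form_smul_right, hu', mul_zero]
    have h1 := S.form_phi_pt hF hu hu' hc
    have h2 := S.form_phi_pt hF hxs hfs (c := s * c) (by rw [form_smul_left, form_smul_right, ← mul_assoc]; exact hsc)
    rw [hbe, hσ u hu hu', form_smul_left, form_smul_right] at h2
    set h := H u u
    set l := H u' u' / σ h with hl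
    have hlh : l * σ h = H u' u' := div_mul_cancel₀ _ ((map_ne_zero σ).2 huu)
    have hlf : σ₀ l = l := by
      rw [hl, map_div₀, self_mem, frob_comm hF, show σ₀ h = h from self_mem hF u]
    have h3 : σ c + σ₀ (σ c) + σ h = 0 := by
      rw [frob_comm hF, ← map_add, ← map_add, hc, map_zero]
    have h4 : σ s * σ c + σ₀ (σ s * σ c) + σ₀ (σ s) * σ s * σ h = 0 := by
      simp only [← map_mul]
      rw [frob_comm hF, frob_comm hF, ← map_mul, ← map_mul, ← map_add, ← map_add, hsc, map_zero]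
    set d := E u c - l * σ c with hd
    have hd1 : d + σ₀ d = 0 := by
      rw [hd, map_sub, map_mul, hlf]
      simp only [hE]
      linear_combination h1 - l * h3 + hlh
    have hd2 : (σ s - σ₀ (σ s)) * d = 0 := by
      have : σ s * d + σ₀ (σ s) * σ₀ d = 0 := by
        rw [hd, map_sub, map_mul, hlf]
        simp only [hE]
        simp only [map_mul] at h2 h4
        linear_combination h2 - l * h4 + (σ₀ (σ s) * σ s) * hlh
      linear_combination this - σ₀ (σ s) * hd1
    have hne : σ s - σ₀ (σ s) ≠ 0 := fun h0 => hs (σ.injective (by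
      rw [← frob_comm hF]; exact (sub_eq_zero.1 h0).symm))
    exact sub_eq_zero.1 ((mul_eq_zero.1 hd2).resolve_left hne)
  obtain ⟨u₀, hxu₀, hfu₀, hu₀⟩ := S.hp.exists_aniso hF S.hn
  obtain ⟨k₀, hk₀0, hk₀⟩ := exists_skew hF
  set l := tau hF γ x f k₀ / σ k₀ with hl
  have hshift : ∀ u c k, H x u = 0 → H f u = 0 → c + σ₀ c + H u u = 0 → Skew hF k →
      E u (c + k) = E u c + tau hF γ x f k := by
    intro u c k hu hu' hc hk
    simp only [hE]
    rw [← pt_add, (S.phi_shift hF (S.hp.nz_pt hF hu hu' hc) hk).1, map_add, form_smul_right, S.hp.hfx, mul_one]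
  have hlu : ∀ u, H x u = 0 → H f u = 0 → H u u ≠ 0 → ∀ k, Skew hF k →
      tau hF γ x f k = H (psi hF γ x f u) (psi hF γ x f u) / σ (H u u) * σ k := by
    intro u hu hu' huu k hk
    obtain ⟨c, hc⟩ := exists_trace hF (-(H u u)) (by rw [map_neg, self_mem])
    have hc1 : c + σ₀ c + H u u = 0 := by rw [hc]; ring
    have hck : (c + k) + σ₀ (c + k) + H u u = 0 := by rw [map_add, hk.conj]; linear_combination hc1
    have h := hshift u c k hu hu' hc1 hk
    rw [haniso u c hu hu' hc1 huu, haniso u _ hu hu' hck huu, map_add, mul_add] at h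
    linear_combination -h
  have hleq : ∀ u, H x u = 0 → H f u = 0 → H u u ≠ 0 →
      H (psi hF γ x f u) (psi hF γ x f u) / σ (H u u) = l := fun u hu hu' huu => by
    rw [hl, hlu u hu hu' huu k₀ hk₀, mul_div_assoc, div_self ((map_ne_zero σ).2 hk₀0), mul_one]
  have hl0 : l ≠ 0 := by
    intro h0
    have ht : tau hF γ x f k₀ = 0 := by rw [hlu u₀ hxu₀ hfu₀ hu₀ k₀ hk₀, hleq u₀ hxu₀ hfu₀ hu₀, h0, zero_mul]
    have h1 := (S.phi_shift hF (S.nz_f hF) hk₀).1
    rw [ht, zero_smul, add_zero] at h1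
    have h2 := S.phi_inj hF ((S.nz_f hF).add_smul hF S.hp.hx hk₀) (S.nz_f hF) h1
    exact S.hp.hx.1 ((smul_eq_zero.1 (add_eq_left.1 h2)).resolve_left hk₀0)
  have hlf : σ₀ l = l := by
    rw [hl, map_div₀, (S.phi_shift hF (S.nz_f hF) hk₀).2.conj, (hk₀.map hF σ).conj, neg_div_neg_eq]
  have hiso : ∀ u, H x u = 0 → H f u = 0 → H u u = 0 →
      E u 0 = 0 ∧ H (psi hF γ x f u) (psi hF γ x f u) = 0 := by
    intro u hu hu' huu
    have hc : (0 : F) + σ₀ 0 + H u u = 0 := by rw [map_zero, huu, add_zero, add_zero]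
    have h0 : E u 0 = 0 :=
      (S.orth_f hF (S.phi_spec hF (S.hp.nz_pt hF hu hu' hc)).2).1 (S.hp.pt_spec hF hu hu' 0).2.1
    refine ⟨h0, ?_⟩
    have h1 := S.form_phi_pt hF hu hu' hc
    rwa [show H f (phi hF γ x (pt x f u 0)) = 0 from h0, map_zero, zero_add, zero_add] at h1
  have hE' : ∀ u c, H x u = 0 → H f u = 0 → c + σ₀ c + H u u = 0 → E u c = l * σ c := by
    intro u c hu hu' hc
    by_cases huu : H u u = 0
    · have hk : Skew hF c := by rw [huu, add_zero] at hc; exact hc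
      have h := hshift u 0 c hu hu' (by rw [map_zero, huu, add_zero, add_zero]) hk
      rw [zero_add, (hiso u hu hu' huu).1, zero_add] at h
      rw [h, hlu u₀ hxu₀ hfu₀ hu₀ c hk, hleq u₀ hxu₀ hfu₀ hu₀]
    · rw [haniso u c hu hu' hc huu, hleq u hu hu' huu]
  have hdiag : ∀ u, H x u = 0 → H f u = 0 → H (psi hF γ x f u) (psi hF γ x f u) = l * σ (H u u) := by
    intro u hu hu'
    by_cases huu : H u u = 0
    · rw [(hiso u hu hu' huu).2, huu, map_zero, mul_zero]
    · rw [← hleq u hu hu' huu, div_mul_cancel₀ _ ((map_ne_zero σ).2 huu)]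
  refine ⟨l, hl0, hlf, fun u c hu hu' hc => ?_, fun u v hu hu' hv hv' => ?_⟩
  · rw [S.phi_pt hF hu hu' hc]
    exact congrArg _ (hE' u c hu hu' hc)
  set u' := psi hF γ x f u
  set v' := psi hF γ x f v
  have hsum : ∀ s : F, σ s * (H u' v' - l * σ (H u v)) + σ₀ (σ s) * (H v' u' - l * σ (H v u)) = 0 := by
    intro s
    have hxs : H x (s • v) = 0 := by rw [form_smul_right, hv, mul_zero]
    have hfs : H f (s • v) = 0 := by rw [form_smul_right, hv', mul_zero]
    have h := hdiag (u + s • v) (by rw [map_add, hu, hxs, add_zero]) (by rw [map_add, hu', hfs, add_zero])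
    rw [S.psi_add hF hu hu' hxs hfs, hσ v hv hv'] at h
    simp only [map_add, LinearMap.add_apply, form_smul_left, form_smul_right, map_mul] at h
    rw [frob_comm hF] at h ⊢
    linear_combination h - hdiag u hu hu' - (σ (σ₀ s) * σ s) * hdiag v hv hv'
  obtain ⟨s, hs⟩ : ∃ s : F, σ₀ s ≠ s := by
    by_contra h
    push Not at h
    exact frob_ne_id hF (RingHom.ext h)
  have h1 := hsum 1
  rw [map_one, map_one, one_mul, one_mul] at h1
  have h2 : (σ s - σ₀ (σ s)) * (H u' v' - l * σ (H u v)) = 0 := by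
    linear_combination hsum s - σ₀ (σ s) * h1
  refine sub_eq_zero.1 ((mul_eq_zero.1 h2).resolve_left fun h0 => hs (σ.injective ?_))
  rw [← frob_comm hF]
  exact (sub_eq_zero.1 h0).symm

omit [CharP F p] in
theorem vec_ne_zero {z : Fin n → F} (h : H x z = 1) : z ≠ 0 := fun h0 => by
  rw [h0, map_zero] at h; exact zero_ne_one h

/-- A `Fixes` automorphism is semilinear unitary. -/
theorem Fixes.exists_eq (S : Fixes hF p γ x f) (h32 : ¬ (n = 3 ∧ q = 2)) :
    ∃ (g : ↥(Cfsg.GU n F q)) (σ : F ≃+* F), γ = innd g * fld σ := by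
  classical
  obtain ⟨σ, hσ⟩ := S.exists_sigma hF h32
  obtain ⟨l, hl0, hlf, hphi, hform⟩ := S.exists_lambda hF hσ
  obtain ⟨ν, hν⟩ := exists_norm_fixed (frob_ne_id hF) (frob_frob hF) hl0 hlf
  have hν0 : ν ≠ 0 := fun h => hl0 (by rw [← hν, h, mul_zero])
  let T : V → V := fun v =>
    ν⁻¹ • (σ (H x v) • f + psi hF γ x f (proj hF x f v) + (l * σ (H f v)) • x)
  have hperp : ∀ v, H x (proj hF x f v) = 0 ∧ H f (proj hF x f v) = 0 := fun v =>
    ⟨S.hp.proj_perp_x hF v, S.hp.proj_perp_f hF v⟩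
  have hTadd : ∀ v w, T (v + w) = T v + T w := fun v w => by
    simp only [T, map_add, S.psi_add hF (hperp v).1 (hperp v).2 (hperp w).1 (hperp w).2]
    module
  have hTsmul : ∀ (s : F) v, T (s • v) = σ s • T v := fun s v => by
    simp only [T, map_smul, smul_eq_mul, map_mul, hσ _ (hperp v).1 (hperp v).2]
    module
  have hTform : ∀ v w, H (T v) (T w) = σ (H v w) := by
    intro v w
    have hp := S.psi_perp hF (proj hF x f v)
    have hp' := S.psi_perp hF (proj hF x f w)
    have e : H v w = σ₀ (H x v) * H f w + σ₀ (H f v) * H x w + H (proj hF x f v) (proj hF x f w) := by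
      conv_lhs => rw [proj_decomp hF (x := x) (f := f) v, proj_decomp hF (x := x) (f := f) w]
      simp only [map_add, LinearMap.add_apply, form_smul_left, form_smul_right, S.hp.hx.2, S.hp.hf.2, S.hp.hxf,
        S.hp.hfx, (hperp v).1, (hperp v).2, (hperp w).1, (hperp w).2, (form_comm_zero hF).1 (hperp v).1,
        (form_comm_zero hF).1 (hperp v).2]
      ring
    simp only [T, map_add, LinearMap.add_apply, form_smul_left, form_smul_right, S.hp.hx.2, S.hp.hf.2, S.hp.hxf,
      S.hp.hfx, hp.1, hp.2, hp'.1, hp'.2, (form_comm_zero hF).1 hp.1, (form_comm_zero hF).1 hp.2,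
      hform _ _ (hperp v).1 (hperp v).2 (hperp w).1 (hperp w).2, map_mul, hlf, map_inv₀, frob_comm hF, e, ← hν, frob_frob hF]
    have hν' : σ₀ ν ≠ 0 := (map_ne_zero _).2 hν0
    field_simp
    ring
  let e : Fin n → V := fun i => Pi.single i 1
  let M : Matrix (Fin n) (Fin n) F := Matrix.of fun i j => T (e j) i
  have hM : ∀ v, M *ᵥ (σ ∘ v) = T v := by
    intro v
    have hT0 : T 0 = 0 := by simpa using hTsmul 0 0
    have hsum : ∀ s : Finset (Fin n), T (∑ j ∈ s, v j • e j) = ∑ j ∈ s, σ (v j) • T (e j) := by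
      intro s
      induction s using Finset.induction_on with
      | empty => simpa using hT0
      | insert a s ha ih => rw [Finset.sum_insert ha, Finset.sum_insert ha, hTadd, hTsmul, ih]
    conv_rhs => rw [pi_eq_sum_univ' v, hsum]
    funext i
    simp [Matrix.mulVec, dotProduct, M, Finset.sum_apply, mul_comm]
  have hMiso : ∀ v w, H (M *ᵥ v) (M *ᵥ w) = H v w := by
    intro v w
    obtain ⟨v, rfl⟩ : ∃ a, σ ∘ a = v := ⟨σ.symm ∘ v, funext fun i => σ.apply_symm_apply _⟩
    obtain ⟨w, rfl⟩ : ∃ a, σ ∘ a = w := ⟨σ.symm ∘ w, funext fun i => σ.apply_symm_apply _⟩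
    rw [hM, hM, hTform, form_comp]
  have hdet : IsUnit M.det := by
    rw [← Matrix.isUnit_iff_isUnit_det, ← Matrix.mulVec_injective_iff_isUnit]
    intro v w hvw
    refine sub_eq_zero.1 ((hB_nondegenerate hF n).1 _ fun y => ?_)
    rw [← hMiso, Matrix.mulVec_sub, sub_eq_zero.2 hvw, map_zero, LinearMap.zero_apply]
  let g : ↥(Cfsg.GU n F q) := ⟨GeneralLinearGroup.mk'' M hdet, fun v w => hMiso w v⟩
  refine ⟨g, σ, ?_⟩
  have hpt : ∀ z, Iso hF z → H x z ≠ 0 → Img hF γ z (g.1.1 *ᵥ (σ ∘ z)) := by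
    intro z hz hxz
    have hnz : Nz hF x ((H x z)⁻¹ • z) :=
      ⟨by rw [form_smul_left, form_smul_right, hz.2, mul_zero, mul_zero], by
        rw [form_smul_right, inv_mul_cancel₀ hxz]⟩
    obtain ⟨h1, h2⟩ := S.phi_spec hF hnz
    obtain ⟨e1, e2⟩ := S.hp.eq_pt hF hnz
    rw [e1, hphi _ _ (hperp _).1 (hperp _).2 e2] at h2
    have h3 := Img.smul_right hF (Img.smul_left hF h2 hxz) (mul_ne_zero ((map_ne_zero σ).2 hxz) (inv_ne_zero hν0))
    rw [← e1, smul_smul, mul_inv_cancel₀ hxz, one_smul] at h3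
    show Img hF γ z (M *ᵥ (σ ∘ z))
    rw [hM]
    convert h3 using 1
    conv_lhs => rw [show z = H x z • ((H x z)⁻¹ • z) by rw [smul_smul, mul_inv_cancel₀ hxz, one_smul], hTsmul]
    simp only [T, pt, hnz.2, map_one, one_smul, smul_smul]
  have hxim : Img hF γ x (g.1.1 *ᵥ (σ ∘ x)) := by
    show Img hF γ x (M *ᵥ (σ ∘ x))
    rw [hM]
    convert S.hxx.smul_right hF (mul_ne_zero (inv_ne_zero hν0) hl0) using 1
    simp only [T, S.hp.hx.2, S.hp.hfx, map_zero, zero_smul, zero_add, map_one, mul_one]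
    rw [show proj hF x f x = 0 by
      rw [proj_apply, S.hp.hx.2, S.hp.hfx, zero_smul, one_smul, sub_zero, sub_self], S.psi_zero hF, zero_add, smul_smul]
  have hn2 := S.hn2 hF
  -- extend to all points
  set δ := (innd g * fld σ : MulAut P)⁻¹ * γ with hδ
  have hfix : ∀ z, Iso hF z → (Img hF γ z (g.1.1 *ᵥ (σ ∘ z))) → Img hF δ z z := by
    intro z hz h
    have h' := Img.symm hF (img_innd_mul_fld hF g σ hz)
    exact Img.comp hF h (fun l hl0' hl' => Img.transvection hF p hn2 h' hl0' hl') hz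
  have hall : ∀ z, Iso hF z → Img hF δ z z := by
    intro z hz
    by_cases hxz : H x z = 0
    swap
    · exact hfix z hz (hpt z hz hxz)
    by_cases hmem : z ∈ Submodule.span F {x}
    · obtain ⟨a, rfl⟩ := Submodule.mem_span_singleton.1 hmem
      have ha : a ≠ 0 := fun h => hz.1 (by rw [h, zero_smul])
      exact (Img.smul_left hF (hfix x S.hp.hx hxim) ha).smul_right hF ha
    obtain ⟨w, hw, hxw, hzw⟩ : ∃ w, Iso hF w ∧ H x w ≠ 0 ∧ H z w ≠ 0 := by
      obtain ⟨u, hu, hS, hzu⟩ := exists_iso_sep hF hz hmem fun s hs => by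
        obtain ⟨r, rfl⟩ := Submodule.mem_span_singleton.1 hs
        rw [form_smul_left, hxz, mul_zero]
      have hxu : H x u = 0 := hS x (Submodule.mem_span_singleton_self x)
      by_cases hzf : H z f = 0
      · obtain ⟨a, ha⟩ := exists_trace hF (-(H (f + u) (f + u))) (by rw [map_neg, self_mem])
        have h1 : H x (f + u + a • x) = 1 := by
          rw [map_add, map_add, form_smul_right, S.hp.hxf, hxu, S.hp.hx.2]; ring
        refine ⟨f + u + a • x, ⟨vec_ne_zero hF h1, ?_⟩, by rw [h1]; exact one_ne_zero, ?_⟩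
        · have h2 : H (f + u) x = 1 := by
            rw [map_add, LinearMap.add_apply, S.hp.hfx, (form_comm_zero hF).1 hxu, add_zero]
          have h3 : H x (f + u) = 1 := by rw [map_add, S.hp.hxf, hxu, add_zero]
          simp only [map_add, LinearMap.add_apply, form_smul_left, form_smul_right, S.hp.hx.2] at ha h2 h3 ⊢
          linear_combination ha + a * h2 + σ₀ a * h3
        · rw [map_add, map_add, form_smul_right, hzf, hzu, (form_comm_zero hF).1 hxz, mul_zero, add_zero, zero_add]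
          exact one_ne_zero
      · exact ⟨f, S.hp.hf, by rw [S.hp.hxf]; exact one_ne_zero, hzf⟩
    obtain ⟨k, hk0, hk⟩ := exists_skew hF
    have hw' := hfix w hw (hpt w hw hxw)
    obtain ⟨l', -, hl', e⟩ := Img.transvection hF p hn2 hw' hk0 hk
    obtain ⟨z', hz'⟩ := exists_img hF p hn2 δ hz
    have h1 := Img.conj hF hz' (g := tU hF w k) (g' := tU hF w l') e
    have hwz : H w z ≠ 0 := fun h => hzw ((form_comm_zero hF).1 h)
    set z₁ := act (tU hF w k) z
    have hxz₁ : H x z₁ ≠ 0 := by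
      rw [show z₁ = z + (k * H w z) • w from act_tU hF hw.2 hk z, map_add, form_smul_right, hxz, zero_add]
      exact mul_ne_zero (mul_ne_zero hk0 hwz) hxw
    obtain ⟨a, ha, ha'⟩ := Img.unique hF p hn2 (hfix z₁ (hz.act hF _) (hpt z₁ (hz.act hF _) hxz₁)) h1
    have hx' : H x z' = 0 := (Img.orth hF p hn2 (hfix x S.hp.hx hxim) hz').1 hxz
    rw [show z₁ = z + (k * H w z) • w from act_tU hF hw.2 hk z, act_tU hF hw.2 hl', smul_add, smul_smul] at ha'
    have h2 := congrArg (H x) ha'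
    simp only [map_add, form_smul_right, hx', hxz, mul_zero, zero_add] at h2
    have h3 : l' * H w z' = a * (k * H w z) := mul_right_cancel₀ hxw h2
    rw [h3, add_left_inj] at ha'
    have h4 := Img.smul_right hF hz' (inv_ne_zero ha)
    rwa [ha', smul_smul, inv_mul_cancel₀ ha, one_smul] at h4
  have h1 := eq_one_of_fixes_points hF p S.hn δ hall
  exact (inv_mul_eq_one.1 h1).symm

include hF p in
/-- **Automorphisms of `PSU_n(q)`**. -/
theorem exists_decomp (hn : 3 ≤ n) (h32 : ¬ (n = 3 ∧ q = 2)) (β : MulAut P) :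
    ∃ (g : ↥(Cfsg.GU n F q)) (σ : F ≃+* F), β = innd g * fld σ := by
  have hn2 : 2 ≤ n := by omega
  obtain ⟨x, -, hx0, hxx⟩ := exists_iso_ne_zero (frob_ne_id hF) (frob_frob hF) (hB_isSymm hF n) ⊤
    (by rw [finrank_top, finrank_fin_fun]; omega)
  obtain ⟨f, hf, hxf⟩ := exists_partner hF (v := x) ⟨hx0, hxx⟩
  obtain ⟨x', hx'⟩ := exists_img hF p hn2 β ⟨hx0, hxx⟩
  obtain ⟨f', hf'⟩ := exists_img hF p hn2 β hf
  have hne : H x' f' ≠ 0 := fun h0 => by
    have := (Img.orth hF p hn2 hx' hf').2 h0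
    rw [hxf] at this
    exact one_ne_zero this
  have hf'' := Img.smul_right hF hf' (inv_ne_zero hne)
  have Q' : Hyp hF x' ((H x' f')⁻¹ • f') := ⟨hx'.2.1, hf''.2.1, by rw [form_smul_right, inv_mul_cancel₀ hne]⟩
  obtain ⟨g, hgx, hgf⟩ := exists_GU_pair hF Q' ⟨⟨hx0, hxx⟩, hf, hxf⟩
  have S : Fixes hF p (innd g * β) x f := ⟨hn, ⟨⟨hx0, hxx⟩, hf, hxf⟩, hgx ▸ Img.innd_mul hF hx' g,
    hgf ▸ Img.innd_mul hF hf'' g⟩
  obtain ⟨g', σ, h⟩ := S.exists_eq hF h32
  exact ⟨g⁻¹ * g', σ, by rw [map_mul, map_inv, mul_assoc, ← h, inv_mul_cancel_left]⟩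

end Cfsg.Lib.Linear.AutPSU
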