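import Cfsg.Agent.Lib.Linear.AutPSU.Semilinear

/-!
# An automorphism of `PSU_n(q)` maps transvections to transvections

`Img hF γ v w` says that `w` spans the image of the point `v`.
-/

set_option autoImplicit false

namespace Cfsg.Lib.Linear.AutPSU

open Matrix Module Cfsg.Lib.Linear.Herm

set_option quotPrecheck false

variable {n : ℕ} {F : Type*} [Field F] [Fintype F] {q : ℕ} (hF : Fintype.card F = q ^ 2)

local notation "V" => (Fin n → F)
local notation "G" => ↥(Cfsg.SU n F q)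
local notation "P" => Cfsg.PSU n F q
local notation "σ₀" => frob hF
local notation "H" => hB hF n

theorem exists_GU_pair {x f x' f' : Fin n → F} (hp : Hyp hF x f) (hp' : Hyp hF x' f') :
    ∃ g : ↥(Cfsg.GU n F q), g.1.1 *ᵥ x = x' ∧ g.1.1 *ᵥ f = f' := by
  classical
  have hli : LinearIndependent F ![x, f] := by
    refine LinearIndependent.pair_iff.2 fun a b hab => ?_
    have h1 := congrArg (H x) hab
    have h2 := congrArg (H f) hab
    simp only [map_add, form_smul_right, map_zero, hp.hx.2, hp.hxf, hp.hf.2, hp.hfx, mul_zero, mul_one, zero_add,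
      add_zero] at h1 h2
    exact ⟨h2, h1⟩
  let b := Basis.span hli
  let φ : Submodule.span F (Set.range ![x, f]) →ₗ[F] V := b.constr F ![x', f']
  have hb : ∀ i, (b i : V) = ![x, f] i := fun i => Basis.coe_span_apply hli i
  have hφb : ∀ i, φ (b i) = ![x', f'] i := fun i => Basis.constr_basis b F _ i
  have hform : ∀ u v, H (φ u) (φ v) = H (u : V) (v : V) := by
    intro u v
    rw [← b.sum_repr u, ← b.sum_repr v]
    simp only [Fin.sum_univ_two, map_add, map_smul, LinearMap.add_apply, Submodule.coe_add, Submodule.coe_smul,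
      form_smul_left, form_smul_right, hφb, hb, Matrix.cons_val_zero, Matrix.cons_val_one, hp.hx.2, hp.hxf, hp.hfx,
      hp.hf.2, hp'.hx.2, hp'.hxf, hp'.hfx, hp'.hf.2]
  have hinj : Function.Injective φ := by
    refine (injective_iff_map_eq_zero φ).2 fun u hu => ?_
    rw [← b.sum_repr u] at hu ⊢
    simp only [Fin.sum_univ_two, map_add, map_smul, hφb, Matrix.cons_val_zero, Matrix.cons_val_one] at hu ⊢
    have h1 := congrArg (H x') hu
    have h2 := congrArg (H f') hu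
    simp only [map_add, form_smul_right, map_zero, hp'.hx.2, hp'.hxf, hp'.hf.2, hp'.hfx, mul_zero, mul_one, zero_add,
      add_zero] at h1 h2
    rw [h1, h2, zero_smul, zero_smul, add_zero]
  obtain ⟨t, ht, htv⟩ := witt (frob_ne_id hF) (frob_frob hF) (hB_isSymm hF n) (hB_nondegenerate hF n) _ φ hinj hform
  refine ⟨(guEquiv hF n).symm ⟨t, ht⟩, ?_, ?_⟩
  · rw [← guEquiv_apply hF n, MulEquiv.apply_symm_apply]
    have := htv (b 0)
    rwa [hb, hφb] at this
  · rw [← guEquiv_apply hF n, MulEquiv.apply_symm_apply]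
    have := htv (b 1)
    rwa [hb, hφb] at this

theorem exists_GU_iso {v w : Fin n → F} (hv : Iso hF v) (hw : Iso hF w) :
    ∃ g : ↥(Cfsg.GU n F q), g.1.1 *ᵥ v = w := by
  obtain ⟨f, hf, hvf⟩ := exists_partner hF hv
  obtain ⟨f', hf', hwf'⟩ := exists_partner hF hw
  obtain ⟨g, hg, -⟩ := exists_GU_pair hF ⟨hv, hf, hvf⟩ ⟨hw, hf', hwf'⟩
  exact ⟨g, hg⟩

theorem card_cls_aut {X : Type*} [Group X] (γ : MulAut X) (a : X) : Nat.card (cls (γ a)) = Nat.card (cls a) := by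
  have e : cls (γ a) = γ '' cls a := by
    ext b
    constructor
    · rintro ⟨g, rfl⟩
      exact ⟨_, ⟨γ.symm g, rfl⟩, by simp⟩
    · rintro ⟨_, ⟨g, rfl⟩, rfl⟩
      exact ⟨γ g, by simp⟩
  rw [e, Nat.card_image_of_injective γ.injective]

theorem Skew.div_fixed {k l : F} (hk : Skew hF k) (hl : Skew hF l) : σ₀ (k / l) = k / l := by
  rw [map_div₀, hk.conj, hl.conj, neg_div_neg_eq]

variable (p : ℕ) [Fact p.Prime] [CharP F p]

include p in
theorem not_dvd_card_cls_tU (hn : 2 ≤ n) {v : Fin n → F} (hv : Iso hF v) {k : F} (hk0 : k ≠ 0) (hk : Skew hF k) :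
    ¬ p ∣ Nat.card (cls (tU hF v k)) := by
  classical
  -- some transvection is central in a Sylow subgroup
  obtain ⟨P₀⟩ : Nonempty (Sylow p G) := inferInstance
  have hdvd : p ∣ Nat.card G := by
    have h1 := orderOf_eq_prime (tU_pow_char hF p hv.2 hk) (tU_ne_one hF hv hk0 hk)
    exact h1 ▸ orderOf_dvd_natCard _
  haveI : Nontrivial (P₀ : Subgroup G) :=
    (Subgroup.nontrivial_iff_ne_bot _).2 (P₀.ne_bot_of_dvd_card hdvd)
  have hP : IsPGroup p (P₀ : Subgroup G) := P₀.2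
  haveI : Nontrivial (Subgroup.center (P₀ : Subgroup G)) := hP.center_nontrivial
  obtain ⟨⟨z, hz⟩, hz1⟩ := exists_ne (1 : Subgroup.center (P₀ : Subgroup G))
  obtain ⟨j, hj⟩ := hP z
  have hzc : ¬ p ∣ Nat.card (cls (z : G)) := by
    have hle : (P₀ : Subgroup G) ≤ Subgroup.centralizer {(z : G)} := fun y hy =>
      Subgroup.mem_centralizer_singleton_iff.2 (congrArg Subtype.val (Subgroup.mem_center_iff.1 hz ⟨y, hy⟩))
    have hcard : Nat.card (cls (z : G)) = (Subgroup.centralizer {(z : G)}).index := by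
      refine Eq.trans ?_ (((congrArg Subgroup.index (Subgroup.centralizer_eq_comap_stabilizer (z : G))).trans
        (Subgroup.index_comap_of_surjective (MulAction.stabilizer (ConjAct G) (z : G))
          (f := (ConjAct.toConjAct : G ≃* ConjAct G).toMonoidHom) (ConjAct.toConjAct : G ≃* ConjAct G).surjective)).symm)
      rw [MulAction.index_stabilizer, ← Nat.card_coe_set_eq]
      refine Nat.card_congr (Equiv.setCongr (Set.ext fun y => ⟨?_, ?_⟩))
      · rintro ⟨g, rfl⟩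
        exact ⟨ConjAct.toConjAct g, ConjAct.smul_def _ _⟩
      · rintro ⟨g, rfl⟩
        exact ⟨ConjAct.ofConjAct g, (ConjAct.smul_def g _).symm⟩
    rw [hcard]
    intro h
    exact P₀.not_dvd_index (h.trans (Subgroup.index_dvd_of_le hle))
  obtain ⟨w, c, hw, hc0, hc, hzw⟩ := exists_eq_tU hF p hn (x := (z : G))
    (fun h => hz1 (Subtype.ext (Subtype.ext h))) (k := j)
    (by simpa using congrArg Subtype.val hj) hzc
  -- all transvections are conjugate in the unitary group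
  obtain ⟨a, ha⟩ := exists_norm_fixed (frob_ne_id hF) (frob_frob hF) (div_ne_zero hc0 hk0) (hc.div_fixed hF hk)
  have ha0 : a ≠ 0 := fun h => div_ne_zero hc0 hk0 (by rw [← ha, h, mul_zero])
  obtain ⟨g, hg⟩ := exists_GU_iso hF (hw.smul hF ha0) hv
  have hzk : (z : G) = tU hF (a • w) k := by
    rw [hzw, tU_smul hF hw.2 hk, ha, div_mul_cancel₀ _ hk0]
  rw [show tU hF v k = cnj g (z : G) by rw [hzk, cnj_tU hF g (hw.smul hF ha0).2 hk, hg], card_cls_aut]
  exact hzc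

section PSU

include hF p in
theorem card_cls_mk (hn : 2 ≤ n) {x : G} {k : ℕ} (hx : x ^ p ^ k = 1) :
    Nat.card (cls (QuotientGroup.mk x : P)) = Nat.card (cls x) := by
  have e : cls (QuotientGroup.mk x : P) = (fun y : G => (QuotientGroup.mk y : P)) '' cls x := by
    ext a
    constructor
    · rintro ⟨g, rfl⟩
      obtain ⟨g, rfl⟩ := QuotientGroup.mk_surjective g
      exact ⟨_, ⟨g, rfl⟩, rfl⟩
    · rintro ⟨_, ⟨g, rfl⟩, rfl⟩
      exact ⟨QuotientGroup.mk g, rfl⟩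
  rw [e]
  refine Nat.card_image_of_injOn ?_
  rintro _ ⟨g, rfl⟩ _ ⟨l, rfl⟩ h
  exact mk_inj_of_pow hF p hn (k := k) (l := k) (by rw [conj_pow, hx, mul_one, mul_inv_cancel])
    (by rw [conj_pow, hx, mul_one, mul_inv_cancel]) h

/-- The class of a transvection in `PSU`. -/
noncomputable def tP (v : V) (k : F) : P := QuotientGroup.mk (tU hF v k)

include p in
theorem exists_image (hn : 2 ≤ n) (γ : MulAut P) {v : Fin n → F} (hv : Iso hF v) {k : F} (hk0 : k ≠ 0)
    (hk : Skew hF k) : ∃ (w : V) (l : F), Iso hF w ∧ l ≠ 0 ∧ Skew hF l ∧ γ (tP hF v k) = tP hF w l := by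
  have ht : (tU hF v k) ^ p ^ 1 = 1 := by rw [pow_one]; exact tU_pow_char hF p hv.2 hk
  obtain ⟨y, hy, hyt⟩ := exists_lift_pow hF p hn (a := γ (tP hF v k))
    (k := 1) (by rw [tP, ← map_pow, ← QuotientGroup.mk_pow, ht, QuotientGroup.mk_one, map_one])
  have hcard : Nat.card (cls y) = Nat.card (cls (tU hF v k)) := by
    rw [← card_cls_mk hF p hn hy, hyt, card_cls_aut, tP, card_cls_mk hF p hn ht]
  have hy1 : y ≠ 1 := fun h => by
    rw [h, QuotientGroup.mk_one] at hyt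
    exact tU_ne_one hF hv hk0 hk (mk_inj_of_pow hF p hn ht (one_pow (p ^ 1))
      (γ.injective (show γ (tP hF v k) = γ (QuotientGroup.mk 1) by rw [← hyt, QuotientGroup.mk_one, map_one])))
  obtain ⟨w, l, hw, hl0, hl, rfl⟩ := exists_eq_tU hF p hn hy1 hy (hcard ▸ not_dvd_card_cls_tU hF p hn hv hk0 hk)
  exact ⟨w, l, hw, hl0, hl, hyt.symm⟩

include p in
theorem commute_tP_iff (hn : 2 ≤ n) {v w : Fin n → F} (hv : Iso hF v) (hw : Iso hF w) {k l : F} (hk0 : k ≠ 0)
    (hk : Skew hF k) (hl0 : l ≠ 0) (hl : Skew hF l) : Commute (tP hF v k) (tP hF w l) ↔ H v w = 0 := by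
  rw [← commute_tU_iff hF hv hw hk0 hk hl0 hl]
  refine ⟨fun h => ?_, fun h => ?_⟩
  · have h1 : (QuotientGroup.mk (tU hF v k * tU hF w l * (tU hF v k)⁻¹) : P) = QuotientGroup.mk (tU hF w l) := by
      rw [QuotientGroup.mk_mul, QuotientGroup.mk_mul, QuotientGroup.mk_inv]
      show tP hF v k * tP hF w l * (tP hF v k)⁻¹ = tP hF w l
      rw [h.eq, mul_inv_cancel_right]
    refine mul_inv_eq_iff_eq_mul.1 (mk_inj_of_pow hF p hn (k := 1) (l := 1) ?_ ?_ h1)
    · rw [conj_pow, pow_one, tU_pow_char hF p hw.2 hl, mul_one, mul_inv_cancel]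
    · rw [pow_one, tU_pow_char hF p hw.2 hl]
  · show QuotientGroup.mk _ * QuotientGroup.mk _ = (QuotientGroup.mk _ * QuotientGroup.mk _ : P)
    rw [← QuotientGroup.mk_mul, ← QuotientGroup.mk_mul, h.eq]

include p in
theorem tP_inj (hn : 2 ≤ n) {v w : Fin n → F} (hv : Iso hF v) (hw : Iso hF w) {k l : F} (hk0 : k ≠ 0)
    (hk : Skew hF k) (hl : Skew hF l) (h : tP hF v k = tP hF w l) :
    ∃ a : F, a ≠ 0 ∧ w = a • v ∧ k = σ₀ a * a * l :=
  tU_inj hF hv hw.2 hk0 hk hl (mk_inj_of_pow hF p hn (k := 1) (l := 1)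
    (by rw [pow_one]; exact tU_pow_char hF p hv.2 hk) (by rw [pow_one]; exact tU_pow_char hF p hw.2 hl) h)

theorem conj_tP (g : G) {v : Fin n → F} (hv : H v v = 0) {k : F} (hk : Skew hF k) :
    (QuotientGroup.mk g : P) * tP hF v k * (QuotientGroup.mk g)⁻¹ = tP hF (act g v) k := by
  rw [tP, tP, ← QuotientGroup.mk_inv, ← QuotientGroup.mk_mul, ← QuotientGroup.mk_mul, conj_tU hF g hv hk]

theorem innd_tP (g : ↥(Cfsg.GU n F q)) {v : Fin n → F} (hv : H v v = 0) {k : F} (hk : Skew hF k) :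
    (innd g : MulAut P) (tP hF v k) = tP hF (g.1.1 *ᵥ v) k := by
  rw [tP, tP, innd_mk, cnj_tU hF g hv hk]

theorem fld_tP (σ : F ≃+* F) {v : Fin n → F} (hv : H v v = 0) {k : F} (hk : Skew hF k) :
    (fld σ : MulAut P) (tP hF v k) = tP hF (σ ∘ v) (σ k) := by
  rw [tP, tP, fld_mk, frobU_tU hF σ hv hk]

/-- `w` spans the image of the point `v`. -/
def Img (γ : MulAut P) (v w : V) : Prop :=
  Iso hF v ∧ Iso hF w ∧
    ∃ k l : F, k ≠ 0 ∧ Skew hF k ∧ l ≠ 0 ∧ Skew hF l ∧ γ (tP hF v k) = tP hF w l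

variable {γ : MulAut (Cfsg.PSU n F q)} {v v' w w' : Fin n → F}

include p in
theorem exists_img (hn : 2 ≤ n) (γ : MulAut P) {v : Fin n → F} (hv : Iso hF v) : ∃ w, Img hF γ v w := by
  obtain ⟨k, hk0, hk⟩ := exists_skew hF
  obtain ⟨w, l, hw, hl0, hl, e⟩ := exists_image hF p hn γ hv hk0 hk
  exact ⟨w, hv, hw, k, l, hk0, hk, hl0, hl, e⟩

theorem Img.symm (h : Img hF γ v w) : Img hF γ⁻¹ w v := by
  obtain ⟨hv, hw, k, l, hk0, hk, hl0, hl, e⟩ := h
  exact ⟨hw, hv, l, k, hl0, hl, hk0, hk, by rw [MulAut.inv_def, MulEquiv.symm_apply_eq, e]⟩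

theorem Img.smul_right (h : Img hF γ v w) {a : F} (ha : a ≠ 0) : Img hF γ v (a • w) := by
  obtain ⟨hv, hw, k, l, hk0, hk, hl0, hl, e⟩ := h
  have ha' : σ₀ a ≠ 0 := (map_ne_zero _).2 ha
  refine ⟨hv, hw.smul hF ha, k, σ₀ a⁻¹ * a⁻¹ * l, hk0, hk,
    mul_ne_zero (mul_ne_zero (by simpa using ha') (inv_ne_zero ha)) hl0, hl.norm_mul hF _, ?_⟩
  rw [e, tP, tP, tU_smul hF hw.2 (hl.norm_mul hF _), map_inv₀]
  congr 2
  field_simp

theorem Img.smul_left (h : Img hF γ v w) {a : F} (ha : a ≠ 0) : Img hF γ (a • v) w :=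
  inv_inv γ ▸ Img.symm hF (Img.smul_right hF (Img.symm hF h) ha)

include p in
theorem Img.orth (hn : 2 ≤ n) (h : Img hF γ v w) (h' : Img hF γ v' w') : H v v' = 0 ↔ H w w' = 0 := by
  obtain ⟨hv, hw, k, l, hk0, hk, hl0, hl, e⟩ := h
  obtain ⟨hv', hw', k', l', hk0', hk', hl0', hl', e'⟩ := h'
  rw [← commute_tP_iff hF p hn hv hv' hk0 hk hk0' hk', ← commute_tP_iff hF p hn hw hw' hl0 hl hl0' hl', ← e, ← e']
  exact ⟨fun h => h.map γ, fun h => by simpa using h.map γ.symm⟩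

include p in
/-- The image point is unique. -/
theorem Img.unique (hn : 2 ≤ n) (h : Img hF γ v w) (h' : Img hF γ v w') : ∃ a : F, a ≠ 0 ∧ w' = a • w := by
  refine eq_smul_of_perp hF h.2.1 h'.2.1 fun u hu hwu => ?_
  obtain ⟨t, ht⟩ := exists_img hF p hn γ⁻¹ hu
  have ht' : Img hF γ t u := by simpa using ht.symm
  exact (Img.orth hF p hn h' ht').1 ((Img.orth hF p hn h ht').2 hwu)

include p in
theorem Img.unique_left (hn : 2 ≤ n) (h : Img hF γ v w) (h' : Img hF γ v' w) : ∃ a : F, a ≠ 0 ∧ v' = a • v :=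
  Img.unique hF p hn h.symm h'.symm

include p in
/-- Every transvection of a point goes to one of the image point. -/
theorem Img.transvection (hn : 2 ≤ n) (h : Img hF γ v w) {k : F} (hk0 : k ≠ 0) (hk : Skew hF k) :
    ∃ l : F, l ≠ 0 ∧ Skew hF l ∧ γ (tP hF v k) = tP hF w l := by
  obtain ⟨u, l, hu, hl0, hl, e⟩ := exists_image hF p hn γ h.1 hk0 hk
  obtain ⟨a, ha, rfl⟩ := Img.unique hF p hn h ⟨h.1, hu, k, l, hk0, hk, hl0, hl, e⟩
  exact ⟨_, mul_ne_zero (mul_ne_zero ((map_ne_zero _).2 ha) ha) hl0, hl.norm_mul hF a,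
    by rw [e, tP, tP, tU_smul hF h.2.1.2 hl]⟩

/-- Equivariance. -/
theorem Img.conj (h : Img hF γ v w) {g g' : G} (hg : γ (QuotientGroup.mk g) = QuotientGroup.mk g') :
    Img hF γ (act g v) (act g' w) := by
  obtain ⟨hv, hw, k, l, hk0, hk, hl0, hl, e⟩ := h
  exact ⟨hv.act hF g, hw.act hF g', k, l, hk0, hk, hl0, hl, by
    rw [← conj_tP hF g hv.2 hk, map_mul, map_mul, map_inv, hg, e, conj_tP hF g' hw.2 hl]⟩

theorem Img.innd_mul (h : Img hF γ v w) (g : ↥(Cfsg.GU n F q)) : Img hF (innd g * γ) v (g.1.1 *ᵥ w) := by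
  obtain ⟨hv, hw, k, l, hk0, hk, hl0, hl, e⟩ := h
  exact ⟨hv, hw.mulVec hF g, k, l, hk0, hk, hl0, hl, by rw [MulAut.mul_apply, e, innd_tP hF g hw.2 hl]⟩

theorem img_innd_mul_fld (g : ↥(Cfsg.GU n F q)) (σ : F ≃+* F) {v : Fin n → F} (hv : Iso hF v) :
    Img hF (innd g * fld σ) v (g.1.1 *ᵥ (σ ∘ v)) := by
  obtain ⟨k, hk0, hk⟩ := exists_skew hF
  exact ⟨hv, (hv.map hF σ).mulVec hF g, k, σ k, hk0, hk, (map_ne_zero σ).2 hk0, hk.map hF σ, by
    rw [MulAut.mul_apply, fld_tP hF σ hv.2 hk, innd_tP hF g (hv.map hF σ).2 (hk.map hF σ)]⟩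

theorem Img.comp {δ : MulAut P} (h : Img hF γ v w) (h' : ∀ l : F, l ≠ 0 → Skew hF l →
    ∃ l' : F, l' ≠ 0 ∧ Skew hF l' ∧ δ (tP hF w l) = tP hF w' l') (hw' : Iso hF w') : Img hF (δ * γ) v w' := by
  obtain ⟨hv, hw, k, l, hk0, hk, hl0, hl, e⟩ := h
  obtain ⟨l', hl0', hl', e'⟩ := h' l hl0 hl
  exact ⟨hv, hw', k, l', hk0, hk, hl0', hl', by rw [MulAut.mul_apply, e, e']⟩

include p in
/-- An automorphism fixing every isotropic point is trivial. -/
theorem eq_one_of_fixes_points (hn : 3 ≤ n) (δ : MulAut P) (h : ∀ v : V, Iso hF v → Img hF δ v v) : δ = 1 := by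
  have hn2 : 2 ≤ n := by omega
  refine aut_ext fun s => ?_
  obtain ⟨s', hs'⟩ := QuotientGroup.mk_surjective (δ (QuotientGroup.mk s : P))
  rw [MulAut.one_apply, ← hs', QuotientGroup.eq]
  have hline : ∀ v : V, Iso hF v → ∃ a : F, act (s'⁻¹ * s) v = a • v := by
    intro v hv
    obtain ⟨a, -, ha⟩ := Img.unique hF p hn2 (Img.conj hF (h v hv) hs'.symm) (h _ (hv.act hF s))
    exact ⟨a, by rw [act_mul, ha, act_smul, act_inv_cancel]⟩
  obtain ⟨x, -, hx0, hxx⟩ := exists_iso_ne_zero (frob_ne_id hF) (frob_frob hF) (hB_isSymm hF n) ⊤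
    (by rw [finrank_top, finrank_fin_fun]; omega)
  obtain ⟨f, hf, hxf⟩ := exists_partner hF (v := x) ⟨hx0, hxx⟩
  have Q : Hyp hF x f := ⟨⟨hx0, hxx⟩, hf, hxf⟩
  obtain ⟨a, ha⟩ := Q.scalar_of_eigen hF (mat (s'⁻¹ * s)).mulVecLin ⊤ trivial trivial (hline x Q.hx)
    (fun z _ hzz hxz => hline z ⟨fun h0 => by rw [h0, map_zero] at hxz; exact zero_ne_one hxz, hzz⟩)
  refine Subgroup.mem_center_iff.2 fun g => su_ext fun y => ?_
  rw [act_mul g, act_mul (s'⁻¹ * s), show act (s'⁻¹ * s) y = a • y from ha y trivial, act_smul]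
  exact (ha _ trivial).symm

end PSU

end Cfsg.Lib.Linear.AutPSU
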