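import Cfsg.Agent.Lib.Linear.Isotropic
import Cfsg.Agent.Lib.Linear.UnitaryCenter

/-!
# Transvections in the special unitary group of matrices

`h hF u v` is the standard Hermitian form (linear in `v`), `tU hF v k` the transvection `x ↦ x + k h(v, x) v` of an
isotropic `v` and a `k` of trace `0`, and `radU hF v` the unipotent radical of the stabiliser of the point `v`.
-/

set_option autoImplicit false

namespace Cfsg.Lib.Linear.AutPSU

open Matrix Module Cfsg.Lib.Linear.Herm

set_option quotPrecheck false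

variable {n : ℕ} {F : Type*} [Field F] [Fintype F] {q : ℕ} (hF : Fintype.card F = q ^ 2)

local notation "V" => (Fin n → F)
local notation "G" => ↥(Cfsg.SU n F q)
local notation "σ₀" => frob hF
local notation "H" => hB hF n

/-- The matrix of an element of `SU`. -/
abbrev mat (g : G) : Matrix (Fin n) (Fin n) F := ((g : Matrix.SpecialLinearGroup (Fin n) F) : Matrix (Fin n) (Fin n) F)

/-- The action on column vectors. -/
def act (g : G) (v : V) : V := mat g *ᵥ v

omit [Fintype F] in
theorem act_one (v : V) : act (1 : G) v = v := Matrix.one_mulVec v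

omit [Fintype F] in
theorem act_mul (g k : G) (v : V) : act (g * k) v = act g (act k v) := (Matrix.mulVec_mulVec v _ _).symm

omit [Fintype F] in
theorem act_inv_cancel (g : G) (v : V) : act g⁻¹ (act g v) = v := by rw [← act_mul, inv_mul_cancel, act_one]

omit [Fintype F] in
theorem act_cancel_inv (g : G) (v : V) : act g (act g⁻¹ v) = v := by rw [← act_mul, mul_inv_cancel, act_one]

omit [Fintype F] in
theorem act_smul (g : G) (a : F) (v : V) : act g (a • v) = a • act g v := Matrix.mulVec_smul _ _ _

omit [Fintype F] in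
theorem act_add (g : G) (v w : V) : act g (v + w) = act g v + act g w := Matrix.mulVec_add _ _ _

omit [Fintype F] in
theorem act_sub (g : G) (v w : V) : act g (v - w) = act g v - act g w := Matrix.mulVec_sub _ _ _

omit [Fintype F] in
theorem act_zero (g : G) : act g (0 : V) = 0 := Matrix.mulVec_zero _

omit [Fintype F] in
theorem act_ne_zero (g : G) {v : V} (hv : v ≠ 0) : act g v ≠ 0 := fun h =>
  hv (by rw [← act_inv_cancel g v, h, act_zero])

omit [Fintype F] in
theorem su_ext {g k : G} (e : ∀ v : V, act g v = act k v) : g = k :=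
  Subtype.ext (Subtype.ext (Matrix.toLin'.injective (LinearMap.ext fun v => e v)))

theorem form_act (g : G) (u v : V) : H (act g u) (act g v) = H u v := g.2 v u

theorem form_symm (u v : V) : σ₀ (H u v) = H v u := (hB_isSymm hF n).eq u v

theorem form_comm_zero {u v : V} : H u v = 0 ↔ H v u = 0 :=
  ⟨(hB_isSymm hF n).isRefl u v, (hB_isSymm hF n).isRefl v u⟩

theorem form_smul_left (a : F) (u v : V) : H (a • u) v = σ₀ a * H u v := by
  rw [LinearMap.map_smulₛₗ, LinearMap.smul_apply, smul_eq_mul]

theorem form_smul_right (a : F) (u v : V) : H u (a • v) = a * H u v := by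
  rw [map_smul, smul_eq_mul]

/-- A nonzero isotropic vector. -/
def Iso (v : V) : Prop := v ≠ 0 ∧ H v v = 0

/-- A scalar of trace `0`. -/
def Skew (k : F) : Prop := k + σ₀ k = 0

theorem Skew.conj {k : F} (hk : Skew hF k) : σ₀ k = -k := eq_neg_of_add_eq_zero_right hk

theorem Iso.smul {v : V} (hv : Iso hF v) {a : F} (ha : a ≠ 0) : Iso hF (a • v) :=
  ⟨smul_ne_zero ha hv.1, by rw [form_smul_left, form_smul_right, hv.2, mul_zero, mul_zero]⟩

theorem Iso.act {v : V} (hv : Iso hF v) (g : G) : Iso hF (act g v) :=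
  ⟨act_ne_zero g hv.1, (form_act hF g v v).trans hv.2⟩

include hF in
theorem exists_skew : ∃ k : F, k ≠ 0 ∧ Skew hF k := exists_trace_zero (frob_ne_id hF) (frob_frob hF)

theorem self_mem (v : V) : σ₀ (H v v) = H v v := form_symm hF v v

theorem form_det_tU {v : V} (hv : H v v = 0) (k : F) :
    (1 + replicateCol Unit (k • v) * replicateRow Unit (fun i => v i ^ q)).det = 1 := by
  rw [Matrix.det_one_add_replicateCol_mul_replicateRow, dotProduct_smul]
  have : (fun i => v i ^ q) ⬝ᵥ v = H v v := by
    rw [hB_apply]; exact Finset.sum_congr rfl fun i _ => mul_comm _ _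
  rw [this, hv, smul_zero, add_zero]

theorem tU_mulVec_aux (v : V) (k : F) (x : V) :
    (1 + replicateCol Unit (k • v) * replicateRow Unit (fun i => v i ^ q)) *ᵥ x = x + (k * H v x) • v := by
  rw [Matrix.add_mulVec, Matrix.one_mulVec, ← Matrix.mulVec_mulVec]
  refine congrArg _ (funext fun i => ?_)
  have : (fun j => v j ^ q) ⬝ᵥ x = H v x := by
    rw [hB_apply]; exact Finset.sum_congr rfl fun i _ => mul_comm _ _
  simp only [Matrix.mulVec, dotProduct, Matrix.replicateCol_apply, Matrix.replicateRow_apply, Fintype.univ_unit,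
    Finset.sum_singleton, Pi.smul_apply, smul_eq_mul] at this ⊢
  rw [← this]
  ring

theorem tU_mem_aux {v : V} (hv : H v v = 0) {k : F} (hk : Skew hF k) :
    (⟨_, form_det_tU hF hv k⟩ : Matrix.SpecialLinearGroup (Fin n) F) ∈ Cfsg.SU n F q := fun x y => by
  show H ((1 + replicateCol Unit (k • v) * replicateRow Unit (fun i => v i ^ q)) *ᵥ y)
    ((1 + replicateCol Unit (k • v) * replicateRow Unit (fun i => v i ^ q)) *ᵥ x) = H y x
  rw [tU_mulVec_aux hF, tU_mulVec_aux hF]
  simp only [map_add, LinearMap.add_apply, form_smul_left, form_smul_right, hv, map_mul, form_symm, hk.conj]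
  ring

open Classical in
/-- The transvection with centre `v`; the identity unless `v` is isotropic and `k` has trace `0`. -/
noncomputable def tU (v : V) (k : F) : G :=
  if h : H v v = 0 ∧ Skew hF k then ⟨_, tU_mem_aux hF h.1 h.2⟩ else 1

theorem act_tU {v : V} (hv : H v v = 0) {k : F} (hk : Skew hF k) (x : V) :
    act (tU hF v k) x = x + (k * H v x) • v := by
  rw [tU, dif_pos ⟨hv, hk⟩]
  exact tU_mulVec_aux hF v k x

theorem conj_tU (g : G) {v : V} (hv : H v v = 0) {k : F} (hk : Skew hF k) :
    g * tU hF v k * g⁻¹ = tU hF (act g v) k := su_ext fun x => by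
  rw [act_mul, act_mul, act_tU hF hv hk, act_tU hF ((form_act hF g v v).trans hv) hk, act_add, act_cancel_inv,
    act_smul, ← form_act hF g v (act g⁻¹ x), act_cancel_inv]

theorem Skew.norm_mul {k : F} (hk : Skew hF k) (a : F) : Skew hF (σ₀ a * a * k) := by
  show _ + σ₀ (_ * _) = _
  rw [map_mul, map_mul, frob_frob hF, hk.conj]
  ring

theorem Skew.add {k l : F} (hk : Skew hF k) (hl : Skew hF l) : Skew hF (k + l) := by
  show _ + σ₀ (_ + _) = _
  rw [map_add, hk.conj, hl.conj]
  ring

theorem skew_zero : Skew hF (0 : F) := by show _ + σ₀ _ = _; rw [map_zero, add_zero]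

theorem tU_smul {v : V} (hv : H v v = 0) {k : F} (hk : Skew hF k) (a : F) :
    tU hF (a • v) k = tU hF v (σ₀ a * a * k) := su_ext fun x => by
  rw [act_tU hF (by rw [form_smul_left, form_smul_right, hv, mul_zero, mul_zero]) hk,
    act_tU hF hv (hk.norm_mul hF a), form_smul_left, smul_smul]
  congr 2
  ring

theorem tU_zero {v : V} (hv : H v v = 0) : tU hF v (0 : F) = 1 := su_ext fun x => by
  rw [act_tU hF hv (skew_zero hF), act_one, zero_mul, zero_smul, add_zero]

theorem tU_mul {v : V} (hv : H v v = 0) {k l : F} (hk : Skew hF k) (hl : Skew hF l) :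
    tU hF v k * tU hF v l = tU hF v (k + l) := su_ext fun x => by
  rw [act_mul, act_tU hF hv hl, act_tU hF hv hk, act_tU hF hv (hk.add hF hl), map_add, form_smul_right, hv]
  module

theorem tU_pow_char (p : ℕ) [Fact p.Prime] [CharP F p] {v : V} (hv : H v v = 0) {k : F} (hk : Skew hF k) :
    (tU hF v k) ^ p = 1 := by
  have key : ∀ j : ℕ, Skew hF ((j : F) * k) ∧ (tU hF v k) ^ j = tU hF v ((j : F) * k) := by
    intro j
    induction j with
    | zero => exact ⟨by rw [Nat.cast_zero, zero_mul]; exact skew_zero hF, by rw [pow_zero, Nat.cast_zero, zero_mul, tU_zero hF hv]⟩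
    | succ j ih =>
      rw [Nat.cast_succ, add_mul, one_mul]
      exact ⟨ih.1.add hF hk, by rw [pow_succ, ih.2, tU_mul hF hv ih.1 hk]⟩
  rw [(key p).2, CharP.cast_eq_zero, zero_mul, tU_zero hF hv]

theorem exists_pair {v : V} (hv : v ≠ 0) : ∃ z : V, H v z = 1 := by
  obtain ⟨x, hx⟩ : ∃ x, H v x ≠ 0 := by
    by_contra h
    push Not at h
    exact hv ((hB_nondegenerate hF n).1 v h)
  exact ⟨(H v x)⁻¹ • x, by rw [form_smul_right, inv_mul_cancel₀ hx]⟩

theorem tU_inj {v w : V} (hv : Iso hF v) (hw : H w w = 0) {k l : F} (hk0 : k ≠ 0) (hk : Skew hF k) (hl : Skew hF l)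
    (h : tU hF v k = tU hF w l) : ∃ a : F, a ≠ 0 ∧ w = a • v ∧ k = σ₀ a * a * l := by
  obtain ⟨z, hz⟩ := exists_pair hF hv.1
  have h1 := congrArg (fun g : G => act g z) h
  simp only [act_tU hF hv.2 hk, act_tU hF hw hl, add_right_inj, hz, mul_one] at h1
  have hd : l * H w z ≠ 0 := fun h0 => by
    rw [h0, zero_smul, smul_eq_zero] at h1
    exact h1.elim hk0 hv.1
  have hw' : w = ((l * H w z)⁻¹ * k) • v := by
    rw [← smul_smul, h1, smul_smul, inv_mul_cancel₀ hd, one_smul]
  refine ⟨_, mul_ne_zero (inv_ne_zero hd) hk0, hw', ?_⟩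
  have h2 := h
  rw [hw', tU_smul hF hv.2 hl] at h2
  have h3 := congrArg (fun g : G => act g z) h2
  simp only [act_tU hF hv.2 hk, act_tU hF hv.2 (hl.norm_mul hF _), add_right_inj, hz, mul_one] at h3
  exact smul_left_injective F hv.1 h3

theorem tU_ne_one {v : V} (hv : Iso hF v) {k : F} (hk0 : k ≠ 0) (hk : Skew hF k) : tU hF v k ≠ 1 := fun h => by
  obtain ⟨z, hz⟩ := exists_pair hF hv.1
  have h1 := congrArg (fun g : G => act g z) h
  simp only [act_tU hF hv.2 hk, act_one, add_eq_left, smul_eq_zero, hz, mul_one] at h1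
  exact h1.elim hk0 hv.1

theorem commute_tU_iff {v w : V} (hv : Iso hF v) (hw : Iso hF w) {k l : F} (hk0 : k ≠ 0) (hk : Skew hF k)
    (hl0 : l ≠ 0) (hl : Skew hF l) : Commute (tU hF v k) (tU hF w l) ↔ H v w = 0 := by
  constructor
  · intro h
    have h1 : tU hF (act (tU hF v k) w) l = tU hF w l := by
      rw [← conj_tU hF _ hw.2 hl, h.eq, mul_inv_cancel_right]
    obtain ⟨a, -, ha, -⟩ := tU_inj hF hw ((form_act hF _ w w).trans hw.2) hl0 hl hl h1.symm
    rw [act_tU hF hv.2 hk] at ha
    by_contra hne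
    have := congrArg (H w) ha
    simp only [map_add, form_smul_right, hw.2, mul_zero, zero_add] at this
    exact mul_ne_zero (mul_ne_zero hk0 hne) (fun h0 => hne ((form_comm_zero hF).1 h0)) this
  · intro h
    refine su_ext fun x => ?_
    simp only [act_mul, act_tU hF hv.2 hk, act_tU hF hw.2 hl, map_add, form_smul_right, h, (form_comm_zero hF).1 h]
    module

theorem exists_trace (a : F) (ha : σ₀ a = a) : ∃ x : F, x + σ₀ x = a :=
  exists_trace_eq (frob_ne_id hF) (frob_frob hF) ha

/-- An isotropic partner. -/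
theorem exists_partner {v : V} (hv : Iso hF v) : ∃ f : V, Iso hF f ∧ H v f = 1 := by
  obtain ⟨z, hz⟩ := exists_pair hF hv.1
  obtain ⟨a, ha⟩ := exists_trace hF (-(H z z)) (by rw [map_neg, self_mem])
  have hzv : H z v = 1 := by rw [← form_symm hF v z, hz, map_one]
  refine ⟨z + a • v, ⟨fun h0 => ?_, ?_⟩, ?_⟩
  · have := congrArg (H v) h0
    rw [map_add, form_smul_right, hv.2, hz, mul_zero, add_zero, map_zero] at this
    exact one_ne_zero this
  · simp only [map_add, LinearMap.add_apply, form_smul_left, form_smul_right, hv.2, hz, hzv, mul_one, mul_zero,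
      add_zero]
    linear_combination ha
  · rw [map_add, form_smul_right, hv.2, hz, mul_zero, add_zero]

/-- Outside a subspace orthogonal to an isotropic `w` some isotropic vector pairs with `w` and not with it. -/
theorem exists_iso_sep {S : Submodule F V} {w : V} (hw : Iso hF w) (hwS : w ∉ S) (hperp : ∀ s ∈ S, H s w = 0) :
    ∃ u : V, Iso hF u ∧ (∀ s ∈ S, H s u = 0) ∧ H w u = 1 := by
  obtain ⟨u₀, hu₀, hne⟩ := exists_perp_ne_zero (frob_frob hF) (hB_isSymm hF n) (hB_nondegenerate hF n) S hwS
  set u₁ := (H w u₀)⁻¹ • u₀ with hu₁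
  have h1 : H w u₁ = 1 := by rw [hu₁, form_smul_right, inv_mul_cancel₀ hne]
  have h1' : H u₁ w = 1 := by rw [← form_symm hF w u₁, h1, map_one]
  obtain ⟨a, ha⟩ := exists_trace hF (-(H u₁ u₁)) (by rw [map_neg, self_mem])
  have hwu : H w (u₁ + a • w) = 1 := by rw [map_add, form_smul_right hF a, hw.2, h1, mul_zero, add_zero]
  refine ⟨u₁ + a • w, ⟨fun h0 => ?_, ?_⟩, fun s hs => ?_, hwu⟩
  · rw [h0, map_zero] at hwu
    exact zero_ne_one hwu
  · simp only [map_add, LinearMap.add_apply, form_smul_left, form_smul_right, hw.2, h1, h1', mul_one, mul_zero,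
      add_zero]
    linear_combination ha
  · rw [map_add, form_smul_right hF a, hperp s hs, hu₁, form_smul_right, hu₀ s hs, mul_zero, mul_zero, add_zero]

/-- An isotropic vector is determined up to scalars by the isotropic vectors orthogonal to it. -/
theorem eq_smul_of_perp {v w : V} (hv : Iso hF v) (hw : Iso hF w) (h : ∀ u, Iso hF u → H v u = 0 → H w u = 0) :
    ∃ a : F, a ≠ 0 ∧ w = a • v := by
  have hwv : H w v = 0 := h v hv hv.2
  by_cases hmem : w ∈ Submodule.span F {v}
  · obtain ⟨a, ha⟩ := Submodule.mem_span_singleton.1 hmem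
    exact ⟨a, fun h0 => hw.1 (by rw [← ha, h0, zero_smul]), ha.symm⟩
  obtain ⟨u, hu, hS, hwu⟩ := exists_iso_sep hF hw hmem fun s hs => by
    obtain ⟨c, rfl⟩ := Submodule.mem_span_singleton.1 hs
    rw [form_smul_left, (form_comm_zero hF).1 hwv, mul_zero]
  exact absurd (h u hu (hS v (Submodule.mem_span_singleton_self v))) (by rw [hwu]; exact one_ne_zero)

/-! ### The coordinates of a hyperbolic pair -/

/-- The projection to the orthogonal complement of the hyperbolic pair `(x, f)`. -/
noncomputable def proj (x f : V) : V →ₗ[F] V :=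
  LinearMap.id - (H x).smulRight f - (H f).smulRight x

/-- A hyperbolic pair. -/
structure Hyp (x f : V) : Prop where
  hx : Iso hF x
  hf : Iso hF f
  hxf : H x f = 1

variable {x f : Fin n → F}

theorem proj_apply (v : V) : proj hF x f v = v - H x v • f - H f v • x := rfl

theorem Hyp.hfx (P : Hyp hF x f) : H f x = 1 := by rw [← form_symm hF x f, P.hxf, map_one]

theorem Hyp.proj_perp_x (P : Hyp hF x f) (v : V) : H x (proj hF x f v) = 0 := by
  rw [proj_apply, map_sub, map_sub, form_smul_right, form_smul_right, P.hxf, P.hx.2, mul_one, mul_zero, sub_zero,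
    sub_self]

theorem Hyp.proj_perp_f (P : Hyp hF x f) (v : V) : H f (proj hF x f v) = 0 := by
  rw [proj_apply, map_sub, map_sub, form_smul_right, form_smul_right, P.hf.2, P.hfx, mul_zero, mul_one, sub_zero,
    sub_self]

theorem proj_decomp (v : V) : v = H x v • f + proj hF x f v + H f v • x := by
  rw [proj_apply]; abel

theorem Hyp.proj_eq (P : Hyp hF x f) {a b : F} {u : V} (hxu : H x u = 0) (hfu : H f u = 0) :
    proj hF x f (a • f + u + b • x) = u := by
  simp only [proj_apply, map_add, form_smul_right, P.hxf, P.hfx, P.hx.2, P.hf.2, hxu, hfu]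
  module

theorem Hyp.proj_of_perp (P : Hyp hF x f) {u : V} (hxu : H x u = 0) (hfu : H f u = 0) : proj hF x f u = u := by
  rw [proj_apply, hxu, hfu, zero_smul, zero_smul, sub_zero, sub_zero]

theorem Hyp.form_f_add (P : Hyp hF x f) {a b : F} {u : V} (hxu : H x u = 0) (hfu : H f u = 0) :
    H x (a • f + u + b • x) = a ∧ H f (a • f + u + b • x) = b ∧
      H (a • f + u + b • x) (a • f + u + b • x) = σ₀ a * b + σ₀ b * a + H u u := by
  have h1 : H u x = 0 := (form_comm_zero hF).1 hxu
  have h2 : H u f = 0 := (form_comm_zero hF).1 hfu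
  simp only [map_add, LinearMap.add_apply, form_smul_left, form_smul_right, P.hxf, P.hfx, P.hx.2, P.hf.2, hxu, hfu, h1, h2]
  exact ⟨by ring, by ring, by ring⟩

theorem Hyp.iso_pair (P : Hyp hF x f) {a b : F} {u : V} (hxu : H x u = 0) (hfu : H f u = 0) (ha : a ≠ 0)
    (h : σ₀ a * b + σ₀ b * a + H u u = 0) : Iso hF (a • f + u + b • x) :=
  ⟨fun h0 => ha (by rw [← (P.form_f_add hF (a := a) (b := b) hxu hfu).1, h0, map_zero]),
    (P.form_f_add hF hxu hfu).2.2.trans h⟩

theorem Hyp.f_notMem (P : Hyp hF x f) : ∀ a : F, f ≠ a • x := fun a h => by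
  have := P.hxf
  rw [h, form_smul_right, P.hx.2, mul_zero] at this
  exact zero_ne_one this

theorem Hyp.exists_aniso (P : Hyp hF x f) (hn : 3 ≤ n) :
    ∃ u : V, H x u = 0 ∧ H f u = 0 ∧ H u u ≠ 0 := by
  by_contra hc
  push Not at hc
  obtain ⟨v, hv⟩ : ∃ v, proj hF x f v ≠ 0 := by
    by_contra h
    push Not at h
    have hle : (⊤ : Submodule F V) ≤ Submodule.span F {f, x} := fun v _ => by
      rw [proj_decomp hF (x := x) (f := f) v, h v, add_zero]
      exact Submodule.mem_span_pair.2 ⟨_, _, rfl⟩
    classical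
    have h1 := Submodule.finrank_mono hle
    rw [finrank_top, finrank_fin_fun] at h1
    have h2 := (finrank_span_finset_le_card (R := F) ({f, x} : Finset V)).trans Finset.card_le_two
    rw [Finset.coe_pair, Set.finrank] at h2
    omega
  set u := proj hF x f v with hu
  obtain ⟨z, hz⟩ := exists_pair hF hv
  set w := proj hF x f z with hw
  have hux : H x u = 0 := P.proj_perp_x hF v
  have huf : H f u = 0 := P.proj_perp_f hF v
  have huw : H u w = 1 := by
    rw [hw, proj_apply, map_sub, map_sub, form_smul_right, form_smul_right, hz, (form_comm_zero hF).1 huf,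
      (form_comm_zero hF).1 hux]
    ring
  obtain ⟨a, ha⟩ : ∃ a : F, a + σ₀ a ≠ 0 := by
    obtain ⟨a, ha⟩ := exists_trace hF 1 (map_one _)
    exact ⟨a, by rw [ha]; exact one_ne_zero⟩
  have h1 := hc (u + a • w) (by rw [map_add, form_smul_right, hux, P.proj_perp_x hF, mul_zero, add_zero])
    (by rw [map_add, form_smul_right, huf, P.proj_perp_f hF, mul_zero, add_zero])
  simp only [map_add, LinearMap.add_apply, form_smul_left, form_smul_right, hc u hux huf,
    hc w (P.proj_perp_x hF z) (P.proj_perp_f hF z), huw, ← form_symm hF u w, map_one, mul_one, mul_zero, add_zero,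
    zero_add] at h1
  exact ha (by linear_combination h1)

/-- A linear map with all isotropic vectors of a subspace off `x ^ ⊥` as eigenvectors is a scalar on it. -/
theorem Hyp.scalar_of_eigen (P : Hyp hF x f) (L : V →ₗ[F] V) (W : Submodule F V) (hxW : x ∈ W) (hfW : f ∈ W)
    (hx' : ∃ a : F, L x = a • x) (h : ∀ z ∈ W, H z z = 0 → H x z = 1 → ∃ a : F, L z = a • z) :
    ∃ a : F, ∀ v ∈ W, L v = a • v := by
  obtain ⟨a, ha⟩ := hx'
  obtain ⟨k, hk0, hk⟩ := exists_skew hF
  have key : ∀ u ∈ W, H x u = 0 → H f u = 0 → L f + L u = a • f + a • u := by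
    intro u hu hxu hfu
    obtain ⟨c, hc⟩ := exists_trace hF (-(H u u)) (by rw [map_neg, self_mem])
    have hz : ∀ b : F, b + σ₀ b + H u u = 0 → ∃ e : F, L (f + u + b • x) = e • (f + u + b • x) := by
      intro b hb
      obtain ⟨h1, -, h3⟩ := P.form_f_add hF (a := 1) (b := b) hxu hfu
      rw [one_smul] at h1 h3
      exact h _ (add_mem (add_mem hfW hu) (W.smul_mem b hxW)) (by rw [h3, map_one]; linear_combination hb) h1
    obtain ⟨e, he⟩ := hz c (by linear_combination hc)
    obtain ⟨e', he'⟩ := hz (c + k) (by rw [map_add, hk.conj]; linear_combination hc)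
    have hd : (k * a) • x = (e' - e) • f + (e' - e) • u + (e' * (c + k) - e * c) • x := by
      simp only [map_add, map_smul, ha] at he he'
      linear_combination (norm := module) he' - he
    have h1 := congrArg (H x) hd
    simp only [map_add, form_smul_right, P.hx.2, P.hxf, hxu, mul_zero, mul_one, add_zero] at h1
    obtain rfl : e' = e := sub_eq_zero.1 h1.symm
    have h2 := congrArg (H f) hd
    simp only [map_add, form_smul_right, P.hf.2, P.hfx, hfu, mul_zero, mul_one, sub_self, zero_smul, map_zero,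
      zero_add] at h2
    obtain rfl : e' = a := mul_left_cancel₀ hk0 (by linear_combination -h2)
    simp only [map_add, map_smul, ha] at he
    linear_combination (norm := module) he
  have hf' : L f = a • f := by simpa using key 0 W.zero_mem (map_zero _) (map_zero _)
  refine ⟨a, fun v hv => ?_⟩
  have hp : proj hF x f v ∈ W := W.sub_mem (W.sub_mem hv (W.smul_mem _ hfW)) (W.smul_mem _ hxW)
  have hu : L (proj hF x f v) = a • proj hF x f v := by
    have := key _ hp (P.proj_perp_x hF v) (P.proj_perp_f hF v)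
    rw [hf'] at this
    exact add_left_cancel this
  conv_lhs => rw [proj_decomp hF (x := x) (f := f) v]
  conv_rhs => rw [proj_decomp hF (x := x) (f := f) v]
  simp only [map_add, map_smul, hf', hu, ha, smul_add, smul_comm a]

end Cfsg.Lib.Linear.AutPSU
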