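import Cfsg.Agent.Lib.Linear.AutPSU.GraphProxy

/-!
# The quadratic extension of a finite field for graph automorphisms of `PSU_n(q)`
-/

set_option autoImplicit false

namespace Cfsg.Lib.Linear.AutPSU.Proxy

open Matrix Cfsg.Lib.Linear.AutPSU Cfsg.Lib.Linear.Herm
open scoped MatrixGroups

theorem exists_ctx {F : Type*} [Field F] [Fintype F] {q : ℕ} (hF : Fintype.card F = q ^ 2)
    (F₀ : Type*) [Field F₀] [Fintype F₀] (hF₀ : Fintype.card F₀ = q) :
    ∃ (p : ℕ) (_ : Fact p.Prime) (_ : CharP F p) (σ : F ≃+* F) (i : F₀ →+* F) (δ : F), Ctx σ i δ q := by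
  classical
  obtain ⟨⟨k, hk0⟩, hp, hk⟩ := FiniteField.card F₀ (ringChar F₀)
  haveI : Fact (ringChar F₀).Prime := ⟨hp⟩
  rw [PNat.mk_coe] at hk
  have hFp : Fintype.card F = ringChar F₀ ^ (2 * k) := by rw [hF, ← hF₀, hk, ← pow_mul, mul_comm]
  haveI : CharP F (ringChar F₀) := AutPSL.charP_of_card (show 1 ≤ 2 * k by omega) hFp
  let σ : F ≃+* F := RingEquiv.ofBijective (frob hF) (Finite.injective_iff_bijective.1 (RingHom.injective _))
  haveI : Fact (Nat.Prime 2) := ⟨Nat.prime_two⟩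
  have hne : σ ≠ 1 := fun h => frob_ne_id hF (RingHom.ext fun x => DFunLike.congr_fun h x)
  have hord : orderOf σ = 2 := orderOf_eq_prime (RingEquiv.ext fun x => frob_frob hF x) hne
  obtain ⟨i, hi⟩ := AutPSL.exists_embedding (show 1 ≤ 2 * k by omega) hFp two_pos hord F₀
    (by rw [hk, Nat.mul_div_cancel_left k two_pos])
  have hfrob : ∀ x, σ x = x ^ q := frob_apply hF
  obtain ⟨c, hc⟩ : ∃ c, σ c ≠ c := by
    by_contra h
    push_neg at h
    exact hne (RingEquiv.ext h)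
  refine ⟨_, inferInstance, inferInstance, σ, i, c - σ c, hord, hfrob, hi, ?_, sub_ne_zero.2 (Ne.symm hc)⟩
  rw [map_sub, neg_sub]
  exact congrArg (σ c - ·) (frob_frob hF c)

end Cfsg.Lib.Linear.AutPSU.Proxy
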