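import Cfsg.Agent.Lib.Linear.AutPSU.Field
import Cfsg.Agent.Lib.Linear.AutPSL.GraphForms

/-!
# Involutory graph automorphisms of `PSU_n(q)` through forms over the field of order `q`

A unitary `g` with `gᵀ = ±g` is `λ A σ(A)⁻¹`, and `σ(A)ᵀ A` is a multiple of a form `N` over the small field;
classes and centralisers of `innd g * fld σ` are those of the graph automorphism of `N` in `PSL_n(q)`.
-/

set_option autoImplicit false

namespace Cfsg.Lib.Linear.AutPSU.Proxy

open Matrix Cfsg.Lib.Linear.AutPSU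
open Cfsg.Lib.Linear.Descent (sc sm tw sc_val)
open Cfsg.Lib.Linear.AutPSL.GForms (grOf)
open scoped MatrixGroups

set_option quotPrecheck false

variable {n : ℕ} {F : Type*} [Field F] {q : ℕ} {F₀ : Type*} [Field F₀]

local notation "GUn" => ↥(Cfsg.GU n F q)
local notation "P" => Cfsg.PSU n F q
local notation "P₀" => Matrix.ProjectiveSpecialLinearGroup (Fin n) F₀
local notation "IDU" => (innd : GUn →* MulAut P).range
local notation "IDL" => (AutPSL.innd : GL (Fin n) F₀ →* MulAut P₀).range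

/-- The quadratic extension. -/
structure Ctx (σ : F ≃+* F) (i : F₀ →+* F) (δ : F) (q : ℕ) : Prop where
  hord : orderOf σ = 2
  hfrob : ∀ x, σ x = x ^ q
  hfix : ∀ x, σ x = x ↔ ∃ y, i y = x
  hδ : σ δ = -δ
  hδ0 : δ ≠ 0

/-- The involutory graph automorphism of a unitary matrix. -/
noncomputable def grU (σ : F ≃+* F) (g : GUn) : MulAut P := innd g * fld σ

variable {σ : F ≃+* F} {i : F₀ →+* F} {δ : F}

theorem Ctx.invol (X : Ctx σ i δ q) (x : F) : σ (σ x) = x := by
  have h := pow_orderOf_eq_one σ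
  rw [X.hord] at h
  exact DFunLike.congr_fun h x

theorem Ctx.map_map (X : Ctx σ i δ q) (M : Matrix (Fin n) (Fin n) F) : (M.map σ).map σ = M :=
  Matrix.ext fun _ _ => X.invol _

theorem Ctx.fix_map (X : Ctx σ i δ q) (M : Matrix (Fin n) (Fin n) F₀) : (M.map i).map σ = M.map i :=
  Matrix.ext fun _ _ => (X.hfix _).2 ⟨_, rfl⟩

theorem map_smul' (τ : F ≃+* F) (c : F) (M : Matrix (Fin n) (Fin n) F) : (c • M).map τ = τ c • M.map τ :=
  Matrix.ext fun _ _ => map_mul τ _ _

theorem mapi_smul (i : F₀ →+* F) (c : F₀) (M : Matrix (Fin n) (Fin n) F₀) : (c • M).map i = i c • M.map i :=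
  Matrix.ext fun _ _ => map_mul i _ _

theorem mapi_inj (i : F₀ →+* F) {M N : Matrix (Fin n) (Fin n) F₀} (h : M.map i = N.map i) : M = N :=
  Matrix.map_injective i.injective h

variable [Fintype F]

theorem Ctx.q_ne (_X : Ctx σ i δ q) (hF : Fintype.card F = q ^ 2) : q ≠ 0 := by
  rintro rfl
  exact Fintype.card_ne_zero (α := F) (by simpa using hF)

theorem Ctx.mem_GU (X : Ctx σ i δ q) (hF : Fintype.card F = q ^ 2) (g : GL (Fin n) F) :
    g ∈ Cfsg.GU n F q ↔ (g.val.map σ).transpose * g.val = 1 := by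
  rw [AutPSL.mem_GU_iff X.invol (X.q_ne hF) X.hfrob g, mul_eq_one_comm]

/-- The sign of a form and its multiplier. -/
def Canon (δ μ : F) (N : GL (Fin n) F₀) : Prop :=
  (N.val.transpose = N.val ∧ μ = 1) ∨ (N.val.transpose = -N.val ∧ μ = δ)

/-- A model of a graph automorphism over the small field. -/
def IsModel (σ : F ≃+* F) (i : F₀ →+* F) (δ : F) (g : GUn) (A : GL (Fin n) F) (μ : F) (N : GL (Fin n) F₀) : Prop :=
  (∃ l : F, l ≠ 0 ∧ g.1.val * A.val.map σ = l • A.val) ∧
    (A.val.map σ).transpose * A.val = μ • N.val.map i ∧ μ ≠ 0 ∧ Canon δ μ N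

/-- A graph involution of `PSU_n(q)` and a form over the small field correspond. -/
def IsProxy (σ : F ≃+* F) (i : F₀ →+* F) (δ : F) (γ : MulAut P) (N : GL (Fin n) F₀) : Prop :=
  ∃ (g : GUn) (A : GL (Fin n) F) (μ : F), γ = grU σ g ∧ IsModel σ i δ g A μ N

section Aut

variable (hF : Fintype.card F = q ^ 2) (p : ℕ) [Fact p.Prime] [CharP F p]

omit [Fintype F] in
theorem conj_grU (h g : GUn) :
    (innd h : MulAut P) * grU σ g * (innd h)⁻¹ = innd (h * g * (smGU σ h)⁻¹) * fld σ := by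
  have e : (innd (smGU σ h) : MulAut P)⁻¹ * fld σ = fld σ * (innd h)⁻¹ := by
    rw [inv_mul_eq_iff_eq_mul, ← mul_assoc, ← fld_mul_innd, mul_assoc, mul_inv_cancel, mul_one]
  rw [grU, map_mul, map_mul, map_inv, mul_assoc (innd h * innd g), e]
  simp only [mul_assoc]

include hF p in
theorem conj_iff (hn : 3 ≤ n) (h g g' : GUn) :
    (grU σ g' : MulAut P) = innd h * grU σ g * (innd h)⁻¹ ↔
      ∃ c : F, g'.1.val * h.1.val.map σ = c • (h.1.val * g.1.val) := by
  rw [conj_grU, grU, mul_left_inj, map_mul, map_inv, eq_mul_inv_iff_mul_eq, ← map_mul,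
    innd_eq_innd hF p hn]
  rfl

include hF p in
theorem grU_sq_iff (hn : 3 ≤ n) (hσ : orderOf σ = 2) (g : GUn) :
    (grU σ g : MulAut P) * grU σ g = 1 ↔ ∃ c : F, g.1.val * g.1.val.map σ = c • 1 := by
  have h : (grU σ g : MulAut P) * grU σ g = innd (g * smGU σ g) := by
    show innd g * fld σ * (innd g * fld σ) = _
    rw [mul_assoc, ← mul_assoc (fld σ), fld_mul_innd, mul_assoc, ← map_mul fld, ← sq, ← hσ, pow_orderOf_eq_one,
      map_one, mul_one, ← map_mul]
  rw [h, ← map_one (innd : GUn →* MulAut P), innd_eq_innd hF p hn]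
  rfl

include hF p in
theorem grU_ne_one (hn : 3 ≤ n) (hσ : orderOf σ = 2) (g : GUn) : (grU σ g : MulAut P) ≠ 1 := fun h => by
  rw [(innd_mul_fld_eq_one hF p hn h).2, orderOf_one] at hσ
  exact absurd hσ (by decide)

include hF p in
/-- The involutory graph automorphisms. -/
theorem graph_iff (hn : 3 ≤ n) (X : Ctx σ i δ q) (γ : MulAut P) :
    (Cfsg.IsGraphAutClassPSU γ ∧ orderOf γ = 2) ↔
      ∃ g : GUn, γ = grU σ g ∧ (g.1.val.transpose = g.1.val ∨ g.1.val.transpose = -g.1.val) := by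
  haveI : Fact (Nat.Prime 2) := ⟨Nat.prime_two⟩
  constructor
  · rintro ⟨⟨-, d, φ, τ, hev, ⟨g, hg, hd⟩, hφ, rfl⟩, h2⟩
    obtain rfl := isFieldAutPSUOf_iff.1 hφ
    obtain rfl : d = innd ⟨g, hg⟩ := aut_ext fun s => by
      rw [innd_mk]; exact hd s (cnj ⟨g, hg⟩ s) rfl
    have h1 : (innd ⟨g, hg⟩ * fld τ : MulAut P) * (innd ⟨g, hg⟩ * fld τ) = 1 := by
      rw [← sq, ← h2, pow_orderOf_eq_one]
    rw [mul_assoc, ← mul_assoc (fld τ), fld_mul_innd, mul_assoc, ← map_mul fld, ← mul_assoc, ← map_mul] at h1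
    have hτ2 : orderOf τ = 2 := by
      have hd : orderOf τ ∣ 2 := orderOf_dvd_of_pow_eq_one (by rw [sq]; exact (innd_mul_fld_eq_one hF p hn h1).2)
      rcases (Nat.dvd_prime Nat.prime_two).1 hd with h | h
      · rw [h] at hev; exact absurd hev (by decide)
      · exact h
    obtain rfl : τ = σ := RingEquiv.ext fun x => by
      rw [AutPSL.sigma_eq_frob hτ2 hF x, X.hfrob x]
    refine ⟨⟨g, hg⟩, rfl, ?_⟩
    obtain ⟨c, hc⟩ := (grU_sq_iff hF p hn hτ2 ⟨g, hg⟩).1 (by rw [← sq, ← h2]; exact pow_orderOf_eq_one _)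
    change g.val * g.val.map τ = c • 1 at hc
    have hu : g.val * (g.val.map τ).transpose = 1 := (AutPSL.mem_GU_iff X.invol (X.q_ne hF) X.hfrob g).1 hg
    have hu' : g.val.map τ * g.val.transpose = 1 := by
      rw [mul_eq_one_comm]
      calc g.val.transpose * g.val.map τ = ((g.val.map τ).transpose * g.val).transpose := by
            rw [Matrix.transpose_mul, Matrix.transpose_transpose]
        _ = 1 := by rw [mul_eq_one_comm.1 hu, Matrix.transpose_one]
    have hM : g.val = c • g.val.transpose := by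
      calc g.val = g.val * (g.val.map τ * g.val.transpose) := by rw [hu', mul_one]
        _ = c • g.val.transpose := by rw [← mul_assoc, hc, smul_mul_assoc, one_mul]
    have hne := AutPSL.GForms.val_ne_zero (show 0 < n by omega) g
    have hc0 : c ≠ 0 := fun h => hne (by rw [hM, h, zero_smul])
    exact AutPSL.GForms.scale_iff hne (c := Units.mk0 c hc0) hM
  · rintro ⟨g, rfl, hg⟩
    refine ⟨⟨hn, innd g, fld σ, σ, by rw [X.hord]; exact even_two, ⟨g.1, g.2, fun s s' h => ?_⟩,
      isFieldAutPSUOf_iff.2 rfl, rfl⟩, orderOf_eq_prime ?_ (grU_ne_one hF p hn X.hord g)⟩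
    · rw [innd_mk]
      exact congrArg _ (Subtype.ext (Subtype.ext h.symm))
    rw [sq, grU_sq_iff hF p hn X.hord]
    have hu : g.1.val * (g.1.val.map σ).transpose = 1 := (AutPSL.mem_GU_iff X.invol (X.q_ne hF) X.hfrob g.1).1 g.2
    rcases hg with h | h
    · refine ⟨1, ?_⟩
      rwa [← Matrix.transpose_map, h, ← one_smul F (1 : Matrix (Fin n) (Fin n) F)] at hu
    · refine ⟨-1, ?_⟩
      rw [← Matrix.transpose_map, h, Matrix.map_neg _ (map_neg σ), Matrix.mul_neg] at hu
      rw [neg_one_smul, ← hu, neg_neg]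

end Aut

section Models

variable (hF : Fintype.card F = q ^ 2)

include hF in
/-- Every unitary `g` with `gᵀ = ±g` has a model. -/
theorem exists_model (hn : 1 ≤ n) (X : Ctx σ i δ q) (g : GUn)
    (hg : g.1.val.transpose = g.1.val ∨ g.1.val.transpose = -g.1.val) :
    ∃ (A : GL (Fin n) F) (μ : F) (N : GL (Fin n) F₀), IsModel σ i δ g A μ N := by
  haveI : Fact (Nat.Prime 2) := ⟨Nat.prime_two⟩
  haveI : Nonempty (Fin n) := ⟨⟨0, by omega⟩⟩
  obtain ⟨ε, μ, hε, hμ0, hμ, hgt, hcanon⟩ : ∃ ε μ : F, ε * ε = 1 ∧ μ ≠ 0 ∧ σ μ = ε * μ ∧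
      g.1.val.transpose = ε • g.1.val ∧
      ∀ N : GL (Fin n) F₀, (N.val.map i).transpose = ε • N.val.map i → Canon δ μ N := by
    rcases hg with h | h
    · exact ⟨1, 1, one_mul 1, one_ne_zero, by rw [map_one, one_mul], by rw [h, one_smul],
        fun N hN => Or.inl ⟨mapi_inj i (by rw [Matrix.transpose_map, hN, one_smul]), rfl⟩⟩
    · exact ⟨-1, δ, by ring, X.hδ0, by rw [X.hδ, neg_one_mul], by rw [h, neg_one_smul],
        fun N hN => Or.inr ⟨mapi_inj i (by rw [Matrix.transpose_map, hN, neg_one_smul, Matrix.map_neg _ (map_neg i)]),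
          rfl⟩⟩
  have hσε : σ ε = ε := by
    rcases mul_self_eq_one_iff.1 hε with h | h <;> rw [h]
    · exact map_one σ
    · rw [map_neg, map_one]
  have hu : (g.1.val.map σ).transpose * g.1.val = 1 := (X.mem_GU hF g.1).1 g.2
  have hsq : g.1.val * g.1.val.map σ = ε • 1 := by
    rw [← Matrix.transpose_map, hgt, map_smul', hσε, smul_mul_assoc] at hu
    have h1 : g.1.val.map σ * g.1.val = ε • 1 := by
      rw [← hu, smul_smul, hε, one_smul]
    have h2 : (ε • g.1.val) * g.1.val.map σ = 1 :=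
      mul_eq_one_comm.1 (by rw [mul_smul_comm, h1, smul_smul, hε, one_smul])
    rw [← h2, smul_mul_assoc, smul_smul, hε, one_smul]
  have hε0 : ε ≠ 0 := fun h => by rw [h, mul_zero] at hε; exact zero_ne_one hε
  have htw : tw σ g.1 2 = sc (Units.mk0 ε hε0) := Units.ext (by
    rw [sc_val]
    simp only [Cfsg.Lib.Linear.Descent.tw, map_one, mul_one, Units.val_mul, Cfsg.Lib.Linear.Descent.sm_val]
    exact hsq)
  obtain ⟨d, A, hA⟩ := Cfsg.Lib.Linear.Descent.exists_sc_mul X.hord g.1 htw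
  have hgA : g.1.val * A.val.map σ = (d : F) • A.val := by
    have h := congrArg (fun x : GL (Fin n) F => (x * sm σ A).val) hA
    simp only [mul_assoc, inv_mul_cancel, mul_one, Units.val_mul, sc_val, Cfsg.Lib.Linear.Descent.sm_val,
      smul_mul_assoc, one_mul] at h
    exact h
  set W := μ⁻¹ • ((A.val.map σ).transpose * A.val) with hW
  have hN1 : A.val.transpose * A.val.map σ = ε • ((A.val.map σ).transpose * A.val) := by
    have hd0 : (d : F) ≠ 0 := d.ne_zero
    apply smul_right_injective (Matrix (Fin n) (Fin n) F) hd0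
    calc (d : F) • (A.val.transpose * A.val.map σ) = ((d : F) • A.val).transpose * A.val.map σ := by
          rw [Matrix.transpose_smul, smul_mul_assoc]
      _ = (A.val.map σ).transpose * (ε • g.1.val) * A.val.map σ := by rw [← hgA, Matrix.transpose_mul, hgt]
      _ = (d : F) • (ε • ((A.val.map σ).transpose * A.val)) := by
          rw [mul_smul_comm, smul_mul_assoc, mul_assoc, hgA, mul_smul_comm, smul_comm]
  have hWfix : W.map σ = W := by
    rw [hW, map_smul', map_inv₀, hμ, Matrix.map_mul, Matrix.transpose_map, X.map_map, hN1, smul_smul]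
    congr 1
    field_simp
  have hWt : W.transpose = ε • W := by
    rw [hW, Matrix.transpose_smul, Matrix.transpose_mul, Matrix.transpose_transpose, hN1, smul_comm]
  have hWd : W.det ≠ 0 := by
    rw [hW, Matrix.det_smul, Matrix.det_mul, Matrix.det_transpose]
    refine mul_ne_zero (pow_ne_zero _ (inv_ne_zero hμ0)) (mul_ne_zero ?_ (GeneralLinearGroup.det A).ne_zero)
    exact (GeneralLinearGroup.det (sm σ A)).ne_zero
  obtain ⟨N, hN⟩ := AutPSL.exists_map_eq i X.hfix (B := GeneralLinearGroup.mkOfDetNeZero W hWd)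
    (Units.ext hWfix)
  have hNW : N.val.map i = W := congrArg Units.val hN
  refine ⟨A, μ, N, ⟨d, d.ne_zero, hgA⟩, ?_, hμ0, hcanon N (by rw [hNW, hWt])⟩
  rw [hNW, hW, smul_smul, mul_inv_cancel₀ hμ0, one_smul]

include hF in
/-- Every form over the small field is a model. -/
theorem exists_of_form (X : Ctx σ i δ q) (N : GL (Fin n) F₀)
    (hN : N.val.transpose = N.val ∨ N.val.transpose = -N.val) :
    ∃ (g : GUn) (A : GL (Fin n) F) (μ : F), IsModel σ i δ g A μ N ∧
      (g.1.val.transpose = g.1.val ∨ g.1.val.transpose = -g.1.val) := by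
  obtain ⟨ε, μ, hε, hμ0, hμ, hNt, hsign, hcanon⟩ : ∃ ε μ : F, ε * ε = 1 ∧ μ ≠ 0 ∧ σ μ = ε * μ ∧
      (N.val.map i).transpose = ε • N.val.map i ∧ (ε = 1 ∨ ε = -1) ∧ Canon δ μ N := by
    rcases hN with h | h
    · exact ⟨1, 1, one_mul 1, one_ne_zero, by rw [map_one, one_mul], by rw [← Matrix.transpose_map, h, one_smul],
        Or.inl rfl, Or.inl ⟨h, rfl⟩⟩
    · exact ⟨-1, δ, by ring, X.hδ0, by rw [X.hδ, neg_one_mul],
        by rw [← Matrix.transpose_map, h, Matrix.map_neg _ (map_neg i), neg_one_smul], Or.inr rfl, Or.inr ⟨h, rfl⟩⟩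
  have hσε : σ ε = ε := by rcases hsign with h | h <;> simp [h]
  have hε0 : ε ≠ 0 := fun h => by rw [h, mul_zero] at hε; exact zero_ne_one hε
  have hWd : (μ • N.val.map i).det ≠ 0 := by
    rw [Matrix.det_smul]
    refine mul_ne_zero (pow_ne_zero _ hμ0) ?_
    rw [← RingHom.mapMatrix_apply, ← RingHom.map_det]
    exact (map_ne_zero i).2 (GeneralLinearGroup.det N).ne_zero
  have hWh : ((μ • N.val.map i).map σ).transpose = μ • N.val.map i := by
    rw [map_smul', X.fix_map, Matrix.transpose_smul, hNt, hμ, smul_smul]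
    congr 1
    linear_combination μ * hε
  obtain ⟨B, hB⟩ := Cfsg.Lib.Linear.Descent.exists_hermitian X.hord (GeneralLinearGroup.mkOfDetNeZero _ hWd) hWh
  change μ • N.val.map i = B.val * (B.val.map σ).transpose at hB
  let A : GL (Fin n) F := GeneralLinearGroup.mkOfDetNeZero (B.val.map σ).transpose (by
    rw [Matrix.det_transpose]; exact (GeneralLinearGroup.det (sm σ B)).ne_zero)
  have hAW : (A.val.map σ).transpose * A.val = μ • N.val.map i := by
    show (((B.val.map σ).transpose).map σ).transpose * (B.val.map σ).transpose = _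
    rw [Matrix.transpose_map, X.map_map, Matrix.transpose_transpose, hB]
  obtain ⟨l, hl⟩ := Cfsg.Lib.Linear.Descent.exists_norm X.hord hε0 hσε
  have hl0 : l ≠ 0 := fun h => hε0 (by rw [← hl, h, zero_mul])
  let g₀ : GL (Fin n) F := sc (Units.mk0 l hl0) * (A * (sm σ A)⁻¹)
  have hgA : g₀.val * A.val.map σ = l • A.val := by
    show (g₀ * sm σ A).val = _
    simp only [g₀, mul_assoc, inv_mul_cancel, mul_one, Units.val_mul, sc_val, smul_mul_assoc, one_mul, Units.val_mk0]
  have hAt : A.val.transpose * A.val.map σ = ε • ((A.val.map σ).transpose * A.val) := by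
    have h := congrArg Matrix.transpose hAW
    rw [Matrix.transpose_mul, Matrix.transpose_transpose, Matrix.transpose_smul, hNt, smul_comm, ← hAW] at h
    exact h
  have hu : (g₀.val.map σ).transpose * g₀.val = 1 := by
    have e1 : A.val.transpose * (g₀.val.map σ).transpose = σ l • (A.val.map σ).transpose := by
      have h := congrArg (fun M : Matrix (Fin n) (Fin n) F => (M.map σ).transpose) hgA
      simpa only [Matrix.map_mul, X.map_map, map_smul', Matrix.transpose_mul, Matrix.transpose_smul] using h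
    have h1 : A.val.transpose * ((g₀.val.map σ).transpose * g₀.val) * A.val.map σ =
        A.val.transpose * 1 * A.val.map σ := by
      rw [← mul_assoc, e1, smul_mul_assoc, smul_mul_assoc, mul_assoc, hgA, mul_smul_comm, smul_smul, mul_one, hAt,
        mul_comm, hl]
    have hu1 : IsUnit A.val.transpose := (Matrix.isUnit_iff_isUnit_det _).2 (by
      rw [Matrix.det_transpose]; exact (GeneralLinearGroup.det A).isUnit)
    exact hu1.mul_left_cancel ((sm σ A).isUnit.mul_right_cancel h1)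
  have hsq : g₀.val * g₀.val.map σ = ε • 1 := by
    have h1 : g₀.val * g₀.val.map σ * A.val = (ε • 1 : Matrix (Fin n) (Fin n) F) * A.val := by
      have h := congrArg (fun M : Matrix (Fin n) (Fin n) F => g₀.val * M.map σ) hgA
      simp only [Matrix.map_mul, X.map_map, map_smul', mul_smul_comm] at h
      rw [mul_assoc, h, hgA, smul_smul, mul_comm (σ l), hl, smul_mul_assoc, one_mul]
    exact A.isUnit.mul_right_cancel h1
  have hgt : g₀.val.transpose = ε • g₀.val := by
    have h1 : g₀.val.map σ * g₀.val.transpose = 1 := by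
      have h := congrArg Matrix.transpose (mul_eq_one_comm.1 hu)
      rw [Matrix.transpose_mul, Matrix.transpose_transpose, Matrix.transpose_one] at h
      exact h
    calc g₀.val.transpose = ε • (g₀.val * g₀.val.map σ * g₀.val.transpose) := by
          rw [hsq, smul_mul_assoc, one_mul, smul_smul, hε, one_smul]
      _ = ε • g₀.val := by rw [mul_assoc, h1, mul_one]
  refine ⟨⟨g₀, (X.mem_GU hF g₀).2 hu⟩, A, μ, ⟨⟨l, hl0, hgA⟩, hAW, hμ0, hcanon⟩, ?_⟩
  rcases hsign with h | h
  · left; show g₀.val.transpose = _; rw [hgt, h, one_smul]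
  · right; show g₀.val.transpose = _; rw [hgt, h, neg_one_smul]

variable {g g' : ↥(Cfsg.GU n F q)} {A A' : GL (Fin n) F} {μ μ' : F} {N N' : GL (Fin n) F₀}

include hF in
/-- A conjugating unitary matrix gives a congruence of models. -/
theorem congr_of_conj (hn : 1 ≤ n) (X : Ctx σ i δ q) (M : IsModel σ i δ g A μ N) (M' : IsModel σ i δ g' A' μ' N')
    {h : GUn} {c : F} (hh : g'.1.val * h.1.val.map σ = c • (h.1.val * g.1.val)) :
    ∃ (B : GL (Fin n) F₀) (t : F) (c₀ : F₀ˣ), t ≠ 0 ∧ h.1.val * A.val * B.val.map i = t • A'.val ∧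
      B.val.transpose * N.val * B.val = (c₀ : F₀) • N'.val := by
  haveI : Fact (Nat.Prime 2) := ⟨Nat.prime_two⟩
  haveI : Nonempty (Fin n) := ⟨⟨0, by omega⟩⟩
  obtain ⟨⟨l, hl0, hl⟩, hform, hμ0, -⟩ := M
  obtain ⟨⟨l', hl0', hl'⟩, hform', hμ0', -⟩ := M'
  have hc0 : c ≠ 0 := fun h0 => by
    refine AutPSL.GForms.val_ne_zero (show 0 < n by omega) (g'.1 * sm σ h.1) ?_
    rw [Units.val_mul, Cfsg.Lib.Linear.Descent.sm_val, hh, h0, zero_smul]
  let B₁ : GL (Fin n) F := (h.1 * A)⁻¹ * A'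
  have hB₁ : h.1.val * A.val * B₁.val = A'.val := by
    rw [← Units.val_mul, ← Units.val_mul, mul_inv_cancel_left]
  have hσB : B₁.val.map σ = (l' * (c * l)⁻¹) • B₁.val := by
    apply (Units.isUnit (h.1 * A)).mul_left_cancel
    rw [Units.val_mul, mul_smul_comm, hB₁]
    have e : g'.1.val * (h.1.val * A.val * B₁.val).map σ = (c * l) • (h.1.val * A.val * B₁.val.map σ) := by
      rw [Matrix.map_mul, Matrix.map_mul, ← mul_assoc, ← mul_assoc, hh]
      simp only [smul_mul_assoc, mul_assoc]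
      rw [← mul_assoc g.1.val, hl]
      simp only [smul_mul_assoc, mul_smul_comm, smul_smul]
    rw [hB₁, hl'] at e
    rw [mul_comm, ← smul_smul, e, smul_smul, inv_mul_cancel₀ (mul_ne_zero hc0 hl0), one_smul]
  obtain ⟨d, B₂, hB₂, hd⟩ := Cfsg.Lib.Linear.Descent.exists_fixed X.hord B₁
    (c := Units.mk0 (l' * (c * l)⁻¹) (mul_ne_zero hl0' (inv_ne_zero (mul_ne_zero hc0 hl0))))
    (Units.ext (by rw [Units.val_mul, sc_val, smul_mul_assoc, one_mul, Units.val_mk0]; exact hσB))
  obtain ⟨B, hB⟩ := AutPSL.exists_map_eq i X.hfix hB₂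
  have hBm : B.val.map i = (d : F)⁻¹ • B₁.val := by
    rw [hd, Units.val_mul, sc_val, smul_mul_assoc, one_mul, smul_smul, inv_mul_cancel₀ d.ne_zero, one_smul, ← hB]
    rfl
  set t := (d : F)⁻¹ with ht
  have ht0 : t ≠ 0 := inv_ne_zero d.ne_zero
  have hA' : h.1.val * A.val * B.val.map i = t • A'.val := by rw [hBm, mul_smul_comm, hB₁]
  have key : μ • ((B.val.transpose * N.val * B.val).map i) = (σ t * t * μ') • N'.val.map i := by
    have hu := (X.mem_GU hF h.1).1 h.2
    calc μ • ((B.val.transpose * N.val * B.val).map i)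
        = (B.val.map i).transpose * ((A.val.map σ).transpose * A.val) * B.val.map i := by
          rw [hform, Matrix.map_mul, Matrix.map_mul, Matrix.transpose_map, mul_smul_comm, smul_mul_assoc]
      _ = (B.val.map i).transpose * (A.val.map σ).transpose * ((h.1.val.map σ).transpose * h.1.val) * A.val *
            B.val.map i := by rw [hu, mul_one]; simp only [mul_assoc]
      _ = ((h.1.val * A.val * B.val.map i).map σ).transpose * (h.1.val * A.val * B.val.map i) := by
          rw [Matrix.map_mul, Matrix.map_mul, X.fix_map, Matrix.transpose_mul, Matrix.transpose_mul]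
          simp only [mul_assoc]
      _ = (σ t * t * μ') • N'.val.map i := by
          rw [hA', map_smul', Matrix.transpose_smul, smul_mul_assoc, mul_smul_comm, smul_smul, hform', smul_smul]
  set r := μ⁻¹ * (σ t * t * μ') with hr
  have key' : (B.val.transpose * N.val * B.val).map i = r • N'.val.map i := by
    rw [hr, ← smul_smul, ← key, smul_smul, inv_mul_cancel₀ hμ0, one_smul]
  have hne : N'.val.map i ≠ 0 := fun h0 =>
    AutPSL.GForms.val_ne_zero (show 0 < n by omega) N' (mapi_inj i (by rw [h0, Matrix.map_zero _ (map_zero i)]))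
  have hrfix : σ r = r := by
    have h1 := congrArg (fun M : Matrix (Fin n) (Fin n) F => M.map σ) key'
    simp only [X.fix_map, map_smul'] at h1
    have h2 : (σ r - r) • N'.val.map i = 0 := by rw [sub_smul, ← h1, ← key', sub_self]
    exact sub_eq_zero.1 ((smul_eq_zero.1 h2).resolve_right hne)
  obtain ⟨r₀, hr₀⟩ := (X.hfix r).1 hrfix
  have hr0 : r ≠ 0 := mul_ne_zero (inv_ne_zero hμ0) (mul_ne_zero (mul_ne_zero ((map_ne_zero σ).2 ht0) ht0) hμ0')
  refine ⟨B, t, Units.mk0 r₀ (fun h0 => hr0 (by rw [← hr₀, h0, map_zero])), ht0, hA', mapi_inj i ?_⟩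
  rw [key', Units.val_mk0, mapi_smul, hr₀]

omit [Fintype F] in
/-- Congruent models have multipliers differing by a fixed scalar. -/
theorem ratio_fixed (hn : 1 ≤ n) (X : Ctx σ i δ q) (hμ : Canon δ μ N) (hμ' : Canon δ μ' N')
    {B : GL (Fin n) F₀} {c : F₀} (h : B.val.transpose * N.val * B.val = c • N'.val) (hc : c ≠ 0) :
    σ (μ' / μ) = μ' / μ := by
  have ht : B.val.transpose * N.val.transpose * B.val = c • N'.val.transpose := by
    have := congrArg Matrix.transpose h
    rw [Matrix.transpose_mul, Matrix.transpose_mul, Matrix.transpose_transpose, Matrix.transpose_smul, ← mul_assoc] at this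
    exact this
  have hmix : N'.val = -N'.val → (2 : F) = 0 := fun e => by
    have h2 : ((2 : F₀)) • N'.val = 0 := by rw [two_smul]; nth_rewrite 1 [e]; exact neg_add_cancel _
    have h3 : (2 : F₀) = 0 := (smul_eq_zero.1 h2).resolve_right (AutPSL.GForms.val_ne_zero (show 0 < n by omega) N')
    rw [← map_ofNat i 2, h3, map_zero]
  have hδ2 : (2 : F) = 0 → σ δ = δ := fun h2 => by
    rw [X.hδ]
    linear_combination (-δ) * h2
  rcases hμ with ⟨hN, rfl⟩ | ⟨hN, hμe⟩ <;> rcases hμ' with ⟨hN', rfl⟩ | ⟨hN', hμe'⟩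
  · rw [div_one, map_one]
  · rw [hN, hN', h] at ht
    have h2 := hmix ((smul_right_injective _ hc) ht)
    rw [hμe', div_one, hδ2 h2]
  · rw [hN, hN', Matrix.mul_neg, Matrix.neg_mul, h] at ht
    have h2 := hmix ((smul_right_injective (Matrix (Fin n) (Fin n) F₀) hc)
      (show c • N'.val = c • -N'.val by rw [smul_neg]; exact ht.symm))
    rw [hμe, map_div₀, map_one, hδ2 h2]
  · rw [hμe, hμe', div_self X.hδ0, map_one]

include hF in
/-- A congruence of models gives a conjugating unitary matrix. -/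
theorem conj_of_congr (hn : 1 ≤ n) (X : Ctx σ i δ q) (M : IsModel σ i δ g A μ N) (M' : IsModel σ i δ g' A' μ' N')
    {B : GL (Fin n) F₀} {c₀ : F₀} (hc₀ : c₀ ≠ 0) (hB : B.val.transpose * N'.val * B.val = c₀ • N.val) :
    ∃ (h : GUn) (t c : F), t ≠ 0 ∧ h.1.val * A.val = t • (A'.val * B.val.map i) ∧
      σ t * t * (μ' * i c₀) = μ ∧ g'.1.val * h.1.val.map σ = c • (h.1.val * g.1.val) := by
  obtain ⟨⟨l, hl0, hl⟩, hform, hμ0, hcan⟩ := M
  obtain ⟨⟨l', hl0', hl'⟩, hform', hμ0', hcan'⟩ := M'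
  have hfixr := ratio_fixed hn X hcan' hcan hB hc₀
  set k := μ' * i c₀ / μ with hk
  have hi0 : i c₀ ≠ 0 := (map_ne_zero i).2 hc₀
  have hk0 : k ≠ 0 := div_ne_zero (mul_ne_zero hμ0' hi0) hμ0
  have hkfix : σ k⁻¹ = k⁻¹ := by
    rw [hk, inv_div, ← div_div, map_div₀ σ (μ / μ'), hfixr, (X.hfix _).2 ⟨c₀, rfl⟩]
  obtain ⟨t, ht⟩ := Cfsg.Lib.Linear.Descent.exists_norm X.hord (inv_ne_zero hk0) hkfix
  have ht0 : t ≠ 0 := fun h0 => inv_ne_zero hk0 (by rw [← ht, h0, zero_mul])
  have hteq : σ t * t * (μ' * i c₀) = μ := by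
    rw [mul_comm (σ t), ht, hk]; field_simp
  let h₀ : GL (Fin n) F := sc (Units.mk0 t ht0) * A' * GeneralLinearGroup.map i B * A⁻¹
  have hh₀ : h₀.val * A.val = t • (A'.val * B.val.map i) := by
    show (h₀ * A).val = _
    simp only [h₀, inv_mul_cancel_right, Units.val_mul, sc_val, smul_mul_assoc, one_mul, Units.val_mk0]
    rfl
  have hu : (h₀.val.map σ).transpose * h₀.val = 1 := by
    have hu1 : IsUnit (A.val.map σ).transpose := (Matrix.isUnit_iff_isUnit_det _).2 (by
      rw [Matrix.det_transpose]; exact (GeneralLinearGroup.det (sm σ A)).isUnit)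
    apply hu1.mul_left_cancel
    apply A.isUnit.mul_right_cancel
    calc (A.val.map σ).transpose * ((h₀.val.map σ).transpose * h₀.val) * A.val
        = ((h₀.val * A.val).map σ).transpose * (h₀.val * A.val) := by
          rw [Matrix.map_mul, Matrix.transpose_mul]; simp only [mul_assoc]
      _ = (σ t * t) • ((B.val.map i).transpose * ((A'.val.map σ).transpose * A'.val) * B.val.map i) := by
          rw [hh₀, map_smul', Matrix.map_mul, X.fix_map, Matrix.transpose_smul, Matrix.transpose_mul]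
          simp only [smul_mul_assoc, mul_smul_comm, smul_smul, mul_assoc]
          rw [mul_comm t]
      _ = (A.val.map σ).transpose * 1 * A.val := by
          rw [hform', mul_smul_comm, smul_mul_assoc, ← Matrix.transpose_map, ← Matrix.map_mul, ← Matrix.map_mul, hB,
            mapi_smul, smul_smul, smul_smul, mul_one, hform, ← hteq, mul_assoc]
  let h : GUn := ⟨h₀, (X.mem_GU hF h₀).2 hu⟩
  refine ⟨h, t, σ t * l' * (t * l)⁻¹, ht0, hh₀, hteq, ?_⟩
  apply (sm σ A).isUnit.mul_right_cancel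
  show g'.1.val * h₀.val.map σ * A.val.map σ = (σ t * l' * (t * l)⁻¹) • (h₀.val * g.1.val) * A.val.map σ
  rw [mul_assoc, ← Matrix.map_mul, hh₀, map_smul', Matrix.map_mul, X.fix_map, mul_smul_comm, ← mul_assoc, hl',
    smul_mul_assoc, smul_smul, smul_mul_assoc (σ t * l' * (t * l)⁻¹), mul_assoc h₀.val, hl, mul_smul_comm, hh₀, smul_smul,
    smul_smul]
  congr 1
  field_simp

end Models

section Main

variable (hF : Fintype.card F = q ^ 2) (p : ℕ) [Fact p.Prime] [CharP F p]

include hF p in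
/-- Every involutory graph automorphism has a proxy. -/
theorem exists_proxy (hn : 3 ≤ n) (X : Ctx σ i δ q) {γ : MulAut P}
    (hγ : Cfsg.IsGraphAutClassPSU γ) (hγ2 : orderOf γ = 2) :
    ∃ N : GL (Fin n) F₀, IsProxy σ i δ γ N ∧ Cfsg.IsGraphAutClassPSL (grOf N) ∧ orderOf (grOf N) = 2 := by
  obtain ⟨g, rfl, hg⟩ := (graph_iff hF p hn X γ).1 ⟨hγ, hγ2⟩
  obtain ⟨A, μ, N, hM⟩ := exists_model hF (show 1 ≤ n by omega) X g hg
  refine ⟨N, ⟨g, A, μ, rfl, hM⟩, (AutPSL.GForms.graph_iff hn _).2 ⟨N, rfl, ?_⟩⟩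
  rcases hM.2.2.2 with ⟨h, -⟩ | ⟨h, -⟩
  · exact ⟨1, by rw [h, Units.val_one, one_smul]⟩
  · exact ⟨-1, by rw [h, Units.val_neg, Units.val_one, neg_one_smul, neg_neg]⟩

include hF p in
/-- Every involutory graph automorphism of `PSL_n(q)` is a proxy. -/
theorem exists_unitary (hn : 3 ≤ n) (X : Ctx σ i δ q) {γ₀ : MulAut P₀}
    (hγ : Cfsg.IsGraphAutClassPSL γ₀) (hγ2 : orderOf γ₀ = 2) :
    ∃ (N : GL (Fin n) F₀) (γ : MulAut P), γ₀ = grOf N ∧ IsProxy σ i δ γ N ∧
      Cfsg.IsGraphAutClassPSU γ ∧ orderOf γ = 2 := by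
  obtain ⟨N, rfl, c, hc⟩ := (AutPSL.GForms.graph_iff hn γ₀).1 ⟨hγ, hγ2⟩
  obtain ⟨g, A, μ, hM, hg⟩ := exists_of_form hF X N
    (AutPSL.GForms.scale_iff (AutPSL.GForms.val_ne_zero (show 0 < n by omega) N) hc)
  exact ⟨N, grU σ g, rfl, ⟨g, A, μ, rfl, hM⟩, (graph_iff hF p hn X _).2 ⟨g, rfl, hg⟩⟩

include hF p in
/-- Conjugacy is that of the proxies. -/
theorem conj_proxy (hn : 3 ≤ n) (X : Ctx σ i δ q) {γ γ' : MulAut P} {N N' : GL (Fin n) F₀}
    (h : IsProxy σ i δ γ N) (h' : IsProxy σ i δ γ' N') :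
    Cfsg.IsConjUnder IDU γ γ' ↔ Cfsg.IsConjUnder IDL (grOf N) (grOf N') := by
  obtain ⟨g, A, μ, rfl, hM⟩ := h
  obtain ⟨g', A', μ', rfl, hM'⟩ := h'
  rw [AutPSL.GForms.conj_iff (show 2 ≤ n by omega)]
  constructor
  · rintro ⟨_, ⟨h, rfl⟩, e⟩
    obtain ⟨c, hc⟩ := (conj_iff hF p hn h g g').1 e
    obtain ⟨B, -, c₀, -, -, hB⟩ := congr_of_conj hF (show 1 ≤ n by omega) X hM hM' hc
    exact ⟨B, c₀, hB⟩
  · rintro ⟨C, c₀, hC⟩
    obtain ⟨h, -, c, -, -, -, hc⟩ := conj_of_congr hF (show 1 ≤ n by omega) X hM' hM c₀.ne_zero hC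
    obtain ⟨k, hk, e⟩ : Cfsg.IsConjUnder IDU (grU σ g') (grU σ g : MulAut P) :=
      ⟨innd h, ⟨h, rfl⟩, (conj_iff hF p hn h g' g).2 ⟨c, hc⟩⟩
    exact ⟨k⁻¹, inv_mem hk, by rw [e]; group⟩

/-- The similitudes of a form. -/
def simil (N : GL (Fin n) F₀) : Subgroup (GL (Fin n) F₀) where
  carrier := {B | ∃ c : F₀ˣ, B.val.transpose * N.val * B.val = (c : F₀) • N.val}
  mul_mem' {a b} ha hb := by
    obtain ⟨c, hc⟩ := ha
    obtain ⟨d, hd⟩ := hb
    refine ⟨c * d, ?_⟩
    calc (a * b).val.transpose * N.val * (a * b).val = b.val.transpose * (a.val.transpose * N.val * a.val) * b.val := by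
          rw [Units.val_mul, Matrix.transpose_mul]; simp only [mul_assoc]
      _ = _ := by rw [hc, mul_smul_comm, smul_mul_assoc, hd, smul_smul, Units.val_mul]
  one_mem' := ⟨1, by simp⟩
  inv_mem' {a} ha := by
    obtain ⟨c, hc⟩ := ha
    refine ⟨c⁻¹, ?_⟩
    have h1 : a.val * (a⁻¹).val = 1 := Units.mul_inv a
    have h2 : (a⁻¹).val.transpose * (a.val.transpose * N.val * a.val) * (a⁻¹).val = N.val := by
      calc _ = (a.val * (a⁻¹).val).transpose * N.val * (a.val * (a⁻¹).val) := by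
            rw [Matrix.transpose_mul]; simp only [mul_assoc]
        _ = _ := by rw [h1, Matrix.transpose_one, one_mul, mul_one]
    rw [hc, mul_smul_comm, smul_mul_assoc] at h2
    conv_rhs => rw [← h2, smul_smul, Units.inv_mul, one_smul]

theorem eq_scalar_of_mapi (i : F₀ →+* F) (hn : 1 ≤ n) {B : GL (Fin n) F₀} {r : F}
    (h : B.val.map i = r • (1 : Matrix (Fin n) (Fin n) F)) : B ∈ Cfsg.Geo.scalars (Fin n) F₀ := by
  rw [Cfsg.Geo.mem_scalars_iff]
  set b := B.val ⟨0, by omega⟩ ⟨0, by omega⟩ with hb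
  have hr : r = i b := by
    have := congrFun (congrFun h ⟨0, by omega⟩) ⟨0, by omega⟩
    simpa using this.symm
  have hB : B.val = b • (1 : Matrix (Fin n) (Fin n) F₀) :=
    mapi_inj i (by rw [h, mapi_smul, hr, Matrix.map_one _ (map_zero i) (map_one i)])
  have hb0 : b ≠ 0 := fun h0 => AutPSL.GForms.val_ne_zero (show 0 < n by omega) B (by rw [hB, h0, zero_smul])
  exact ⟨Units.mk0 b hb0, hB⟩

include hF p in
/-- The centraliser is that of the proxy. -/
theorem centralizer_proxy (hn : 3 ≤ n) (X : Ctx σ i δ q) {γ : MulAut P} {N : GL (Fin n) F₀}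
    (h : IsProxy σ i δ γ N) :
    Nonempty (↥(IDU ⊓ Subgroup.centralizer {γ}) ≃* ↥(IDL ⊓ Subgroup.centralizer {grOf N})) := by
  obtain ⟨g, A, μ, rfl, hM⟩ := h
  have hn1 : 1 ≤ n := by omega
  have hlift : ∀ B : ↥(simil N), ∃ h : GUn, (∃ t : F, t ≠ 0 ∧ h.1.val * A.val = t • (A.val * B.1.val.map i)) ∧
      (innd h : MulAut P) * grU σ g = grU σ g * innd h := by
    rintro ⟨B, c₀, hB⟩
    obtain ⟨h, t, c, ht, hA, -, hc⟩ := conj_of_congr hF hn1 X hM hM c₀.ne_zero hB
    refine ⟨h, ⟨t, ht, hA⟩, ?_⟩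
    have e := (conj_iff hF p hn h g g).2 ⟨c, hc⟩
    nth_rewrite 2 [e]
    group
  choose L hL hLc using hlift
  have huniq : ∀ (B : ↥(simil N)) (h : GUn) (t : F), t ≠ 0 → h.1.val * A.val = t • (A.val * B.1.val.map i) →
      (innd h : MulAut P) = innd (L B) := by
    intro B h t ht hh
    obtain ⟨t', ht', hh'⟩ := hL B
    refine (innd_eq_innd hF p hn).2 ⟨t * t'⁻¹, A.isUnit.mul_right_cancel ?_⟩
    rw [smul_mul_assoc, hh, hh', smul_smul, inv_mul_cancel_right₀ ht']
  let ψ : ↥(simil N) →* ↥(IDU ⊓ Subgroup.centralizer {grU σ g}) :=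
    MonoidHom.mk' (fun B => ⟨innd (L B), Subgroup.mem_inf.2
      ⟨⟨_, rfl⟩, Subgroup.mem_centralizer_singleton_iff.2 (hLc B)⟩⟩) fun B B' => by
        obtain ⟨t, ht, hh⟩ := hL B
        obtain ⟨t', ht', hh'⟩ := hL B'
        refine Subtype.ext ?_
        show (innd (L (B * B')) : MulAut P) = innd (L B) * innd (L B')
        rw [← map_mul]
        refine (huniq _ (L B * L B') (t * t') (mul_ne_zero ht ht') ?_).symm
        show (L B).1.val * (L B').1.val * A.val = (t * t') • (A.val * (B.1 * B'.1).val.map i)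
        rw [mul_assoc, hh', mul_smul_comm, ← mul_assoc, hh, Units.val_mul, Matrix.map_mul, smul_mul_assoc, smul_smul,
          mul_comm t', mul_assoc]
  have hψ : Function.Surjective ψ := by
    rintro ⟨_, ⟨h, rfl⟩, hcm⟩
    have e : (grU σ g : MulAut P) = innd h * grU σ g * (innd h)⁻¹ := by
      rw [Subgroup.mem_centralizer_singleton_iff.1 hcm]; group
    obtain ⟨c, hc⟩ := (conj_iff hF p hn h g g).1 e
    obtain ⟨B, t, c₀, ht, hA, hB⟩ := congr_of_conj hF hn1 X hM hM hc
    refine ⟨⟨B⁻¹, inv_mem (show B ∈ simil N from ⟨c₀, hB⟩)⟩, Subtype.ext ?_⟩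
    refine (huniq _ h t ht ?_).symm
    show h.1.val * A.val = t • (A.val * (B⁻¹).val.map i)
    have h1 : B.val.map i * (B⁻¹).val.map i = 1 := by
      rw [← Matrix.map_mul, Units.mul_inv, Matrix.map_one _ (map_zero i) (map_one i)]
    rw [← smul_mul_assoc, ← hA, mul_assoc (h.1.val * A.val), h1, mul_one]
  have hker : ψ.ker = (Cfsg.Geo.scalars (Fin n) F₀).subgroupOf (simil N) := by
    ext B
    rw [MonoidHom.mem_ker, Subtype.ext_iff, Subgroup.mem_subgroupOf]
    show (innd (L B) : MulAut P) = 1 ↔ _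
    obtain ⟨t, ht, hh⟩ := hL B
    constructor
    · intro h1
      rw [← map_one (innd : GUn →* MulAut P), innd_eq_innd hF p hn] at h1
      obtain ⟨c, hc⟩ := h1
      refine eq_scalar_of_mapi i hn1 (r := c * t⁻¹) (A.isUnit.mul_left_cancel ?_)
      rw [hc, OneMemClass.coe_one, Units.val_one, smul_mul_assoc, one_mul] at hh
      rw [mul_smul_comm, mul_one, mul_comm, ← smul_smul, hh, smul_smul, inv_mul_cancel₀ ht, one_smul]
    · intro h1
      obtain ⟨b, hb⟩ := (Cfsg.Geo.mem_scalars_iff _).1 h1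
      refine innd_scalar (t * i b) (A.isUnit.mul_right_cancel ?_)
      rw [hh, hb, mapi_smul, Matrix.map_one _ (map_zero i) (map_one i), mul_smul_comm, mul_one, smul_smul,
        smul_mul_assoc, one_mul]
  obtain ⟨e⟩ := AutPSL.GForms.centralizer_sim (Equiv.refl (Fin n)) (show 2 ≤ n by omega) N (simil N) fun B => Iff.rfl
  rw [show AutPSL.GForms.gix (Equiv.refl (Fin n)) N = N from Units.ext rfl] at e
  exact ⟨(((QuotientGroup.quotientMulEquivOfEq hker.symm).trans
    (QuotientGroup.quotientKerEquivOfSurjective ψ hψ)).symm).trans e.symm⟩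

end Main

end Cfsg.Lib.Linear.AutPSU.Proxy
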