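import Cfsg.Agent.Lib.Linear.AutPSU.GraphClasses
import Cfsg.Agent.Lib.Linear.AutPSL.GraphSplit

/-!
# Splitting of the classes of involutory graph automorphisms of `PSU_n(q)`
-/

set_option autoImplicit false

namespace Cfsg.Lib.Linear.AutPSU.Proxy

open Matrix Cfsg.Lib.Linear.AutPSU Cfsg.Lib.Linear.Herm
open Cfsg.Lib.Linear.AutPSL.GForms (grOf)
open scoped MatrixGroups

set_option quotPrecheck false

section Small

open Cfsg.Lib.Linear.AutPSL.GForms

variable {n m : ℕ} {F₀ : Type*} [Field F₀] [Fintype F₀]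

/-- Similitudes of a skew form. -/
theorem skew_simil (h2 : (2 : F₀) ≠ 0) (hnm : n = 2 * m) (M : GL (Fin n) F₀) (hM : M.val.transpose = -M.val) :
    (∀ (A : GL (Fin n) F₀) (c : F₀ˣ), A.val.transpose * M.val * A.val = (c : F₀) • M.val → A.val.det = (c : F₀) ^ m) ∧
      ∀ c : F₀ˣ, ∃ A : GL (Fin n) F₀, A.val.transpose * M.val * A.val = (c : F₀) • M.val := by
  classical
  let e : Fin m ⊕ Fin m ≃ Fin n := Fintype.equivFinOfCardEq (by simp; omega)
  obtain ⟨N, rfl⟩ := gix_surjective e M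
  rw [gix_val, Matrix.transpose_reindex] at hM
  have hs : N.val.transpose = -N.val := (Matrix.reindex e e).injective (hM.trans (by rfl))
  obtain ⟨C, hC⟩ := congr_J N fun v => by
    have e1 : v ⬝ᵥ (N.val *ᵥ v) = -(v ⬝ᵥ (N.val *ᵥ v)) := by
      conv_lhs => rw [dotProduct_mulVec, ← Matrix.mulVec_transpose, hs, Matrix.neg_mulVec, neg_dotProduct,
        dotProduct_comm]
    rw [Matrix.toBilin'_apply']
    exact (mul_eq_zero.1 (show (2 : F₀) * (v ⬝ᵥ (N.val *ᵥ v)) = 0 by linear_combination e1)).resolve_left h2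
  have hC1 : C.val * (C⁻¹).val = 1 := Units.mul_inv C
  have hN : (C⁻¹).val.transpose * Matrix.J (Fin m) F₀ * (C⁻¹).val = N.val := by
    rw [← hC]
    calc _ = (C.val * (C⁻¹).val).transpose * N.val * (C.val * (C⁻¹).val) := by
          simp only [Matrix.transpose_mul, mul_assoc]
      _ = _ := by rw [hC1, Matrix.transpose_one, one_mul, mul_one]
  constructor
  · intro A c h
    obtain ⟨K, rfl⟩ := gix_surjective e A
    rw [gix_val e N, ← rix_congr, ← rix_smul] at h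
    have h' := (Matrix.reindex e e).injective h
    have hJ : (C⁻¹ * K * C).val.transpose * Matrix.J (Fin m) F₀ * (C⁻¹ * K * C).val =
        (c : F₀) • Matrix.J (Fin m) F₀ := by
      calc _ = C.val.transpose * (K.val.transpose * ((C⁻¹).val.transpose * Matrix.J (Fin m) F₀ * (C⁻¹).val) * K.val) *
            C.val := by simp only [Units.val_mul, Matrix.transpose_mul, mul_assoc]
        _ = _ := by rw [hN, h', mul_smul_comm, smul_mul_assoc, hC]
    have hd := det_similitude hJ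
    rw [Units.val_mul, Units.val_mul, Matrix.det_units_conj'] at hd
    rw [gix_val, Matrix.det_reindex_self, hd]
  · intro c
    have hS : (Matrix.fromBlocks ((c : F₀) • (1 : Matrix (Fin m) (Fin m) F₀)) 0 0
        (1 : Matrix (Fin m) (Fin m) F₀)).det ≠ 0 := by
      rw [Matrix.det_fromBlocks_zero₂₁, Matrix.det_smul, Matrix.det_one, mul_one, mul_one]
      exact pow_ne_zero _ c.ne_zero
    let S : GL (Fin m ⊕ Fin m) F₀ := GeneralLinearGroup.mkOfDetNeZero _ hS
    have hSJ : S.val.transpose * Matrix.J (Fin m) F₀ * S.val = (c : F₀) • Matrix.J (Fin m) F₀ := by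
      show (Matrix.fromBlocks _ _ _ _).transpose * _ * Matrix.fromBlocks _ _ _ _ = _
      rw [Matrix.J, Matrix.fromBlocks_transpose, Matrix.fromBlocks_multiply, Matrix.fromBlocks_multiply,
        Matrix.fromBlocks_smul]
      simp
    refine ⟨gix e (C * S * C⁻¹), ?_⟩
    rw [gix_val e N, ← rix_congr, ← rix_smul]
    refine congrArg _ ?_
    calc (C * S * C⁻¹).val.transpose * N.val * (C * S * C⁻¹).val
        = (C⁻¹).val.transpose * (S.val.transpose * (C.val.transpose * N.val * C.val) * S.val) * (C⁻¹).val := by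
          simp only [Units.val_mul, Matrix.transpose_mul, mul_assoc]
      _ = _ := by rw [hC, hSJ, mul_smul_comm, smul_mul_assoc, hN]

/-- Similitudes of a symmetric form with either determinant. -/
theorem symm_simil (hodd : Odd (Fintype.card F₀)) (hnm : n = 2 * m) (hn : 1 ≤ n) (M : GL (Fin n) F₀)
    (hM : M.val.transpose = M.val) (c : F₀ˣ) (d : F₀) (hd : d ^ 2 = (c : F₀) ^ n) :
    ∃ A : GL (Fin n) F₀, A.val.transpose * M.val * A.val = (c : F₀) • M.val ∧ A.val.det = d := by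
  classical
  have h2 := AutPSL.GForms.two_ne_zero' hodd
  have hdM : M.val.det ≠ 0 := (GeneralLinearGroup.det M).ne_zero
  obtain ⟨C, hC⟩ := congr_of_det h2 (M' := (c : F₀) • M.val) hM (by rw [Matrix.transpose_smul, hM]) hdM
    (by rw [Matrix.det_smul]; exact mul_ne_zero (pow_ne_zero _ c.ne_zero) hdM) (by
      rw [Matrix.det_smul, Fintype.card_fin, ← hd]
      exact ⟨d * M.val.det, by ring⟩)
  have hCd : C.val.det = d ∨ C.val.det = -d :=
    sq_eq_sq_iff_eq_or_eq_neg.1 (by rw [det_sq_eq hC, hd])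
  rcases hCd with h | h
  · exact ⟨C, hC, h⟩
  obtain ⟨α, hα⟩ := exists_nonsquare' hodd
  obtain ⟨C₁, δ, -, hC₁⟩ := exists_congr_diag h2 hα hM hdM ⟨0, by omega⟩
  let d' : Fin n → F₀ := Function.update 1 ⟨0, by omega⟩ (-1)
  have hE : (Matrix.diagonal d').det = -1 := by
    rw [Matrix.det_diagonal, Finset.prod_update_of_mem (Finset.mem_univ _)]; simp
  let E : GL (Fin n) F₀ := GeneralLinearGroup.mkOfDetNeZero (Matrix.diagonal d')
    (by rw [hE]; exact neg_ne_zero.2 one_ne_zero)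
  have hEE : E.val.transpose * (C₁.val.transpose * M.val * C₁.val) * E.val = C₁.val.transpose * M.val * C₁.val := by
    rw [hC₁]
    show (Matrix.diagonal d').transpose * _ * Matrix.diagonal d' = _
    rw [Matrix.diagonal_transpose, Matrix.diagonal_mul_diagonal, Matrix.diagonal_mul_diagonal]
    congr 1
    funext i
    rcases eq_or_ne i ⟨0, by omega⟩ with rfl | hi
    · simp [d']
    · simp [d', Function.update_of_ne hi]
  have hR : (C₁ * E * C₁⁻¹).val.transpose * M.val * (C₁ * E * C₁⁻¹).val = M.val := by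
    have h1 : C₁.val * (C₁⁻¹).val = 1 := Units.mul_inv _
    calc (C₁ * E * C₁⁻¹).val.transpose * M.val * (C₁ * E * C₁⁻¹).val
        = (C₁⁻¹).val.transpose * (E.val.transpose * (C₁.val.transpose * M.val * C₁.val) * E.val) * (C₁⁻¹).val := by
          simp only [Units.val_mul, Matrix.transpose_mul, mul_assoc]
      _ = (C₁.val * (C₁⁻¹).val).transpose * M.val * (C₁.val * (C₁⁻¹).val) := by
          rw [hEE, Matrix.transpose_mul]; simp only [mul_assoc]
      _ = M.val := by rw [h1, Matrix.transpose_one, one_mul, mul_one]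
  refine ⟨C * (C₁ * E * C₁⁻¹), ?_, ?_⟩
  · calc _ = (C₁ * E * C₁⁻¹).val.transpose * (C.val.transpose * M.val * C.val) * (C₁ * E * C₁⁻¹).val := by
          simp only [Units.val_mul, Matrix.transpose_mul, mul_assoc]
      _ = _ := by rw [hC, mul_smul_comm, smul_mul_assoc, hR]
  · rw [Units.val_mul, Matrix.det_mul, Units.val_mul, Units.val_mul, Matrix.det_units_conj, h]
    show -d * (Matrix.diagonal d').det = d
    rw [hE]; ring

/-- The symplectic type is the skew symmetric one. -/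
theorem skew_iff (hodd : Odd (Fintype.card F₀)) (hm : 2 ≤ m) (hnm : n = 2 * m) (M : GL (Fin n) F₀) :
    (M.val.transpose = -M.val → Nonempty (↥((AutPSL.innd : GL (Fin n) F₀ →* _).range ⊓
      Subgroup.centralizer {grOf M}) ≃* Cfsg.PGSp m F₀)) ∧
    (M.val.transpose = M.val → ¬ Nonempty (↥((AutPSL.innd : GL (Fin n) F₀ →* _).range ⊓
      Subgroup.centralizer {grOf M}) ≃* Cfsg.PGSp m F₀)) := by
  obtain ⟨α, hα⟩ := exists_nonsquare' hodd
  obtain ⟨M₁, M₂, M₃, -, -, -, -, -, ⟨e1⟩, ⟨e2⟩, ⟨e3⟩, hcl⟩ := even_dim (n := n) hodd hm hnm hα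
  refine ⟨fun h => ?_, fun h ⟨e⟩ => ?_⟩
  · obtain ⟨k, hk, hk'⟩ := (hcl M).1 h
    rw [hk']
    obtain ⟨ec⟩ := AutPSL.centralizer_conj_equiv hk (grOf M₁)
    exact ⟨ec.trans e1⟩
  · by_cases hs : IsSquare ((-1 : F₀) ^ m * M.val.det)
    · obtain ⟨k, hk, hk'⟩ := (hcl M).2.1 h hs
      rw [hk'] at e
      obtain ⟨ec⟩ := AutPSL.centralizer_conj_equiv hk (grOf M₂)
      exact not_iso_plus hodd (by omega) ⟨(e.symm.trans ec).trans e2⟩
    · obtain ⟨k, hk, hk'⟩ := (hcl M).2.2 h hs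
      rw [hk'] at e
      obtain ⟨ec⟩ := AutPSL.centralizer_conj_equiv hk (grOf M₃)
      exact not_iso_minus hodd (by omega) (aniso F₀ hα) ⟨(e.symm.trans ec).trans e3⟩

end Small

section Count

variable {n : ℕ} {F : Type*} [Field F] {q : ℕ} {F₀ : Type*} [Field F₀] [Fintype F] {σ : F ≃+* F} {i : F₀ →+* F}
  {δ : F} (hF : Fintype.card F = q ^ 2) (p : ℕ) [Fact p.Prime] [CharP F p]

local notation "P" => Cfsg.PSU n F q
local notation "IDU" => (innd : ↥(Cfsg.GU n F q) →* MulAut P).range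

/-- The group of norm one scalars. -/
abbrev N1 (F : Type*) [Field F] (q : ℕ) : Subgroup Fˣ := (powMonoidHom (q + 1) : Fˣ →* Fˣ).ker

include hF p in
/-- Split count from the determinants of the centraliser modulo `n`-th powers of norm one scalars. -/
theorem split_det (hn : 3 ≤ n) (θ : MulAut P) (D : Subgroup ↥(N1 F q))
    (h1 : ∀ C : ↥(Cfsg.GU n F q), innd C * θ = θ * innd C →
      ∃ (a : ↥(N1 F q)) (b : D), C.1.val.det = ((a : Fˣ) : F) ^ n * (((b : ↥(N1 F q)) : Fˣ) : F))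
    (h2 : ∀ b ∈ D, ∃ (C : ↥(Cfsg.GU n F q)) (a : ↥(N1 F q)), innd C * θ = θ * innd C ∧
      C.1.val.det = ((a : Fˣ) : F) ^ n * ((b : Fˣ) : F)) :
    Cfsg.splitClassCount IDU (Cfsg.Inn P) θ = Nat.gcd n D.index := by
  classical
  haveI : (Cfsg.Inn P).Normal := ⟨fun _ ⟨x, hx⟩ α => ⟨α x, MulEquiv.ext fun y => by simp [← hx]⟩⟩
  let d : ↥(Cfsg.GU n F q) →* ↥(N1 F q) :=
    (GeneralLinearGroup.det.comp (Cfsg.GU n F q).subtype).codRestrict (N1 F q) fun g => by
      rw [MonoidHom.mem_ker, powMonoidHom_apply]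
      exact Units.ext (by simpa using det_GU_pow hF g)
  have hdv : ∀ g, ((d g : Fˣ) : F) = g.1.val.det := fun g => rfl
  have hN : ∀ c : ↥(N1 F q), ((c : Fˣ) : F) ^ (q + 1) = 1 := fun c => by
    simpa using congrArg Units.val (MonoidHom.mem_ker.1 c.2)
  have hdg : ∀ c : ↥(N1 F q), ∃ g, d g = c := by
    intro c
    have hd : (Matrix.diagonal (Function.update (1 : Fin n → F) ⟨0, by omega⟩ ((c : Fˣ) : F))).det =
        ((c : Fˣ) : F) := by
      rw [Matrix.det_diagonal, Finset.prod_update_of_mem (Finset.mem_univ _)]; simp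
    refine ⟨⟨GeneralLinearGroup.mk'' _ (hd.symm ▸ (c : Fˣ).isUnit),
      mem_GU.2 fun x y => hermForm_diagonal _ (fun a => ?_) x y⟩, Subtype.ext (Units.ext hd)⟩
    rw [Function.update_apply, Pi.one_apply]
    split_ifs
    · exact hN c
    · exact one_pow _
  let fQ : ↥(Cfsg.GU n F q) →* (↥(N1 F q) ⧸ D) ⧸ (powMonoidHom (α := ↥(N1 F q) ⧸ D) n).range :=
    ((QuotientGroup.mk' _).comp (QuotientGroup.mk' D)).comp d
  have hsurj : Function.Surjective fQ :=
    ((QuotientGroup.mk'_surjective _).comp (QuotientGroup.mk'_surjective D)).comp hdg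
  have hmem : ∀ g, fQ g = 1 ↔ ∃ (a : ↥(N1 F q)) (b : D), d g = a ^ n * b := by
    intro g
    show QuotientGroup.mk (QuotientGroup.mk (d g) : ↥(N1 F q) ⧸ D) = _ ↔ _
    rw [QuotientGroup.eq_one_iff]
    constructor
    · rintro ⟨y, hy⟩
      obtain ⟨a, rfl⟩ := QuotientGroup.mk_surjective y
      rw [powMonoidHom_apply, ← QuotientGroup.mk_pow, QuotientGroup.eq] at hy
      exact ⟨a, ⟨_, hy⟩, by rw [mul_inv_cancel_left]⟩
    · rintro ⟨a, b, hab⟩
      exact ⟨QuotientGroup.mk a, by rw [powMonoidHom_apply, ← QuotientGroup.mk_pow, hab,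
        QuotientGroup.mk_mul, (QuotientGroup.eq_one_iff (b : ↥(N1 F q))).2 b.2, mul_one]⟩
  let scU : ↥(N1 F q) → ↥(Cfsg.GU n F q) := fun a =>
    ⟨GeneralLinearGroup.scalar (Fin n) a.1, scalar_mem_GU (hN a)⟩
  have hsg : ∀ a, d (scU a) = a ^ n := fun a => by
    refine Subtype.ext (Units.ext ?_)
    show (Matrix.diagonal fun _ => ((a : Fˣ) : F)).det = ((a ^ n : ↥(N1 F q)) : Fˣ).1
    rw [Matrix.det_diagonal, Finset.prod_const, Finset.card_univ, Fintype.card_fin]
    rfl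
  have hsc : ∀ a, (innd (scU a) : MulAut P) = 1 := fun a => innd_scalar _ (Matrix.smul_one_eq_diagonal _).symm
  have hK : Cfsg.Inn P ≤ IDU := fun β hβ => by
    obtain ⟨s, rfl⟩ := mem_inn_iff.1 hβ
    exact ⟨_, rfl⟩
  rw [AutPSL.splitClassCount_eq innd (Cfsg.Inn P) hK θ fQ hsurj (fun g => ?_)]
  · show Nat.card ((↥(N1 F q) ⧸ D) ⧸ (powMonoidHom (α := ↥(N1 F q) ⧸ D) n).range) = _
    rw [← Subgroup.index_eq_card, IsCyclic.index_powMonoidHom_range, ← Subgroup.index_eq_card, Nat.gcd_comm]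
  rw [hmem]
  constructor
  · rintro ⟨a, b, hab⟩
    obtain ⟨C, a', hC, hCd⟩ := h2 b.1 b.2
    have hdC : d C = a' ^ n * b := Subtype.ext (Units.ext hCd)
    have hdet1 : d (g * (scU (a * a'⁻¹) * C)⁻¹) = 1 := by
      rw [map_mul, map_inv, map_mul, hsg, hdC, hab, ← mul_assoc, ← mul_pow, inv_mul_cancel_right, mul_inv_cancel]
    refine ⟨innd (g * (scU (a * a'⁻¹) * C)⁻¹), mem_inn_iff.2 ⟨⟨⟨(g * (scU (a * a'⁻¹) * C)⁻¹).1.1,
      congrArg (fun z : ↥(N1 F q) => ((z : Fˣ) : F)) hdet1⟩,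
      fun x y => (g * (scU (a * a'⁻¹) * C)⁻¹).2 x y⟩, congrArg _ (Subtype.ext (Units.ext rfl))⟩, C, hC, ?_⟩
    rw [map_mul, map_inv, map_mul, hsc, one_mul, inv_mul_cancel_right]
  · rintro ⟨k, hk, C, hC, he⟩
    obtain ⟨s, rfl⟩ := mem_inn_iff.1 hk
    rw [← map_mul, innd_eq_innd hF p hn] at he
    obtain ⟨c, hc⟩ := he
    obtain ⟨a, b, hab⟩ := h1 C hC
    have hgd : g.1.val = c • ((toGU s).1.val * C.1.val) := hc
    have hc0 : c ≠ 0 := fun h => AutPSL.GForms.val_ne_zero (show 0 < n by omega) g.1 (by rw [hgd, h, zero_smul])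
    have hc1 : c ^ (q + 1) = 1 := by
      have hu := (mem_GU_iff' hF).1 g.2
      have hP := (mem_GU_iff' hF).1 (toGU s * C).2
      rw [show (toGU s * C).1.1 = (toGU s).1.val * C.1.val from rfl] at hP
      rw [hgd, ct_smul, smul_mul_assoc, mul_smul_comm, smul_smul, hP] at hu
      have := congrFun (congrFun hu ⟨0, by omega⟩) ⟨0, by omega⟩
      rw [Matrix.smul_apply, Matrix.one_apply_eq, smul_eq_mul, mul_one, frob_apply hF] at this
      rw [pow_succ, mul_comm]
      exact this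
    have hmemc : Units.mk0 c hc0 ∈ N1 F q :=
      MonoidHom.mem_ker.2 (Units.ext (by rw [powMonoidHom_apply]; simpa using hc1))
    refine ⟨⟨_, hmemc⟩ * a, b, Subtype.ext (Units.ext ?_)⟩
    rw [hdv, hgd, Matrix.det_smul, Fintype.card_fin, Matrix.det_mul, show (toGU s).1.val.det = 1 from s.1.2, one_mul,
      hab, mul_pow]
    show c ^ n * _ = c ^ n * _ * _
    rw [mul_assoc]
    rfl

theorem mem_N1 (X : Ctx σ i δ q) {x : F} (hx : x ≠ 0) (h : σ x * x = 1) : Units.mk0 x hx ∈ N1 F q := by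
  rw [MonoidHom.mem_ker, powMonoidHom_apply]
  refine Units.ext ?_
  rw [Units.val_pow_eq_pow_val, Units.val_mk0, Units.val_one, pow_succ, ← X.hfrob, h]

include hF in
/-- A centralising unitary matrix in terms of a similitude. -/
theorem cent_data (hn : 1 ≤ n) (X : Ctx σ i δ q) {g : ↥(Cfsg.GU n F q)} {A : GL (Fin n) F} {μ : F}
    {N : GL (Fin n) F₀} (M : IsModel σ i δ g A μ N) {h : ↥(Cfsg.GU n F q)} {c : F}
    (hh : g.1.val * h.1.val.map σ = c • (h.1.val * g.1.val)) :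
    ∃ (B : GL (Fin n) F₀) (t : F) (c₀ : F₀ˣ), t ≠ 0 ∧ B.val.transpose * N.val * B.val = (c₀ : F₀) • N.val ∧
      σ t * t = i c₀ ∧ h.1.val.det * i B.val.det = t ^ n := by
  obtain ⟨B, t, c₀, ht, hA, hB⟩ := congr_of_conj hF hn X M M hh
  refine ⟨B, t, c₀, ht, hB, ?_, ?_⟩
  · obtain ⟨-, hform, hμ0, -⟩ := M
    have key : (μ * i c₀) • N.val.map i = (σ t * t * μ) • N.val.map i := by
      have hu := (X.mem_GU hF h.1).1 h.2
      calc (μ * i c₀) • N.val.map i = μ • ((B.val.transpose * N.val * B.val).map i) := by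
            rw [hB, mapi_smul, smul_smul]
        _ = (B.val.map i).transpose * ((A.val.map σ).transpose * A.val) * B.val.map i := by
            rw [hform, Matrix.map_mul, Matrix.map_mul, Matrix.transpose_map, mul_smul_comm, smul_mul_assoc]
        _ = (B.val.map i).transpose * (A.val.map σ).transpose * ((h.1.val.map σ).transpose * h.1.val) * A.val *
              B.val.map i := by rw [hu, mul_one]; simp only [mul_assoc]
        _ = ((h.1.val * A.val * B.val.map i).map σ).transpose * (h.1.val * A.val * B.val.map i) := by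
            rw [Matrix.map_mul, Matrix.map_mul, X.fix_map, Matrix.transpose_mul, Matrix.transpose_mul]
            simp only [mul_assoc]
        _ = (σ t * t * μ) • N.val.map i := by
            rw [hA, map_smul', Matrix.transpose_smul, smul_mul_assoc, mul_smul_comm, smul_smul, hform, smul_smul]
    have hne : N.val.map i ≠ 0 := fun h0 =>
      AutPSL.GForms.val_ne_zero (show 0 < n by omega) N (mapi_inj i (by rw [h0, Matrix.map_zero _ (map_zero i)]))
    have := smul_left_injective F hne key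
    exact mul_left_cancel₀ hμ0 (by linear_combination -this)
  · have hd := congrArg Matrix.det hA
    rw [Matrix.det_mul, Matrix.det_mul, Matrix.det_smul, Fintype.card_fin, ← RingHom.mapMatrix_apply,
      ← RingHom.map_det] at hd
    have hA0 : A.val.det ≠ 0 := (GeneralLinearGroup.det A).ne_zero
    exact mul_right_cancel₀ hA0 (by linear_combination hd)

include hF p in
/-- A centralising unitary matrix from a similitude. -/
theorem cent_of_simil (hn : 3 ≤ n) (X : Ctx σ i δ q) {g : ↥(Cfsg.GU n F q)} {A : GL (Fin n) F} {μ : F}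
    {N : GL (Fin n) F₀} (M : IsModel σ i δ g A μ N) {B : GL (Fin n) F₀} {c₀ : F₀ˣ}
    (hB : B.val.transpose * N.val * B.val = (c₀ : F₀) • N.val) {t : F} (ht : σ t * t * i c₀ = 1) :
    ∃ (h : ↥(Cfsg.GU n F q)) (w : ↥(N1 F q)), (innd h : MulAut P) * grU σ g = grU σ g * innd h ∧
      h.1.val.det = ((w : Fˣ) : F) ^ n * (t ^ n * i B.val.det) := by
  have ht0 : t ≠ 0 := fun h0 => by rw [h0, mul_zero, zero_mul] at ht; exact zero_ne_one ht
  obtain ⟨h, t', c, ht', hA, hn', hc⟩ := conj_of_congr hF (show 1 ≤ n by omega) X M M c₀.ne_zero hB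
  have hμ0 : μ ≠ 0 := M.2.2.1
  have e1 : σ t' * t' * i c₀ = 1 := mul_left_cancel₀ hμ0 (by linear_combination hn')
  have hw : σ (t' / t) * (t' / t) = 1 := by
    rw [map_div₀, div_mul_div_comm, div_eq_one_iff_eq (mul_ne_zero ((map_ne_zero σ).2 ht0) ht0)]
    exact mul_right_cancel₀ ((map_ne_zero i).2 c₀.ne_zero) (e1.trans ht.symm)
  refine ⟨h, ⟨_, mem_N1 X (div_ne_zero ht' ht0) hw⟩, ?_, ?_⟩
  · have e := (conj_iff hF p hn h g g).2 ⟨c, hc⟩
    nth_rewrite 2 [e]
    group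
  · have hd := congrArg Matrix.det hA
    rw [Matrix.det_mul, Matrix.det_smul, Matrix.det_mul, Fintype.card_fin, ← RingHom.mapMatrix_apply,
      ← RingHom.map_det] at hd
    show h.1.val.det = (t' / t) ^ n * (t ^ n * i B.val.det)
    rw [← mul_assoc, ← mul_pow, div_mul_cancel₀ t' ht0]
    exact mul_right_cancel₀ (show A.val.det ≠ 0 from (GeneralLinearGroup.det A).ne_zero) (by linear_combination hd)

include hF p in
theorem comm_data (hn : 3 ≤ n) {h g : ↥(Cfsg.GU n F q)}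
    (hc : (innd h : MulAut P) * grU σ g = grU σ g * innd h) :
    ∃ c : F, g.1.val * h.1.val.map σ = c • (h.1.val * g.1.val) :=
  (conj_iff hF p hn h g g).1 (by rw [hc]; group)

variable [Fintype F₀]

include hF p in
/-- Odd dimension or even `q`. -/
theorem split_bot (hn : 3 ≤ n) (X : Ctx σ i δ q) {γ : MulAut P} {N : GL (Fin n) F₀}
    (hγ : IsProxy σ i δ γ N) (h : Odd n ∨ CharP F₀ 2) :
    Cfsg.splitClassCount IDU (Cfsg.Inn P) γ = Nat.gcd n (q + 1) := by
  obtain ⟨g, A, μ, rfl, hM⟩ := hγ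
  rw [split_det hF p hn _ ⊥ (fun C hC => ?_) (fun b hb => ⟨1, 1, by rw [map_one, one_mul, mul_one], by
    rw [Subgroup.mem_bot.1 hb]; simp⟩), Subgroup.index_bot, card_norm_one hF]
  obtain ⟨c, hc⟩ := comm_data hF p hn hC
  obtain ⟨B, t, c₀, ht, hB, htn, hd⟩ := cent_data hF (show 1 ≤ n by omega) X hM hc
  have hsq := AutPSL.GForms.det_sq_eq hB
  obtain ⟨a, ha, han⟩ : ∃ a : F₀, a * a = c₀ ∧ a ^ n = B.val.det := by
    rcases h with ⟨k, hk⟩ | h
    · refine ⟨B.val.det / (c₀ : F₀) ^ k, ?_, ?_⟩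
      · rw [div_mul_div_comm, ← sq, hsq, ← pow_add, eq_comm,
          eq_div_iff (pow_ne_zero _ c₀.ne_zero), ← pow_succ']
        exact congrArg _ (by omega)
      · rw [div_pow, div_eq_iff (pow_ne_zero _ (pow_ne_zero _ c₀.ne_zero)), ← pow_mul, mul_comm k n, pow_mul, ← hsq,
          ← pow_mul, ← pow_succ']
        exact congrArg _ hk
    · obtain ⟨r, hr⟩ := AutPSL.GForms.exists_sqrt (c₀ : F₀)
      refine ⟨r, by rw [← sq, hr], AutPSL.GForms.sq_inj ?_⟩
      rw [hsq, ← hr, ← pow_mul, ← pow_mul, mul_comm]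
  have ha0 : a ≠ 0 := fun h0 => c₀.ne_zero (by rw [← ha, h0, mul_zero])
  have hia : i a ≠ 0 := (map_ne_zero i).2 ha0
  have hw : σ (t / i a) * (t / i a) = 1 := by
    rw [map_div₀, (X.hfix _).2 ⟨a, rfl⟩, div_mul_div_comm, htn, ← map_mul, ha, div_self ((map_ne_zero i).2 c₀.ne_zero)]
  refine ⟨⟨_, mem_N1 X (div_ne_zero ht hia) hw⟩, 1, ?_⟩
  show C.1.val.det = (t / i a) ^ n * 1
  rw [mul_one, div_pow, eq_div_iff (pow_ne_zero _ hia), ← map_pow, han, hd]

variable {m : ℕ}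

include hF p in
theorem exists_hilbert (X : Ctx σ i δ q) (u : ↥(N1 F q)) :
    ∃ t : F, t ≠ 0 ∧ ((u : Fˣ) : F) = t / σ t ∧ ∃ c₀ : F₀ˣ, σ t * t * i c₀ = 1 := by
  haveI : Fact (Nat.Prime 2) := ⟨Nat.prime_two⟩
  have hu : σ ((u : Fˣ) : F) * ((u : Fˣ) : F) = 1 := by
    have h := congrArg Units.val (MonoidHom.mem_ker.1 u.2)
    rw [powMonoidHom_apply, Units.val_pow_eq_pow_val, Units.val_one, pow_succ, ← X.hfrob] at h
    exact h
  obtain ⟨d, hd⟩ := Cfsg.Lib.Linear.Descent.hilbert90 X.hord (c := (u : Fˣ)) (Units.ext (by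
    simp [Cfsg.Lib.Linear.Descent.nrm, Finset.prod_range_succ]
    rw [mul_comm]; exact hu))
  have hσd : σ (d : F) ≠ 0 := (map_ne_zero σ).2 d.ne_zero
  have hfix : σ ((σ (d : F) * d)⁻¹) = (σ (d : F) * d)⁻¹ := by
    rw [map_inv₀, map_mul, X.invol, mul_comm]
  obtain ⟨c, hc⟩ := (X.hfix _).1 hfix
  have hc0 : c ≠ 0 := fun h => inv_ne_zero (mul_ne_zero hσd d.ne_zero) (by rw [← hc, h, map_zero])
  refine ⟨d, d.ne_zero, ?_, Units.mk0 c hc0, ?_⟩
  · rw [hd, Units.val_mul, Units.val_inv_eq_inv_val, ← div_eq_mul_inv]; rfl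
  · rw [Units.val_mk0, hc, mul_inv_cancel₀ (mul_ne_zero hσd d.ne_zero)]

include hF p in
/-- The symplectic class. -/
theorem split_skew (hn : 3 ≤ n) (X : Ctx σ i δ q) (hnm : n = 2 * m) (h2 : (2 : F₀) ≠ 0) {γ : MulAut P}
    {N : GL (Fin n) F₀} (hγ : IsProxy σ i δ γ N) (hN : N.val.transpose = -N.val) :
    Cfsg.splitClassCount IDU (Cfsg.Inn P) γ = Nat.gcd m (q + 1) := by
  obtain ⟨g, A, μ, rfl, hM⟩ := hγ
  obtain ⟨hdet, hex⟩ := skew_simil h2 hnm N hN
  rw [split_det hF p hn _ (powMonoidHom m : ↥(N1 F q) →* ↥(N1 F q)).range (fun C hC => ?_) fun b hb => ?_,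
    IsCyclic.index_powMonoidHom_range, card_norm_one hF]
  · rw [Nat.gcd_comm (q + 1) m, ← Nat.gcd_assoc, Nat.gcd_eq_right (Dvd.intro_left _ hnm.symm)]
  · obtain ⟨c, hc⟩ := comm_data hF p hn hC
    obtain ⟨B, t, c₀, ht, hB, htn, hd⟩ := cent_data hF (show 1 ≤ n by omega) X hM hc
    have hσt : σ t ≠ 0 := (map_ne_zero σ).2 ht
    have hw : σ (t / σ t) * (t / σ t) = 1 := by
      rw [map_div₀, X.invol]; field_simp
    refine ⟨1, ⟨⟨_, mem_N1 X (div_ne_zero ht hσt) hw⟩ ^ m, _, rfl⟩, ?_⟩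
    show C.1.val.det = (1 : F) ^ n * (t / σ t) ^ m
    rw [one_pow, one_mul]
    rw [hdet B c₀ hB, map_pow, ← htn] at hd
    refine mul_right_cancel₀ (pow_ne_zero m (mul_ne_zero hσt ht)) ?_
    rw [hd, ← mul_pow, hnm, pow_mul]
    congr 1
    field_simp
  · obtain ⟨u, rfl⟩ := hb
    obtain ⟨t, ht0, hu, c₀, hc₀⟩ := exists_hilbert hF p X u
    obtain ⟨B, hB⟩ := hex c₀
    obtain ⟨h, w, hcomm, hd⟩ := cent_of_simil hF p hn X hM hB hc₀
    refine ⟨h, w, hcomm, ?_⟩
    rw [hd, hdet B c₀ hB, map_pow, powMonoidHom_apply]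
    congr 1
    show t ^ n * i c₀ ^ m = ((u ^ m : ↥(N1 F q)) : Fˣ).1
    rw [SubmonoidClass.coe_pow, Units.val_pow_eq_pow_val, hu, hnm, pow_mul, ← mul_pow]
    congr 1
    rw [eq_div_iff ((map_ne_zero σ).2 ht0)]
    linear_combination t * hc₀

include hF p in
/-- The orthogonal classes. -/
theorem split_symm (hn : 3 ≤ n) (X : Ctx σ i δ q) (hnm : n = 2 * m) (hodd : Odd q)
    (hF₀ : Fintype.card F₀ = q) {γ : MulAut P} {N : GL (Fin n) F₀} (hγ : IsProxy σ i δ γ N)
    (hN : N.val.transpose = N.val) :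
    Cfsg.splitClassCount IDU (Cfsg.Inn P) γ = Nat.gcd n (q + 1) / 2 := by
  classical
  obtain ⟨g, A, μ, rfl, hM⟩ := hγ
  have hidx : ((powMonoidHom n : ↥(N1 F q) →* ↥(N1 F q)).range.comap (powMonoidHom 2)).index * 2 =
      Nat.gcd n (q + 1) := by
    have hle : (powMonoidHom n : ↥(N1 F q) →* ↥(N1 F q)).range ≤
        (powMonoidHom 2 : ↥(N1 F q) →* ↥(N1 F q)).range := by
      rintro _ ⟨x, rfl⟩
      exact ⟨x ^ m, by rw [powMonoidHom_apply, powMonoidHom_apply, ← pow_mul, hnm, mul_comm]⟩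
    have h := Subgroup.relIndex_mul_index hle
    rw [← Subgroup.index_comap, IsCyclic.index_powMonoidHom_range, IsCyclic.index_powMonoidHom_range,
      card_norm_one hF, show Nat.gcd (q + 1) 2 = 2 from Nat.gcd_eq_right (by
        obtain ⟨k, hk⟩ := hodd; exact ⟨k + 1, by omega⟩), Nat.gcd_comm] at h
    exact h
  rw [split_det hF p hn _ ((powMonoidHom n : ↥(N1 F q) →* ↥(N1 F q)).range.comap (powMonoidHom 2))
    (fun C hC => ?_) fun b hb => ?_]
  · rw [← hidx, Nat.mul_div_cancel _ two_pos]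
    exact Nat.gcd_eq_right ((Dvd.intro 2 hidx).trans (Nat.gcd_dvd_left _ _))
  · obtain ⟨c, hc⟩ := comm_data hF p hn hC
    obtain ⟨B, t, c₀, ht, hB, htn, hd⟩ := cent_data hF (show 1 ≤ n by omega) X hM hc
    have hsq := AutPSL.GForms.det_sq_eq hB
    have hσt : σ t ≠ 0 := (map_ne_zero σ).2 ht
    have hw : σ (t / σ t) * (t / σ t) = 1 := by
      rw [map_div₀, X.invol]; field_simp
    have hC0 : C.1.val.det ≠ 0 := (GeneralLinearGroup.det C.1).ne_zero
    have hCN : Units.mk0 _ hC0 ∈ N1 F q := by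
      rw [MonoidHom.mem_ker, powMonoidHom_apply]
      exact Units.ext (by simpa using det_GU_pow hF C)
    refine ⟨1, ⟨⟨_, hCN⟩, ⟨_, mem_N1 X (div_ne_zero ht hσt) hw⟩, Subtype.ext (Units.ext ?_)⟩, ?_⟩
    · show (t / σ t) ^ n = C.1.val.det ^ 2
      rw [div_pow, div_eq_iff (pow_ne_zero _ hσt)]
      refine mul_right_cancel₀ (pow_ne_zero n ht) ?_
      rw [mul_assoc (C.1.val.det ^ 2), ← mul_pow, ← mul_pow, htn, ← map_pow, ← hsq, map_pow, ← mul_pow, hd]
      ring
    · show C.1.val.det = (1 : F) ^ n * C.1.val.det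
      rw [one_pow, one_mul]
  · obtain ⟨u, hu'⟩ := hb
    obtain ⟨t, ht0, hu, c₀, hc₀⟩ := exists_hilbert hF p X u
    have hσt : σ t ≠ 0 := (map_ne_zero σ).2 ht0
    have hbu : (((b : Fˣ) : F)) ^ 2 = (t / σ t) ^ n := by
      have h := congrArg (fun z : ↥(N1 F q) => ((z : Fˣ) : F)) hu'
      simp only [powMonoidHom_apply, SubmonoidClass.coe_pow, Units.val_pow_eq_pow_val] at h
      rw [← hu]; exact h.symm
    have hz : (((b : Fˣ) : F) / t ^ n) ^ 2 = i c₀ ^ n := by
      rw [div_pow, hbu, ← pow_mul, mul_comm n 2, pow_mul, ← div_pow]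
      congr 1
      field_simp
      linear_combination -(1 : F) * hc₀
    obtain ⟨d, hd⟩ : ∃ d : F₀, i d = ((b : Fˣ) : F) / t ^ n := by
      have hh : ((b : Fˣ) : F) / t ^ n = i ((c₀ : F₀) ^ m) ∨ ((b : Fˣ) : F) / t ^ n = -i ((c₀ : F₀) ^ m) :=
        sq_eq_sq_iff_eq_or_eq_neg.1 (by rw [hz, map_pow, ← pow_mul, mul_comm, ← hnm])
      rcases hh with hh | hh
      · exact ⟨_, hh.symm⟩
      · exact ⟨-((c₀ : F₀) ^ m), by rw [map_neg]; exact hh.symm⟩
    obtain ⟨B, hB, hBd⟩ := symm_simil (hF₀ ▸ hodd) hnm (show 1 ≤ n by omega) N hN c₀ d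
      (i.injective (by rw [map_pow, hd, hz, map_pow]))
    obtain ⟨h, w, hcomm, hdh⟩ := cent_of_simil hF p hn X hM hB hc₀
    refine ⟨h, w, hcomm, ?_⟩
    rw [hdh, hBd, hd, mul_div_cancel₀ _ (pow_ne_zero _ ht0)]

end Count

end Cfsg.Lib.Linear.AutPSU.Proxy
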