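import Cfsg.Agent.Lib.Linear.AutPSU.Normal

/-!
# `psi` is semilinear

For `n ≥ 4` this follows from additivity and the preservation of lines. For `n = 3` the diagonal torus of the pair
`(x, f)` shows that the additive map is multiplicative.
-/

set_option autoImplicit false

namespace Cfsg.Lib.Linear.AutPSU

open Matrix Module Cfsg.Lib.Linear.Herm

set_option quotPrecheck false

variable {n : ℕ} {F : Type*} [Field F] [Fintype F] {q : ℕ} (hF : Fintype.card F = q ^ 2)

local notation "V" => (Fin n → F)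
local notation "G" => ↥(Cfsg.SU n F q)
local notation "P" => Cfsg.PSU n F q
local notation "σ₀" => frob hF
local notation "H" => hB hF n

variable {x f : Fin n → F}

/-- The torus of a hyperbolic pair in dimension `3`. -/
theorem Hyp.exists_torus (Q : Hyp hF x f) {u₀ : Fin n → F} (hxu : H x u₀ = 0) (hfu : H f u₀ = 0)
    (hu0 : u₀ ≠ 0) (hgen : ∀ u, H x u = 0 → H f u = 0 → ∃ t : F, u = t • u₀) {a : F} (ha : a ≠ 0) :
    ∃ D : G, act D x = (σ₀ a)⁻¹ • x ∧ act D f = a • f ∧ act D u₀ = (σ₀ a / a) • u₀ := by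
  classical
  let d : Fin 3 → F := ![a, σ₀ a / a, (σ₀ a)⁻¹]
  have hli : LinearIndependent F ![f, u₀, x] := by
    rw [Fintype.linearIndependent_iff]
    intro c hc
    simp only [Fin.sum_univ_three, Matrix.cons_val_zero, Matrix.cons_val_one, Matrix.cons_val_two, Matrix.head_cons,
      Matrix.tail_cons] at hc
    obtain ⟨h0, h2, -⟩ := Q.form_f_add hF (a := c 0) (b := c 2) (u := c 1 • u₀)
      (by rw [form_smul_right, hxu, mul_zero]) (by rw [form_smul_right, hfu, mul_zero])
    rw [hc, map_zero] at h0 h2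
    rw [← h0, ← h2, zero_smul, zero_smul, zero_add, add_zero] at hc
    intro i
    fin_cases i
    · exact h0.symm
    · exact (smul_eq_zero.1 hc).resolve_right hu0
    · exact h2.symm
  have hsp : ⊤ ≤ Submodule.span F (Set.range ![f, u₀, x]) := fun v _ => by
    obtain ⟨t, ht⟩ := hgen _ (Q.proj_perp_x hF v) (Q.proj_perp_f hF v)
    rw [proj_decomp hF (x := x) (f := f) v, ht]
    exact add_mem (add_mem (Submodule.smul_mem _ _ (Submodule.subset_span ⟨0, rfl⟩))
      (Submodule.smul_mem _ _ (Submodule.subset_span ⟨1, rfl⟩))) (Submodule.smul_mem _ _ (Submodule.subset_span ⟨2, rfl⟩))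
  let b := Basis.mk hli hsp
  have hb : ∀ i, b i = ![f, u₀, x] i := fun i => Basis.mk_apply hli hsp i
  let L : V →ₗ[F] V := b.constr F fun i => d i • b i
  have hLb : ∀ i, L (b i) = d i • b i := fun i => Basis.constr_basis b F _ i
  set M := LinearMap.toMatrix' L with hM
  have hMx : ∀ v, M *ᵥ v = L v := fun v => by rw [hM, LinearMap.toMatrix'_mulVec]
  have ha' : σ₀ a ≠ 0 := (map_ne_zero _).2 ha
  have hLf : L f = a • f := by have := hLb 0; rwa [hb] at this
  have hLu : L u₀ = (σ₀ a / a) • u₀ := by have := hLb 1; rwa [hb] at this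
  have hLx : L x = (σ₀ a)⁻¹ • x := by have := hLb 2; rwa [hb] at this
  have hdet : M.det = 1 := by
    rw [hM, LinearMap.det_toMatrix', ← LinearMap.det_toMatrix b,
      show LinearMap.toMatrix b b L = Matrix.diagonal d from Matrix.ext fun i j => by
        rw [LinearMap.toMatrix_apply, hLb, map_smul, Finsupp.smul_apply, Basis.repr_self, Finsupp.single_apply,
          Matrix.diagonal_apply]
        by_cases h : i = j
        · subst h; simp
        · simp [h, Ne.symm h],
      Matrix.det_diagonal, Fin.prod_univ_three]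
    show a * (σ₀ a / a) * (σ₀ a)⁻¹ = 1
    field_simp
  have hiso : ∀ v w : V, H (M *ᵥ v) (M *ᵥ w) = H v w := by
    have hN : (σ₀ a / a) * σ₀ (σ₀ a / a) = 1 := by
      rw [map_div₀, frob_frob hF]; field_simp
    intro v w
    obtain ⟨t, ht⟩ := hgen _ (Q.proj_perp_x hF v) (Q.proj_perp_f hF v)
    obtain ⟨r, hr⟩ := hgen _ (Q.proj_perp_x hF w) (Q.proj_perp_f hF w)
    rw [hMx, hMx, proj_decomp hF (x := x) (f := f) v, proj_decomp hF (x := x) (f := f) w, ht, hr]
    simp only [map_add, map_smul, hLf, hLu, hLx, LinearMap.add_apply, form_smul_left, form_smul_right, Q.hx.2,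
      Q.hf.2, Q.hxf, Q.hfx, hxu, hfu, (form_comm_zero hF).1 hxu, (form_comm_zero hF).1 hfu, map_inv₀, frob_frob hF,
      mul_zero, add_zero, zero_add, mul_one]
    linear_combination (σ₀ (H f v) * H x w) * (inv_mul_cancel₀ ha) + (σ₀ (H x v) * H f w) * (mul_inv_cancel₀ ha') +
      (σ₀ t * r * H u₀ u₀) * hN
  exact ⟨⟨⟨M, hdet⟩, fun v w => hiso w v⟩, (hMx x).trans hLx, (hMx f).trans hLf, (hMx u₀).trans hLu⟩

variable {γ : MulAut (Cfsg.PSU n F q)} {p : ℕ} [Fact p.Prime] [CharP F p]

theorem Fixes.psi_torus (S : Fixes hF p γ x f) {u₀ : Fin n → F} (hxu : H x u₀ = 0) (hfu : H f u₀ = 0)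
    (hu0 : u₀ ≠ 0) (hgen : ∀ u, H x u = 0 → H f u = 0 → ∃ t : F, u = t • u₀) {a : F} (ha : a ≠ 0) :
    ∃ k' : F, ∀ u, H x u = 0 → H f u = 0 →
      psi hF γ x f ((σ₀ a / a / a) • u) = k' • psi hF γ x f u := by
  obtain ⟨D, hDx, hDf, hDu⟩ := S.hp.exists_torus hF hxu hfu hu0 hgen ha
  obtain ⟨D', hD'⟩ := QuotientGroup.mk_surjective (γ (QuotientGroup.mk D))
  have hn2 := S.hn2 hF
  obtain ⟨a₁, -, ha₁⟩ := Img.unique hF p hn2 S.hxx (Img.smul_left hF (hDx ▸ Img.conj hF S.hxx hD'.symm :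
    Img hF γ ((σ₀ a)⁻¹ • x) (act D' x)) ((map_ne_zero σ₀).2 ha) |> fun h => by
      rwa [smul_smul, mul_inv_cancel₀ ((map_ne_zero σ₀).2 ha), one_smul] at h)
  obtain ⟨a₂, ha₂0, ha₂⟩ := Img.unique hF p hn2 S.hff (Img.smul_left hF (hDf ▸ Img.conj hF S.hff hD'.symm :
    Img hF γ (a • f) (act D' f)) (inv_ne_zero ha) |> fun h => by
      rwa [smul_smul, inv_mul_cancel₀ ha, one_smul] at h)
  have hW : ∀ w, H x w = 0 → H f w = 0 → H x (act D' w) = 0 ∧ H f (act D' w) = 0 := by
    intro w hw hw'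
    have h1 := form_act hF D' x w
    have h2 := form_act hF D' f w
    rw [ha₁, form_smul_left, hw] at h1
    rw [ha₂, form_smul_left, hw'] at h2
    have hne : a₁ ≠ 0 := fun h0 => act_ne_zero D' S.hp.hx.1 (by rw [ha₁, h0, zero_smul])
    exact ⟨(mul_eq_zero.1 h1).resolve_left ((map_ne_zero σ₀).2 hne),
      (mul_eq_zero.1 h2).resolve_left ((map_ne_zero σ₀).2 ha₂0)⟩
  obtain ⟨hw0, hw0'⟩ := hW u₀ hxu hfu
  obtain ⟨b', hb'⟩ := hgen _ hw0 hw0'
  refine ⟨a₂⁻¹ * b', fun u hu hu' => ?_⟩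
  set k := σ₀ a / a / a with hk
  obtain ⟨c, hc⟩ := exists_trace hF (-(H u u)) (by rw [map_neg, self_mem])
  have hc1 : c + σ₀ c + H u u = 0 := by rw [hc]; ring
  obtain ⟨hw, hI⟩ := S.phi_spec hF (S.hp.nz_pt hF hu hu' hc1)
  have hDu' : act D u = (σ₀ a / a) • u := by
    obtain ⟨t, rfl⟩ := hgen u hu hu'
    rw [act_smul, hDu, smul_comm]
  have e : a⁻¹ • act D (pt x f u c) = pt x f (k • u) (a⁻¹ * (σ₀ a)⁻¹ * c) := by
    simp only [pt, act_add, act_smul, hDf, hDu', hDx, smul_add, smul_smul, hk]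
    rw [inv_mul_cancel₀ ha, one_smul]
    congr 2 <;> ring_nf
  have h := (Img.conj hF hI hD'.symm).smul_left hF (inv_ne_zero ha)
  rw [e] at h
  have hxk : H x (k • u) = 0 := by rw [form_smul_right, hu, mul_zero]
  have hfk : H f (k • u) = 0 := by rw [form_smul_right, hu', mul_zero]
  have hck : a⁻¹ * (σ₀ a)⁻¹ * c + σ₀ (a⁻¹ * (σ₀ a)⁻¹ * c) + H (k • u) (k • u) = 0 := by
    rw [← (S.hp.pt_spec hF hxk hfk _).2.2.1]
    exact h.1.2
  set w := phi hF γ x (pt x f u c)
  have hw1 : H x (act D' w) = a₂ := by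
    rw [show w = pt x f (psi hF γ x f u) (H f w) from S.phi_pt hF hu hu' hc1]
    simp only [pt, act_add, act_smul, ha₁, ha₂, map_add, form_smul_right, S.hp.hxf, S.hp.hx.2,
      (hW _ (S.psi_perp hF u).1 (S.psi_perp hF u).2).1]
    ring
  have hphi : phi hF γ x (pt x f (k • u) (a⁻¹ * (σ₀ a)⁻¹ * c)) = a₂⁻¹ • act D' w :=
    S.phi_eq hF (S.hp.nz_pt hF hxk hfk hck)
      ⟨by rw [form_smul_left, form_smul_right, h.2.1.2, mul_zero, mul_zero],
        by rw [form_smul_right, hw1, inv_mul_cancel₀ ha₂0]⟩ (h.smul_right hF (inv_ne_zero ha₂0))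
  have h2 := congrArg (proj hF x f) hphi
  rw [S.phi_pt hF hxk hfk hck, (S.hp.pt_spec hF (S.psi_perp hF _).1 (S.psi_perp hF _).2 _).2.2.2] at h2
  obtain ⟨hp1, hp2⟩ := S.psi_perp hF u
  obtain ⟨t, ht⟩ := hgen _ hp1 hp2
  have hDp : act D' (psi hF γ x f u) = b' • psi hF γ x f u := by
    rw [ht, act_smul, hb', smul_comm]
  have hzero : proj hF x f x = 0 := by
    rw [proj_apply, S.hp.hx.2, S.hp.hfx, zero_smul, one_smul, sub_zero, sub_self]
  have hpf : proj hF x f f = 0 := by
    rw [proj_apply, S.hp.hxf, S.hp.hf.2, one_smul, zero_smul, sub_zero, sub_self]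
  rw [h2, show w = pt x f (psi hF γ x f u) (H f w) from S.phi_pt hF hu hu' hc1]
  simp only [pt, act_add, act_smul, ha₁, ha₂, hDp, map_add, map_smul, hzero, hpf, smul_zero, zero_add, add_zero,
    S.hp.proj_of_perp hF hp1 hp2, smul_smul]

/-- An additive bijection of `F` multiplicative on the values `σ₀ a / a ^ 2` is multiplicative (`q ≥ 3`). -/
theorem mult_of_torus (hq : 3 ≤ q) {μ : F → F} (hadd : ∀ s t, μ (s + t) = μ s + μ t)
    (h1 : μ 1 = 1) (h : ∀ a : F, a ≠ 0 → ∃ k', ∀ s, μ (σ₀ a / a / a * s) = k' * μ s) (s t : F) :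
    μ (s * t) = μ s * μ t := by
  classical
  let M : AddSubgroup F :=
    { carrier := {k | ∀ s, μ (k * s) = μ k * μ s}
      zero_mem' := fun s => by
        have : μ 0 = 0 := by simpa using hadd 0 0
        simp [this]
      add_mem' := fun {a b} ha hb s => by rw [add_mul, hadd, hadd, ha, hb, add_mul]
      neg_mem' := fun {a} ha s => by
        have h0 : μ 0 = 0 := by simpa using hadd 0 0
        have hneg : ∀ y, μ (-y) = -μ y := fun y =>
          eq_neg_of_add_eq_zero_left (by rw [← hadd, neg_add_cancel, h0])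
        rw [neg_mul, hneg, hneg, ha, neg_mul] }
  suffices hM : M = ⊤ by
    have hs : s ∈ M := hM ▸ AddSubgroup.mem_top s
    exact hs t
  have hone : (1 : F) ∈ M := fun s => by rw [one_mul, h1, one_mul]
  have hmul : ∀ a b, a ∈ M → b ∈ M → a * b ∈ M := fun a b ha hb s => by
    rw [mul_assoc, ha, hb, ha, mul_assoc]
  let Mu : Subgroup Fˣ := {
    carrier := {a | (a : F) ∈ M}
    one_mem' := hone
    mul_mem' := fun {a b} ha hb => hmul _ _ ha hb
    inv_mem' := fun {a} ha => by
      have hpow : ∀ i : ℕ, ((a ^ i : Fˣ) : F) ∈ M := fun i => by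
        induction i with
        | zero => simpa using hone
        | succ i ih => rw [pow_succ, Units.val_mul]; exact hmul _ _ ih ha
      have := hpow (orderOf a - 1)
      rwa [show a ^ (orderOf a - 1) = a⁻¹ from eq_inv_of_mul_eq_one_left (by
        rw [← pow_succ, Nat.sub_add_cancel (orderOf_pos a), pow_orderOf_eq_one])] at this }
  have himg : (powMonoidHom (q - 2) : Fˣ →* Fˣ).range ≤ Mu := by
    rintro _ ⟨a, rfl⟩
    show ((powMonoidHom (q - 2) a : Fˣ) : F) ∈ M
    obtain ⟨k', hk'⟩ := h (a : F) a.ne_zero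
    have e : ((powMonoidHom (q - 2) a : Fˣ) : F) = σ₀ (a : F) / a / a := by
      rw [powMonoidHom_apply, Units.val_pow_eq_pow_val, frob_apply, div_div, eq_div_iff (by simp), ← sq, ← pow_add,
        Nat.sub_add_cancel (by omega : 2 ≤ q)]
    rw [e]
    intro s
    rw [hk' s]
    have := hk' 1
    rw [mul_one, h1, mul_one] at this
    rw [this]
  -- the unit group is large
  have hN : Nat.card Fˣ = (q + 1) * (q - 1) := card_units_sq hF
  have hNq : (q + 1) * (q - 1) + 1 = q ^ 2 := by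
    obtain ⟨r, rfl⟩ : ∃ r, q = r + 1 := ⟨q - 1, by omega⟩
    simp only [Nat.add_sub_cancel]; ring
  have hlarge : (q + 1) * (q - 1) ≤ Nat.card Mu * 3 := by
    have hk := IsCyclic.card_powMonoidHom_ker Fˣ (q - 2)
    have hr := Subgroup.card_mul_index (powMonoidHom (q - 2) : Fˣ →* Fˣ).ker
    rw [Subgroup.index_ker, hk, hN] at hr
    have hg : Nat.gcd ((q + 1) * (q - 1)) (q - 2) ∣ 3 := by
      have hcop : Nat.Coprime (q - 1) (q - 2) := by
        rw [show q - 1 = q - 2 + 1 by omega]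
        exact Nat.coprime_self_add_left.2 (Nat.coprime_one_left _)
      rw [Nat.Coprime.gcd_mul_right_cancel _ hcop, show q + 1 = 3 + (q - 2) by omega, Nat.gcd_add_self_left]
      exact Nat.gcd_dvd_left 3 _
    calc (q + 1) * (q - 1) = _ := hr.symm
      _ ≤ 3 * Nat.card Mu := Nat.mul_le_mul (Nat.le_of_dvd (by norm_num) hg) (Subgroup.card_le_of_le himg)
      _ = _ := mul_comm _ _
  have hMcard : Nat.card M = Nat.card Mu + 1 := by
    have e : {k : F // k ∈ M} ≃ Option Mu :=
      { toFun := fun k => if hk : (k : F) = 0 then none else some ⟨Units.mk0 (k : F) hk, k.2⟩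
        invFun := fun o => o.elim ⟨0, M.zero_mem⟩ fun a => ⟨((a : Fˣ) : F), a.2⟩
        left_inv := fun k => by
          by_cases hk : (k : F) = 0
          · simp [hk]; exact Subtype.ext hk.symm
          · simp [hk]
        right_inv := fun o => by
          cases o with
          | none => simp
          | some a => simp }
    rw [show Nat.card M = Nat.card {k : F // k ∈ M} from rfl, Nat.card_congr e, Finite.card_option]
  have hidx := M.index_mul_card
  rw [Nat.card_eq_fintype_card (α := F), hF, hMcard, ← hNq] at hidx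
  have hsmall : M.index ≤ 2 := by
    by_contra hgt
    have : 3 * (Nat.card Mu + 1) ≤ M.index * (Nat.card Mu + 1) := Nat.mul_le_mul_right _ (by omega)
    omega
  rcases Nat.lt_or_ge M.index 2 with h2 | h2
  · refine AddSubgroup.index_eq_one.1 ?_
    have : M.index ≠ 0 := AddSubgroup.index_ne_zero_of_finite
    omega
  rw [show M.index = 2 by omega] at hidx
  have hdvd : Nat.card Mu ∣ (q + 1) * (q - 1) := hN ▸ Subgroup.card_subgroup_dvd_card Mu
  have h3 : Nat.card Mu ∣ 1 := by
    have : (q + 1) * (q - 1) = 2 * Nat.card Mu + 1 := by omega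
    rw [this] at hdvd
    exact (Nat.dvd_add_right (dvd_mul_left _ 2)).1 hdvd
  have : Nat.card Mu ≤ 1 := Nat.le_of_dvd one_pos h3
  have : 2 * 4 ≤ (q - 1) * (q + 1) := Nat.mul_le_mul (by omega) (by omega)
  have hc : (q - 1) * (q + 1) = (q + 1) * (q - 1) := mul_comm _ _
  omega

/-- `psi` is semilinear. -/
theorem Fixes.exists_sigma (S : Fixes hF p γ x f) (h32 : ¬ (n = 3 ∧ q = 2)) :
    ∃ σ : F ≃+* F, ∀ u, H x u = 0 → H f u = 0 → ∀ s : F,
      psi hF γ x f (s • u) = σ s • psi hF γ x f u := by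
  classical
  obtain ⟨u₀, hxu₀, hfu₀, hu₀⟩ := S.hp.exists_aniso hF S.hn
  have hu00 : u₀ ≠ 0 := fun h => hu₀ (by rw [h, map_zero])
  have hx : ∀ {u} (s : F), H x u = 0 → H x (s • u) = 0 := fun s hu => by rw [form_smul_right, hu, mul_zero]
  have hf : ∀ {u} (s : F), H f u = 0 → H f (s • u) = 0 := fun s hu => by rw [form_smul_right, hu, mul_zero]
  have hne : ∀ {u}, H x u = 0 → H f u = 0 → u ≠ 0 → psi hF γ x f u ≠ 0 := fun hu hu' h0 h =>
    h0 (S.psi_inj hF hu hu' (map_zero _) (map_zero _) (h.trans (S.psi_zero hF).symm))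
  choose A hA using fun (u : {u : V // H x u = 0 ∧ H f u = 0}) (s : F) => S.psi_smul hF u.2.1 u.2.2 s
  set μ := A ⟨u₀, hxu₀, hfu₀⟩ with hμ
  have hμs : ∀ s, psi hF γ x f (s • u₀) = μ s • psi hF γ x f u₀ := hA ⟨u₀, hxu₀, hfu₀⟩
  have hψ0 := hne hxu₀ hfu₀ hu00
  have hadd : ∀ s t, μ (s + t) = μ s + μ t := fun s t => smul_left_injective F hψ0 (by
    show μ (s + t) • _ = (μ s + μ t) • _
    rw [add_smul, ← hμs, ← hμs, ← hμs, add_smul, S.psi_add hF (hx s hxu₀) (hf s hfu₀) (hx t hxu₀) (hf t hfu₀)])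
  have h1 : μ 1 = 1 := smul_left_injective F hψ0 (by
    show μ 1 • _ = (1 : F) • _
    rw [← hμs, one_smul, one_smul])
  have hbij : Function.Bijective μ := Finite.injective_iff_bijective.1 fun s t h =>
    smul_left_injective F hu00 (S.psi_inj hF (hx s hxu₀) (hf s hfu₀) (hx t hxu₀) (hf t hfu₀) (by rw [hμs, hμs, h]))
  -- independent vectors share the multiplier
  have hind : ∀ u, H x u = 0 → H f u = 0 → (∀ t : F, u ≠ t • u₀) →
      ∀ s, psi hF γ x f (s • u) = μ s • psi hF γ x f u := by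
    intro u hu hu' hd s
    obtain ⟨b, hb⟩ := S.psi_smul hF hu hu' s
    obtain ⟨c, hc⟩ := S.psi_smul hF (u := u + u₀) (by rw [map_add, hu, hxu₀, add_zero])
      (by rw [map_add, hu', hfu₀, add_zero]) s
    rw [smul_add, S.psi_add hF (hx s hu) (hf s hu') (hx s hxu₀) (hf s hfu₀), hb, hμs,
      S.psi_add hF hu hu' hxu₀ hfu₀, smul_add] at hc
    by_cases hbc : b = c
    · subst hbc
      rw [hb]
      congr 1
      exact (smul_left_injective F hψ0 (add_left_cancel hc)).symm
    · exfalso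
      obtain ⟨t, ht⟩ := hbij.2 ((c - μ s) / (b - c))
      refine hd t (S.psi_inj hF hu hu' (hx t hxu₀) (hf t hfu₀) ?_)
      rw [hμs, ht]
      have h2 : (b - c) • psi hF γ x f u = (c - μ s) • psi hF γ x f u₀ := by
        linear_combination (norm := module) hc
      rw [div_eq_inv_mul, ← smul_smul, ← h2, smul_smul, inv_mul_cancel₀ (sub_ne_zero.2 hbc), one_smul]
  have hmul : ∀ s t, μ (s * t) = μ s * μ t := by
    by_cases hex : ∃ v, H x v = 0 ∧ H f v = 0 ∧ ∀ t : F, v ≠ t • u₀
    · obtain ⟨v, hv, hv', hvd⟩ := hex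
      have hv0 : v ≠ 0 := fun h => hvd 0 (by rw [h, zero_smul])
      intro s t
      refine smul_left_injective F (hne hv hv' hv0) ?_
      show μ (s * t) • _ = (μ s * μ t) • _
      rcases eq_or_ne t 0 with rfl | ht0
      · have : μ 0 = 0 := by simpa using hadd 0 0
        rw [mul_zero, this, mul_zero]
      rw [← hind v hv hv' hvd, mul_smul, mul_smul,
        hind (t • v) (hx t hv) (hf t hv') (fun r hr => hvd (t⁻¹ * r) (by
          rw [← smul_smul, ← hr, smul_smul, inv_mul_cancel₀ ht0, one_smul])) s, hind v hv hv' hvd]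
    · push Not at hex
      have hq : 3 ≤ q := by
        have hn3 : n ≤ 3 := by
          have hle : (⊤ : Submodule F V) ≤ Submodule.span F (({f, u₀, x} : Finset V) : Set V) := fun v _ => by
            obtain ⟨t, ht⟩ := hex _ (S.hp.proj_perp_x hF v) (S.hp.proj_perp_f hF v)
            rw [proj_decomp hF (x := x) (f := f) v, ht]
            refine add_mem (add_mem ?_ ?_) ?_ <;> exact Submodule.smul_mem _ _ (Submodule.subset_span (by simp))
          have h1 := Submodule.finrank_mono hle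
          rw [finrank_top, finrank_fin_fun] at h1
          exact h1.trans ((finrank_span_finset_le_card _).trans Finset.card_le_three)
        have := S.hn
        have := two_le_q hF
        omega
      refine mult_of_torus hF hq hadd h1 fun a ha => ?_
      obtain ⟨k', hk'⟩ := S.psi_torus hF hxu₀ hfu₀ hu00 hex ha
      refine ⟨k', fun s => smul_left_injective F hψ0 ?_⟩
      show μ _ • _ = (k' * μ s) • _
      rw [← hμs, mul_smul, hk' _ (hx s hxu₀) (hf s hfu₀), hμs, smul_smul]
  let σ : F ≃+* F := RingEquiv.ofBijective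
    ({ toFun := μ, map_one' := h1, map_mul' := hmul,
       map_zero' := by simpa using hadd 0 0, map_add' := hadd } : F →+* F) hbij
  refine ⟨σ, fun u hu hu' s => ?_⟩
  show psi hF γ x f (s • u) = μ s • psi hF γ x f u
  by_cases hd : ∃ t : F, u = t • u₀
  · obtain ⟨t, rfl⟩ := hd
    rw [smul_smul, hμs, hμs, smul_smul, hmul]
  · push Not at hd
    exact hind u hu hu' hd s

end Cfsg.Lib.Linear.AutPSU
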