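import Cfsg.Agent.Lib.Linear.AutPSU.Points

/-!
# An automorphism fixing the points of a hyperbolic pair `(x, f)`

`phi` gives the image, normalised by `H x · = 1`, of a point off `x ^ ⊥`. Its component `psi` orthogonal to the
pair is additive and maps lines to lines.
-/

set_option autoImplicit false

namespace Cfsg.Lib.Linear.AutPSU

open Matrix Module Cfsg.Lib.Linear.Herm

set_option quotPrecheck false

variable {n : ℕ} {F : Type*} [Field F] [Fintype F] {q : ℕ} (hF : Fintype.card F = q ^ 2)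

local notation "V" => (Fin n → F)
local notation "G" => ↥(Cfsg.SU n F q)
local notation "P" => Cfsg.PSU n F q
local notation "σ₀" => frob hF
local notation "H" => hB hF n

/-- An isotropic vector with coefficient `1` along `f`. -/
def Nz (x z : V) : Prop := H z z = 0 ∧ H x z = 1

variable {x f z w : Fin n → F}

theorem Nz.iso (h : Nz hF x z) : Iso hF z :=
  ⟨fun h0 => by rw [h0, Nz, map_zero, map_zero] at h; exact zero_ne_one h.2, h.1⟩

/-- The vector with coordinates `(1, u, c)`. -/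
def pt (x f u : V) (c : F) : V := f + u + c • x

theorem pt_add (u : Fin n → F) (c k : F) : pt x f u c + k • x = pt x f u (c + k) := by
  simp only [pt]; module

theorem Hyp.pt_spec (Q : Hyp hF x f) {u : Fin n → F} (hxu : H x u = 0) (hfu : H f u = 0) (c : F) :
    H x (pt x f u c) = 1 ∧ H f (pt x f u c) = c ∧ H (pt x f u c) (pt x f u c) = c + σ₀ c + H u u ∧
      proj hF x f (pt x f u c) = u := by
  have h := Q.form_f_add hF (a := 1) (b := c) hxu hfu
  have h' := Q.proj_eq hF (a := 1) (b := c) hxu hfu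
  simp only [one_smul, map_one, one_mul, mul_one] at h h'
  exact ⟨h.1, h.2.1, h.2.2, h'⟩

theorem Hyp.nz_pt (Q : Hyp hF x f) {u : Fin n → F} (hxu : H x u = 0) (hfu : H f u = 0) {c : F}
    (hc : c + σ₀ c + H u u = 0) : Nz hF x (pt x f u c) :=
  ⟨(Q.pt_spec hF hxu hfu c).2.2.1.trans hc, (Q.pt_spec hF hxu hfu c).1⟩

theorem Hyp.eq_pt (Q : Hyp hF x f) (h : Nz hF x z) :
    z = pt x f (proj hF x f z) (H f z) ∧ H f z + σ₀ (H f z) + H (proj hF x f z) (proj hF x f z) = 0 := by
  have e : z = pt x f (proj hF x f z) (H f z) := by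
    conv_lhs => rw [proj_decomp hF (x := x) (f := f) z, h.2, one_smul]
    rfl
  refine ⟨e, ?_⟩
  rw [← (Q.pt_spec hF (Q.proj_perp_x hF z) (Q.proj_perp_f hF z) (H f z)).2.2.1, ← e]
  exact h.1

theorem Nz.add_smul (hx : Iso hF x) (h : Nz hF x z) {k : F} (hk : Skew hF k) : Nz hF x (z + k • x) := by
  refine ⟨?_, by rw [map_add, form_smul_right, hx.2, h.2, mul_zero, add_zero]⟩
  have h2 : H z x = 1 := by rw [← form_symm hF x z, h.2, map_one]
  simp only [map_add, LinearMap.add_apply, form_smul_left, form_smul_right, hx.2, h.1, h.2, h2]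
  have h3 := hk.conj
  linear_combination h3

variable (γ : MulAut (Cfsg.PSU n F q))

open Classical in
/-- The normalised image. -/
noncomputable def phi (x z : V) : V :=
  if h : ∃ w, Nz hF x w ∧ Img hF γ z w then h.choose else 0

/-- The component of the image orthogonal to the pair. -/
noncomputable def psi (x f u : V) : V :=
  proj hF x f (phi hF γ x (pt x f u (exists_trace hF (-(H u u)) (by rw [map_neg, self_mem])).choose))

/-- The action on the root group of `x`. -/
noncomputable def tau (x f : V) (k : F) : F := H f (phi hF γ x (f + k • x))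

/-- `γ` fixes the points of the hyperbolic pair `(x, f)`. -/
structure Fixes (p : ℕ) [Fact p.Prime] [CharP F p] (γ : MulAut P) (x f : V) : Prop where
  hn : 3 ≤ n
  hp : Hyp hF x f
  hxx : Img hF γ x x
  hff : Img hF γ f f

variable {p : ℕ} [Fact p.Prime] [CharP F p] {γ}

theorem Fixes.symm (S : Fixes hF p γ x f) : Fixes hF p γ⁻¹ x f :=
  ⟨S.hn, S.hp, S.hxx.symm, S.hff.symm⟩

theorem Fixes.hn2 (S : Fixes hF p γ x f) : 2 ≤ n := le_trans (by norm_num) S.hn

theorem Fixes.orth_x (S : Fixes hF p γ x f) (h : Img hF γ z w) : H x z = 0 ↔ H x w = 0 :=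
  Img.orth hF p S.hn2 S.hxx h

theorem Fixes.orth_f (S : Fixes hF p γ x f) (h : Img hF γ z w) : H f z = 0 ↔ H f w = 0 :=
  Img.orth hF p S.hn2 S.hff h

theorem Fixes.phi_spec (S : Fixes hF p γ x f) (h : Nz hF x z) :
    Nz hF x (phi hF γ x z) ∧ Img hF γ z (phi hF γ x z) := by
  have hex : ∃ w, Nz hF x w ∧ Img hF γ z w := by
    obtain ⟨w, hw⟩ := exists_img hF p S.hn2 γ (h.iso hF)
    have hne : H x w ≠ 0 := fun h0 => by
      have := (S.orth_x hF hw).2 h0
      rw [h.2] at this
      exact one_ne_zero this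
    refine ⟨(H x w)⁻¹ • w, ⟨?_, ?_⟩, hw.smul_right hF (inv_ne_zero hne)⟩
    · rw [form_smul_left, form_smul_right, hw.2.1.2, mul_zero, mul_zero]
    · rw [form_smul_right, inv_mul_cancel₀ hne]
  rw [phi, dif_pos hex]
  exact hex.choose_spec

theorem Fixes.phi_eq (S : Fixes hF p γ x f) (h : Nz hF x z) (hw : Nz hF x w) (hI : Img hF γ z w) :
    phi hF γ x z = w := by
  obtain ⟨a, -, ha⟩ := Img.unique hF p S.hn2 (S.phi_spec hF h).2 hI
  have := hw.2
  rw [ha, form_smul_right, (S.phi_spec hF h).1.2, mul_one] at this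
  rw [ha, this, one_smul]

theorem Fixes.phi_inj (S : Fixes hF p γ x f) (h : Nz hF x z) (h' : Nz hF x w)
    (e : phi hF γ x z = phi hF γ x w) : z = w := by
  obtain ⟨a, -, ha⟩ := Img.unique_left hF p S.hn2 (S.phi_spec hF h).2 (e ▸ (S.phi_spec hF h').2)
  have := h'.2
  rw [ha, form_smul_right, h.2, mul_one] at this
  rw [ha, this, one_smul]

theorem Fixes.nz_f (S : Fixes hF p γ x f) : Nz hF x f := ⟨S.hp.hf.2, S.hp.hxf⟩

theorem Fixes.phi_f (S : Fixes hF p γ x f) : phi hF γ x f = f := S.phi_eq hF (S.nz_f hF) (S.nz_f hF) S.hff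

theorem Fixes.tau_zero (S : Fixes hF p γ x f) : tau hF γ x f 0 = 0 := by
  rw [tau, zero_smul, add_zero, S.phi_f hF, S.hp.hf.2]

theorem Fixes.phi_shift (S : Fixes hF p γ x f) (h : Nz hF x z) {k : F} (hk : Skew hF k) :
    phi hF γ x (z + k • x) = phi hF γ x z + tau hF γ x f k • x ∧ Skew hF (tau hF γ x f k) := by
  rcases eq_or_ne k 0 with rfl | hk0
  · rw [zero_smul, add_zero, S.tau_zero hF, zero_smul, add_zero]
    exact ⟨rfl, skew_zero hF⟩
  obtain ⟨l, -, hl, e⟩ := Img.transvection hF p S.hn2 S.hxx hk0 hk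
  have main : ∀ y, Nz hF x y → phi hF γ x (y + k • x) = phi hF γ x y + l • x := by
    intro y hy
    obtain ⟨h1, h2⟩ := S.phi_spec hF hy
    refine S.phi_eq hF (hy.add_smul hF S.hp.hx hk) (h1.add_smul hF S.hp.hx hl) ?_
    have h3 := Img.conj hF h2 (g := tU hF x k) (g' := tU hF x l) e
    rwa [act_tU hF S.hp.hx.2 hk, act_tU hF S.hp.hx.2 hl, hy.2, h1.2, mul_one, mul_one] at h3
  have hl' : tau hF γ x f k = l := by
    rw [tau, main f (S.nz_f hF), S.phi_f hF, map_add, form_smul_right, S.hp.hf.2, S.hp.hfx, zero_add, mul_one]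
  rw [hl']
  exact ⟨main z h, hl⟩

theorem Fixes.tau_surj (S : Fixes hF p γ x f) {l : F} (hl : Skew hF l) : ∃ k, Skew hF k ∧ tau hF γ x f k = l := by
  obtain ⟨h1, hk⟩ := (S.symm hF).phi_shift hF (S.nz_f hF) hl
  rw [(S.symm hF).phi_f hF] at h1
  refine ⟨_, hk, ?_⟩
  have h2 := ((S.symm hF).phi_spec hF ((S.nz_f hF).add_smul hF S.hp.hx hl)).2
  rw [h1] at h2
  have h3 := S.phi_eq hF ((S.nz_f hF).add_smul hF S.hp.hx hk) ((S.nz_f hF).add_smul hF S.hp.hx hl)
    (inv_inv γ ▸ Img.symm hF h2)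
  rw [tau, h3, map_add, form_smul_right, S.hp.hf.2, S.hp.hfx, zero_add, mul_one]

theorem Fixes.phi_pt (S : Fixes hF p γ x f) {u : Fin n → F} (hxu : H x u = 0) (hfu : H f u = 0) {c : F}
    (hc : c + σ₀ c + H u u = 0) :
    phi hF γ x (pt x f u c) = pt x f (psi hF γ x f u) (H f (phi hF γ x (pt x f u c))) := by
  set hex := exists_trace hF (-(H u u)) (by rw [map_neg, self_mem])
  have hc₀ : hex.choose + σ₀ hex.choose + H u u = 0 := by
    rw [hex.choose_spec]; ring
  have hk : Skew hF (c - hex.choose) := by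
    show _ + σ₀ (_ - _) = _
    rw [map_sub]
    linear_combination hc - hc₀
  have hz := S.hp.nz_pt hF hxu hfu hc₀
  have e : pt x f u c = pt x f u hex.choose + (c - hex.choose) • x := by
    simp only [pt]; module
  have h1 : proj hF x f (phi hF γ x (pt x f u c)) = psi hF γ x f u := by
    rw [e, (S.phi_shift hF hz hk).1, map_add, map_smul]
    have : proj hF x f x = 0 := by
      rw [proj_apply, S.hp.hx.2, S.hp.hfx, zero_smul, one_smul, sub_zero, sub_self]
    rw [this, smul_zero, add_zero]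
    rfl
  rw [← h1]
  exact (S.hp.eq_pt hF (S.phi_spec hF (S.hp.nz_pt hF hxu hfu hc)).1).1

theorem Fixes.psi_perp (S : Fixes hF p γ x f) (u : Fin n → F) :
    H x (psi hF γ x f u) = 0 ∧ H f (psi hF γ x f u) = 0 :=
  ⟨S.hp.proj_perp_x hF _, S.hp.proj_perp_f hF _⟩

/-- The last coordinate of the image. -/
theorem Fixes.form_phi_pt (S : Fixes hF p γ x f) {u : Fin n → F} (hxu : H x u = 0) (hfu : H f u = 0) {c : F}
    (hc : c + σ₀ c + H u u = 0) :
    H f (phi hF γ x (pt x f u c)) + σ₀ (H f (phi hF γ x (pt x f u c))) +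
      H (psi hF γ x f u) (psi hF γ x f u) = 0 := by
  rw [← (S.hp.pt_spec hF (S.psi_perp hF u).1 (S.psi_perp hF u).2 _).2.2.1, ← S.phi_pt hF hxu hfu hc]
  exact (S.phi_spec hF (S.hp.nz_pt hF hxu hfu hc)).1.1

theorem Fixes.psi_zero (S : Fixes hF p γ x f) : psi hF γ x f 0 = 0 := by
  have h := S.phi_pt hF (u := 0) (c := 0) (map_zero _) (map_zero _) (by simp)
  have h2 := congrArg (proj hF x f) h
  rw [(S.hp.pt_spec hF (S.psi_perp hF 0).1 (S.psi_perp hF 0).2 _).2.2.2,
    show pt x f (0 : V) (0 : F) = f by simp [pt], S.phi_f hF] at h2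
  rw [← h2, proj_apply, S.hp.hxf, S.hp.hf.2, one_smul, zero_smul, sub_zero, sub_self]

theorem Fixes.psi_inj (S : Fixes hF p γ x f) {u u' : Fin n → F} (hxu : H x u = 0) (hfu : H f u = 0)
    (hxu' : H x u' = 0) (hfu' : H f u' = 0) (h : psi hF γ x f u = psi hF γ x f u') : u = u' := by
  obtain ⟨c, hc⟩ := exists_trace hF (-(H u u)) (by rw [map_neg, self_mem])
  obtain ⟨c', hc'⟩ := exists_trace hF (-(H u' u')) (by rw [map_neg, self_mem])
  have hc1 : c + σ₀ c + H u u = 0 := by rw [hc]; ring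
  have hc1' : c' + σ₀ c' + H u' u' = 0 := by rw [hc']; ring
  set e := H f (phi hF γ x (pt x f u c))
  set e' := H f (phi hF γ x (pt x f u' c'))
  have he : Skew hF (e' - e) := by
    show _ + σ₀ (_ - _) = _
    have h1 := S.form_phi_pt hF hxu hfu hc1
    have h2 := S.form_phi_pt hF hxu' hfu' hc1'
    rw [← h] at h2
    rw [map_sub]
    linear_combination h2 - h1
  obtain ⟨k, hk, hk'⟩ := S.tau_surj hF he
  have hz := S.hp.nz_pt hF hxu hfu hc1
  have h3 : phi hF γ x (pt x f u c + k • x) = phi hF γ x (pt x f u' c') := by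
    rw [(S.phi_shift hF hz hk).1, hk', S.phi_pt hF hxu hfu hc1, S.phi_pt hF hxu' hfu' hc1', ← h, pt_add,
      add_sub_cancel]
  have h4 := S.phi_inj hF (hz.add_smul hF S.hp.hx hk) (S.hp.nz_pt hF hxu' hfu' hc1') h3
  have h5 := congrArg (proj hF x f) h4
  rw [show pt x f u c + k • x = pt x f u (c + k) by simp only [pt]; module,
    (S.hp.pt_spec hF hxu hfu _).2.2.2, (S.hp.pt_spec hF hxu' hfu' _).2.2.2] at h5
  exact h5

/-- The image of an element of the radical of `x`. -/
theorem Fixes.radU_image (S : Fixes hF p γ x f) {g g' : G} (hg : g ∈ radU hF x) {j : ℕ} (hj : g' ^ p ^ j = 1)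
    (he : γ (QuotientGroup.mk g) = QuotientGroup.mk g') : g' ∈ radU hF x := by
  classical
  have hn2 := S.hn2 hF
  have hgx : act g' x = x := by
    have h := Img.conj hF S.hxx he
    rw [hg.1] at h
    obtain ⟨a, -, ha⟩ := Img.unique hF p hn2 S.hxx h
    exact act_eq_self_of_eigen p hj S.hp.hx.1 ha
  have hspan : ∀ z', Iso hF z' → H x z' = 0 → act g' z' ∈ Submodule.span F {x, z'} := by
    intro z' hz' hxz'
    by_contra hne
    obtain ⟨z, hz⟩ := exists_img hF p hn2 γ⁻¹ hz'
    have hz2 : Img hF γ z z' := inv_inv γ ▸ Img.symm hF hz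
    have hxz : H x z = 0 := (S.orth_x hF hz2).2 hxz'
    obtain ⟨a, ha⟩ := hg.2 z hxz
    have him := Img.conj hF hz2 he
    rw [ha] at him
    have key : ∀ u', Iso hF u' → H x u' = 0 → (H (act g' z') u' = 0 ↔ H z' u' = 0) := by
      intro u' hu' hxu'
      obtain ⟨u, hu⟩ := exists_img hF p hn2 γ⁻¹ hu'
      have hu2 : Img hF γ u u' := inv_inv γ ▸ Img.symm hF hu
      have hxu : H x u = 0 := (S.orth_x hF hu2).2 hxu'
      rw [← Img.orth hF p hn2 him hu2, ← Img.orth hF p hn2 hz2 hu2]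
      simp [form_smul_left, hxu]
    have h0 : H (act g' z') z' = 0 := (key z' hz' hxz').2 hz'.2
    obtain ⟨u, hu, hS, hwu⟩ := exists_iso_sep hF (hz'.act hF g') hne fun s hs => by
      obtain ⟨r, t, rfl⟩ := Submodule.mem_span_pair.1 hs
      have h1 : H x (act g' z') = 0 := by
        have := form_act hF g' x z'
        rwa [hgx, hxz'] at this
      simp [form_smul_left, h1, (form_comm_zero hF).1 h0]
    have h2 := (key u hu (hS x (Submodule.subset_span (by simp)))).2 (hS z' (Submodule.subset_span (by simp)))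
    rw [hwu] at h2
    exact one_ne_zero h2
  -- the action modulo `x` is a scalar
  let W : Submodule F V := LinearMap.ker (H x) ⊓ LinearMap.ker (H f)
  let L : V →ₗ[F] V := proj hF x f ∘ₗ (mat g').mulVecLin
  have hW : ∀ u, u ∈ W ↔ H x u = 0 ∧ H f u = 0 := fun u => Iff.rfl
  have hLW : ∀ u, L u ∈ W := fun u => (hW _).2 ⟨S.hp.proj_perp_x hF _, S.hp.proj_perp_f hF _⟩
  have hL : ∀ u ∈ W, ∃ a : F, act g' u = L u + a • x := by
    intro u hu
    refine ⟨H f (act g' u), ?_⟩
    have h1 : H x (act g' u) = 0 := by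
      have := form_act hF g' x u
      rwa [hgx, ((hW u).1 hu).1] at this
    conv_lhs => rw [proj_decomp hF (x := x) (f := f) (act g' u), h1, zero_smul, zero_add]
    rfl
  obtain ⟨b, hb⟩ : ∃ b : F, ∀ u ∈ W, L u = b • u := by
    have hiso : ∀ z ∈ W, H z z = 0 → ∃ b : F, L z = b • z := by
      intro z hz hzz
      rcases eq_or_ne z 0 with rfl | hz0
      · exact ⟨0, by rw [map_zero, smul_zero]⟩
      obtain ⟨r, t, hrt⟩ := Submodule.mem_span_pair.1 (hspan z ⟨hz0, hzz⟩ ((hW z).1 hz).1)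
      refine ⟨t, ?_⟩
      show proj hF x f (act g' z) = t • z
      rw [← hrt, map_add, map_smul, map_smul, S.hp.proj_of_perp hF ((hW z).1 hz).1 ((hW z).1 hz).2]
      have : proj hF x f x = 0 := by
        rw [proj_apply, S.hp.hx.2, S.hp.hfx, zero_smul, one_smul, sub_zero, sub_self]
      rw [this, smul_zero, zero_add]
    by_cases hex : ∃ e ∈ W, e ≠ 0 ∧ H e e = 0
    · obtain ⟨e, he', he0, hee⟩ := hex
      obtain ⟨z₀, hz₀⟩ := exists_pair hF he0
      set z₁ := proj hF x f z₀
      have h1 : H e z₁ = 1 := by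
        rw [show z₁ = proj hF x f z₀ from rfl, proj_apply, map_sub, map_sub, form_smul_right, form_smul_right, hz₀,
          (form_comm_zero hF).1 ((hW e).1 he').1, (form_comm_zero hF).1 ((hW e).1 he').2, mul_zero, mul_zero,
          sub_zero, sub_zero]
      have h1' : H z₁ e = 1 := by rw [← form_symm hF e z₁, h1, map_one]
      obtain ⟨a, ha⟩ := exists_trace hF (-(H z₁ z₁)) (by rw [map_neg, self_mem])
      have hz₁ : z₁ ∈ W := (hW _).2 ⟨S.hp.proj_perp_x hF _, S.hp.proj_perp_f hF _⟩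
      have hee2 : H e (z₁ + a • e) = 1 := by rw [map_add, form_smul_right, hee, h1, mul_zero, add_zero]
      have Q : Hyp hF e (z₁ + a • e) := ⟨⟨he0, hee⟩, ⟨fun h0 => by
        rw [h0, map_zero] at hee2; exact zero_ne_one hee2, by
        simp only [map_add, LinearMap.add_apply, form_smul_left, form_smul_right, hee, h1, h1', mul_one, mul_zero,
          add_zero]
        linear_combination ha⟩, hee2⟩
      exact Q.scalar_of_eigen hF L W he' (W.add_mem hz₁ (W.smul_mem a he')) (hiso e he' hee)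
        fun z hz hzz _ => hiso z hz hzz
    · have hdim : finrank F W < 2 := by
        by_contra h
        obtain ⟨e, he', he0, hee⟩ := exists_iso_ne_zero (frob_ne_id hF) (frob_frob hF) (hB_isSymm hF n) W (by omega)
        exact hex ⟨e, he', he0, hee⟩
      rcases Nat.lt_or_ge (finrank F W) 1 with h0 | h1
      · exact ⟨0, fun u hu => by
          have : W = ⊥ := Submodule.finrank_eq_zero.1 (by omega)
          rw [this, Submodule.mem_bot] at hu
          rw [hu, map_zero, smul_zero]⟩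
      obtain ⟨e, he', he0, hgen⟩ := finrank_eq_one_iff'.1 (show finrank F W = 1 by omega) |> fun ⟨e, he, h⟩ =>
        (⟨(e : V), e.2, fun h0 => he (Subtype.ext h0), fun u (hu : u ∈ W) => by
          obtain ⟨c, hc⟩ := h ⟨u, hu⟩
          exact ⟨c, congrArg Subtype.val hc⟩⟩ : ∃ e : V, e ∈ W ∧ e ≠ 0 ∧ ∀ u ∈ W, ∃ c : F, c • e = u)
      obtain ⟨b, hb⟩ := hgen _ (hLW e)
      exact ⟨b, fun u hu => by
        obtain ⟨c, rfl⟩ := hgen u hu
        rw [map_smul, ← hb, smul_comm]⟩
  obtain ⟨u₀, hxu₀, hfu₀, hu₀⟩ := S.hp.exists_aniso hF S.hn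
  have hpow : ∀ i : ℕ, ∃ a : F, act (g' ^ i) u₀ = b ^ i • u₀ + a • x := by
    intro i
    induction i with
    | zero => exact ⟨0, by rw [pow_zero, pow_zero, act_one, one_smul, zero_smul, add_zero]⟩
    | succ i ih =>
      obtain ⟨a, ha⟩ := ih
      obtain ⟨a', ha'⟩ := hL u₀ ((hW _).2 ⟨hxu₀, hfu₀⟩)
      rw [hb u₀ ((hW _).2 ⟨hxu₀, hfu₀⟩)] at ha'
      refine ⟨b ^ i * a' + a, ?_⟩
      rw [pow_succ', act_mul, ha, act_add, act_smul, act_smul, hgx, ha', pow_succ]
      module
  have hb1 : b = 1 := by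
    obtain ⟨a, ha⟩ := hpow (p ^ j)
    rw [hj, act_one] at ha
    have h1 := congrArg (proj hF x f) ha
    have : proj hF x f x = 0 := by
      rw [proj_apply, S.hp.hx.2, S.hp.hfx, zero_smul, one_smul, sub_zero, sub_self]
    rw [map_add, map_smul, map_smul, this, smul_zero, add_zero, S.hp.proj_of_perp hF hxu₀ hfu₀] at h1
    have hu0 : u₀ ≠ 0 := fun h => hu₀ (by rw [h, map_zero])
    exact pow_pPower_eq_one p (smul_left_injective F hu0 (h1.symm.trans (one_smul F u₀).symm))
  refine ⟨hgx, fun u hu => ?_⟩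
  have hp' : proj hF x f u ∈ W := (hW _).2 ⟨S.hp.proj_perp_x hF _, S.hp.proj_perp_f hF _⟩
  obtain ⟨a, ha⟩ := hL _ hp'
  rw [hb _ hp', hb1, one_smul] at ha
  refine ⟨a, ?_⟩
  have e := proj_decomp hF (x := x) (f := f) u
  rw [hu, zero_smul, zero_add] at e
  calc act g' u = act g' (proj hF x f u) + H f u • x := by
        conv_lhs => rw [e, act_add, act_smul, hgx]
    _ = (proj hF x f u + H f u • x) + a • x := by rw [ha]; abel
    _ = u + a • x := by rw [← e]

theorem Fixes.psi_add (S : Fixes hF p γ x f) {u u' : Fin n → F} (hxu : H x u = 0) (hfu : H f u = 0)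
    (hxu' : H x u' = 0) (hfu' : H f u' = 0) : psi hF γ x f (u + u') = psi hF γ x f u + psi hF γ x f u' := by
  obtain ⟨c, hc⟩ := exists_trace hF (-(H u u)) (by rw [map_neg, self_mem])
  obtain ⟨c', hc'⟩ := exists_trace hF (-(H u' u')) (by rw [map_neg, self_mem])
  have hc1 : c + σ₀ c + H u u = 0 := by rw [hc]; ring
  have hc1' : c' + σ₀ c' + H u' u' = 0 := by rw [hc']; ring
  obtain ⟨g, hg, hgx⟩ := exists_radU hF p S.hp.hx hxu (c := c) hc1
  obtain ⟨g', hg'p, he⟩ := exists_lift_pow hF p S.hn2 (a := γ (QuotientGroup.mk g)) (k := 2)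
    (by rw [← map_pow, ← QuotientGroup.mk_pow, pow_four_of_radU hF p S.hp.hx hg, QuotientGroup.mk_one, map_one])
  obtain ⟨hg'x, hg'u⟩ := S.radU_image hF hg hg'p he.symm
  have hgf : act g f = pt x f u c := by
    rw [hgx, S.hp.hxf, (form_comm_zero hF).1 hfu, one_smul, mul_one, sub_zero]
    rfl
  have hnz : ∀ w, Nz hF x w → Nz hF x (act g' w) := fun w hw => ⟨by rw [form_act, hw.1], by
    have := form_act hF g' x w
    rwa [hg'x, hw.2] at this⟩
  have hz := S.hp.nz_pt hF hxu hfu hc1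
  have hz' := S.hp.nz_pt hF hxu' hfu' hc1'
  have h1 : phi hF γ x (pt x f u c) = act g' f :=
    S.phi_eq hF hz (hnz f (S.nz_f hF)) (hgf ▸ Img.conj hF S.hff he.symm)
  have hxsum : H x (u + u') = 0 := by rw [map_add, hxu, hxu', add_zero]
  have hfsum : H f (u + u') = 0 := by rw [map_add, hfu, hfu', add_zero]
  have hgz' : act g (pt x f u' c') = pt x f (u + u') (c + c' - H u u') := by
    obtain ⟨h2, -, -, -⟩ := S.hp.pt_spec hF hxu' hfu' c'
    rw [hgx, h2]
    simp only [pt, map_add, form_smul_right, (form_comm_zero hF).1 hfu, (form_comm_zero hF).1 hxu]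
    module
  have hnzg : Nz hF x (pt x f (u + u') (c + c' - H u u')) := hgz' ▸ (⟨by rw [form_act, hz'.1], by
    have := form_act hF g x (pt x f u' c')
    rwa [hg.1, hz'.2] at this⟩ : Nz hF x (act g (pt x f u' c')))
  have hc2 : (c + c' - H u u') + σ₀ (c + c' - H u u') + H (u + u') (u + u') = 0 := by
    rw [← (S.hp.pt_spec hF hxsum hfsum _).2.2.1]
    exact hnzg.1
  have h2 : phi hF γ x (pt x f (u + u') (c + c' - H u u')) = act g' (phi hF γ x (pt x f u' c')) :=
    S.phi_eq hF hnzg (hnz _ (S.phi_spec hF hz').1) (hgz' ▸ Img.conj hF (S.phi_spec hF hz').2 he.symm)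
  obtain ⟨a, ha⟩ := hg'u _ (S.psi_perp hF u').1
  have h3 := congrArg (proj hF x f) h2
  rw [S.phi_pt hF hxsum hfsum hc2, (S.hp.pt_spec hF (S.psi_perp hF _).1 (S.psi_perp hF _).2 _).2.2.2,
    S.phi_pt hF hxu' hfu' hc1'] at h3
  rw [h3]
  have hzero : proj hF x f x = 0 := by
    rw [proj_apply, S.hp.hx.2, S.hp.hfx, zero_smul, one_smul, sub_zero, sub_self]
  have h4 : proj hF x f (act g' f) = psi hF γ x f u := by
    rw [← h1, S.phi_pt hF hxu hfu hc1, (S.hp.pt_spec hF (S.psi_perp hF _).1 (S.psi_perp hF _).2 _).2.2.2]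
  simp only [pt, act_add, act_smul, map_add, map_smul, hg'x, ha, hzero, h4, smul_zero, add_zero]
  rw [S.hp.proj_of_perp hF (S.psi_perp hF u').1 (S.psi_perp hF u').2]

/-- The hyperbolic line through `f` and `(1, u, c)`. -/
theorem Fixes.psi_line (S : Fixes hF p γ x f) {u : Fin n → F} (hxu : H x u = 0) (hfu : H f u = 0) {c s : F}
    (hc : c + σ₀ c + H u u = 0) (hc0 : c ≠ 0) (hs : s ≠ 0)
    (hsc : s * c + σ₀ (s * c) + σ₀ s * s * H u u = 0) :
    ∃ b : F, psi hF γ x f (s • u) = b • psi hF γ x f u ∧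
      H f (phi hF γ x (pt x f (s • u) (s * c))) = b * H f (phi hF γ x (pt x f u c)) := by
  have hz := S.hp.nz_pt hF hxu hfu hc
  have hxs : H x (s • u) = 0 := by rw [form_smul_right, hxu, mul_zero]
  have hfs : H f (s • u) = 0 := by rw [form_smul_right, hfu, mul_zero]
  have hcs : s * c + σ₀ (s * c) + H (s • u) (s • u) = 0 := by
    rw [form_smul_left, form_smul_right, ← mul_assoc]; exact hsc
  set k := (1 - s) / (s * c) with hkdef
  have hk : Skew hF k := by
    show _ + σ₀ ((1 - s) / (s * c)) = 0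
    have hsc' : σ₀ (s * c) ≠ 0 := (map_ne_zero _).2 (mul_ne_zero hs hc0)
    rw [hkdef, map_div₀, map_sub, map_one, div_add_div _ _ (mul_ne_zero hs hc0) hsc', div_eq_zero_iff]
    left
    simp only [map_mul] at hsc ⊢
    linear_combination hsc - σ₀ s * s * hc
  rcases eq_or_ne k 0 with hk0 | hk0
  · have hs1 : s = 1 := by
      rw [hkdef, div_eq_zero_iff] at hk0
      exact (sub_eq_zero.1 (hk0.resolve_right (mul_ne_zero hs hc0))).symm
    exact ⟨1, by rw [hs1, one_smul, one_smul], by rw [hs1, one_smul, one_mul, one_mul]⟩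
  obtain ⟨l, -, hl, e⟩ := Img.transvection hF p S.hn2 S.hff hk0 hk
  obtain ⟨hw, him⟩ := S.phi_spec hF hz
  have h := Img.conj hF him (g := tU hF f k) (g' := tU hF f l) e
  rw [act_tU hF S.hp.hf.2 hk, act_tU hF S.hp.hf.2 hl, (S.hp.pt_spec hF hxu hfu c).2.1] at h
  have e1 : pt x f u c + (k * c) • f = s⁻¹ • pt x f (s • u) (s * c) := by
    have : k * c = s⁻¹ - 1 := by rw [hkdef]; field_simp
    rw [this]
    simp only [pt, smul_add, smul_smul, inv_mul_cancel₀ hs, inv_mul_cancel_left₀ hs]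
    module
  rw [e1] at h
  set c' := H f (phi hF γ x (pt x f u c))
  set y := phi hF γ x (pt x f u c) + (l * c') • f with hy
  have hy1 : H x y = 1 + l * c' := by rw [hy, map_add, form_smul_right, hw.2, S.hp.hxf, mul_one]
  have h' := Img.smul_left hF h hs
  rw [smul_smul, mul_inv_cancel₀ hs, one_smul] at h'
  have hzs := S.hp.nz_pt hF hxs hfs hcs
  have hy0 : 1 + l * c' ≠ 0 := fun h0 => by
    have := (S.orth_x hF h').2 (hy1.trans h0)
    rw [hzs.2] at this
    exact one_ne_zero this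
  have hphi : phi hF γ x (pt x f (s • u) (s * c)) = (1 + l * c')⁻¹ • y :=
    S.phi_eq hF hzs ⟨by rw [form_smul_left, form_smul_right, h'.2.1.2, mul_zero, mul_zero],
      by rw [form_smul_right, hy1, inv_mul_cancel₀ hy0]⟩ (h'.smul_right hF (inv_ne_zero hy0))
  refine ⟨(1 + l * c')⁻¹, ?_, ?_⟩
  · have h2 := congrArg (proj hF x f) hphi
    rw [S.phi_pt hF hxs hfs hcs, (S.hp.pt_spec hF (S.psi_perp hF _).1 (S.psi_perp hF _).2 _).2.2.2] at h2
    have hpf : proj hF x f f = 0 := by
      rw [proj_apply, S.hp.hxf, S.hp.hf.2, one_smul, zero_smul, sub_zero, sub_self]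
    rw [h2, hy, map_smul, map_add, map_smul, hpf, smul_zero, add_zero, S.phi_pt hF hxu hfu hc,
      (S.hp.pt_spec hF (S.psi_perp hF _).1 (S.psi_perp hF _).2 _).2.2.2]
  · rw [hphi, hy, form_smul_right, map_add, form_smul_right, S.hp.hf.2, mul_zero, add_zero]

/-- `psi` maps lines to lines. -/
theorem Fixes.psi_smul (S : Fixes hF p γ x f) {u : Fin n → F} (hxu : H x u = 0) (hfu : H f u = 0) (s : F) :
    ∃ b : F, psi hF γ x f (s • u) = b • psi hF γ x f u := by
  classical
  have key : ∀ s : F, σ₀ s ≠ s → ∃ b : F, psi hF γ x f (s • u) = b • psi hF γ x f u := by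
    intro s hs
    have hs0 : s ≠ 0 := fun h => hs (by rw [h, map_zero])
    have hd : s - σ₀ s ≠ 0 := fun h => hs (sub_eq_zero.1 h).symm
    by_cases huu : H u u = 0
    · have hc : (0 : F) + σ₀ 0 + H u u = 0 := by rw [map_zero, huu, add_zero, add_zero]
      have hxs : H x (s • u) = 0 := by rw [form_smul_right, hxu, mul_zero]
      have hfs : H f (s • u) = 0 := by rw [form_smul_right, hfu, mul_zero]
      have hc' : (0 : F) + σ₀ 0 + H (s • u) (s • u) = 0 := by
        rw [map_zero, form_smul_left, form_smul_right, huu, mul_zero, mul_zero, add_zero, add_zero]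
      obtain ⟨hz, hIz⟩ := S.phi_spec hF (S.hp.nz_pt hF hxu hfu hc)
      obtain ⟨hw, hIw⟩ := S.phi_spec hF (S.hp.nz_pt hF hxs hfs hc')
      have hcomb : pt x f (s • u) (0 : F) = (1 - s) • f + s • pt x f u 0 := by
        simp only [pt]; module
      have hfz : H f (pt x f u 0) = 0 := (S.hp.pt_spec hF hxu hfu 0).2.1
      have hfw' : H f (phi hF γ x (pt x f (s • u) 0)) = 0 :=
        (S.orth_f hF hIw).1 (S.hp.pt_spec hF hxs hfs 0).2.1
      by_cases hmem : phi hF γ x (pt x f (s • u) 0) ∈ Submodule.span F {f, phi hF γ x (pt x f u 0)}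
      · obtain ⟨r, t, hrt⟩ := Submodule.mem_span_pair.1 hmem
        refine ⟨t, ?_⟩
        have h2 := congrArg (proj hF x f) hrt
        have hpf : proj hF x f f = 0 := by
          rw [proj_apply, S.hp.hxf, S.hp.hf.2, one_smul, zero_smul, sub_zero, sub_self]
        rw [map_add, map_smul, map_smul, hpf, smul_zero, zero_add, S.phi_pt hF hxu hfu hc, S.phi_pt hF hxs hfs hc',
          (S.hp.pt_spec hF (S.psi_perp hF _).1 (S.psi_perp hF _).2 _).2.2.2,
          (S.hp.pt_spec hF (S.psi_perp hF _).1 (S.psi_perp hF _).2 _).2.2.2] at h2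
        exact h2.symm
      have hzw : H (phi hF γ x (pt x f u 0)) (phi hF γ x (pt x f (s • u) 0)) = 0 :=
        (Img.orth hF p S.hn2 hIz hIw).1 (by
          rw [hcomb, map_add, form_smul_right, form_smul_right, (form_comm_zero hF).1 hfz,
            (S.hp.nz_pt hF hxu hfu hc).1, mul_zero, mul_zero, add_zero])
      obtain ⟨v, hv, hS, hwv⟩ := exists_iso_sep hF (hw.iso hF) hmem fun y hy => by
        obtain ⟨r, t, rfl⟩ := Submodule.mem_span_pair.1 hy
        simp [form_smul_left, hfw', hzw]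
      obtain ⟨v₀, hv₀⟩ := exists_img hF p S.hn2 γ⁻¹ hv
      have hv2 : Img hF γ v₀ v := inv_inv γ ▸ Img.symm hF hv₀
      have h1 : H f v₀ = 0 := (S.orth_f hF hv2).2 (hS f (Submodule.subset_span (by simp)))
      have h2 : H (pt x f u 0) v₀ = 0 :=
        (Img.orth hF p S.hn2 hIz hv2).2 (hS _ (Submodule.subset_span (by simp)))
      have h3 := (Img.orth hF p S.hn2 hIw hv2).1 (by
        rw [hcomb, map_add, LinearMap.add_apply, form_smul_left, form_smul_left, h1, h2, mul_zero, mul_zero, add_zero])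
      rw [hwv] at h3
      exact absurd h3 one_ne_zero
    set c := (σ₀ s * H u u - σ₀ s * s * H u u) / (s - σ₀ s) with hc
    have hd' : σ₀ s - s ≠ 0 := fun h => hs (sub_eq_zero.1 h)
    have hσc : σ₀ c = (s * H u u - σ₀ s * s * H u u) / (σ₀ s - s) := by
      rw [hc, map_div₀, map_sub, map_sub, map_mul, map_mul, map_mul, frob_frob hF, self_mem]
      ring_nf
    obtain ⟨b, hb, -⟩ := S.psi_line hF hxu hfu (c := c) (s := s)
      (by rw [hσc, hc, ← neg_sub s (σ₀ s), div_neg]; field_simp; ring)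
      (fun h0 => by
        rw [hc, div_eq_zero_iff] at h0
        have h1 : σ₀ s * H u u * (1 - s) = 0 := by linear_combination h0.resolve_right hd
        rcases mul_eq_zero.1 h1 with h2 | h2
        · exact (mul_ne_zero ((map_ne_zero _).2 hs0) huu) h2
        · exact hs (by rw [← sub_eq_zero.1 h2, map_one]))
      hs0 (by rw [map_mul, hσc, hc, ← neg_sub s (σ₀ s), div_neg]; field_simp; ring)
    exact ⟨b, hb⟩
  by_cases hs : σ₀ s = s
  · obtain ⟨i, hi⟩ : ∃ i : F, σ₀ i ≠ i := by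
      by_contra h
      push Not at h
      exact frob_ne_id hF (RingHom.ext h)
    obtain ⟨b₁, h₁⟩ := key i hi
    obtain ⟨b₂, h₂⟩ := key (s - i) (by rw [map_sub, hs, Ne, sub_right_inj]; exact hi)
    refine ⟨b₂ + b₁, ?_⟩
    rw [show s • u = (s - i) • u + i • u by rw [← add_smul, sub_add_cancel],
      S.psi_add hF (by rw [form_smul_right, hxu, mul_zero]) (by rw [form_smul_right, hfu, mul_zero])
        (by rw [form_smul_right, hxu, mul_zero]) (by rw [form_smul_right, hfu, mul_zero]), h₁, h₂, add_smul]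
  · exact key s hs

end Cfsg.Lib.Linear.AutPSU
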