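import Cfsg.Agent.Lib.Linear.AutPSU.Basic

/-!
# The radical of a point stabiliser, and transvections as elements of `p`-power order with a class prime to `p`
-/

set_option autoImplicit false

namespace Cfsg.Lib.Linear.AutPSU

open Matrix Module Cfsg.Lib.Linear.Herm

set_option quotPrecheck false

variable {n : ℕ} {F : Type*} [Field F] [Fintype F] {q : ℕ} (hF : Fintype.card F = q ^ 2)

local notation "V" => (Fin n → F)
local notation "G" => ↥(Cfsg.SU n F q)
local notation "σ₀" => frob hF
local notation "H" => hB hF n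

omit [Fintype F] in
theorem act_pow_eigen {g : G} {v : V} {a : F} (h : act g v = a • v) : ∀ k : ℕ, act (g ^ k) v = a ^ k • v
  | 0 => by rw [pow_zero, pow_zero, act_one, one_smul]
  | k + 1 => by rw [pow_succ, act_mul, h, act_smul, act_pow_eigen h k, smul_smul, pow_succ']

theorem pow_pPower_eq_one (p : ℕ) [Fact p.Prime] [CharP F p] {a : F} {k : ℕ} (h : a ^ p ^ k = 1) : a = 1 := by
  haveI : ExpChar F p := ExpChar.prime Fact.out
  exact iterateFrobenius_inj F p k (by rw [iterateFrobenius_def, iterateFrobenius_def, one_pow]; exact h)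

omit [Fintype F] in
/-- An element of `p`-power order fixes the vectors it scales. -/
theorem act_eq_self_of_eigen [Fintype F] (p : ℕ) [Fact p.Prime] [CharP F p] {g : G} {k : ℕ} (hg : g ^ p ^ k = 1)
    {v : V} (hv : v ≠ 0) {a : F} (h : act g v = a • v) : act g v = v := by
  have h1 := act_pow_eigen h (p ^ k)
  rw [hg, act_one] at h1
  rw [h, pow_pPower_eq_one p (smul_left_injective F hv (h1.symm.trans (one_smul F v).symm)), one_smul]

/-- The radical of the stabiliser of the point `v`. -/
def radU (v : V) : Subgroup G where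
  carrier := {g | act g v = v ∧ ∀ u : V, H v u = 0 → ∃ a : F, act g u = u + a • v}
  one_mem' := ⟨act_one v, fun u _ => ⟨0, by rw [act_one, zero_smul, add_zero]⟩⟩
  mul_mem' := by
    rintro g k ⟨hg, hg'⟩ ⟨hk, hk'⟩
    refine ⟨by rw [act_mul, hk, hg], fun u hu => ?_⟩
    obtain ⟨a, ha⟩ := hk' u hu
    obtain ⟨b, hb⟩ := hg' u hu
    exact ⟨b + a, by rw [act_mul, ha, act_add, act_smul, hg, hb, add_smul, add_assoc]⟩
  inv_mem' := by
    rintro g ⟨hg, hg'⟩
    have hgi : act g⁻¹ v = v := by
      conv_lhs => rw [← hg]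
      rw [act_inv_cancel]
    refine ⟨hgi, fun u hu => ?_⟩
    obtain ⟨a, ha⟩ := hg' u hu
    refine ⟨-a, ?_⟩
    have h := congrArg (act g⁻¹) ha
    rw [act_inv_cancel, act_add, act_smul, hgi] at h
    rw [neg_smul, ← sub_eq_add_neg]
    exact eq_sub_iff_add_eq.2 h.symm

theorem mem_radU {v : V} {g : G} :
    g ∈ radU hF v ↔ act g v = v ∧ ∀ u : V, H v u = 0 → ∃ a : F, act g u = u + a • v := Iff.rfl

theorem pow_four_of_radU (p : ℕ) [Fact p.Prime] [CharP F p] {v : V} (hv : Iso hF v) {g : G} (hg : g ∈ radU hF v) :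
    g ^ p ^ 2 = 1 := by
  obtain ⟨hgv, hgu⟩ := hg
  let M := mat g - 1
  have hM : ∀ x, M *ᵥ x = act g x - x := fun x => by rw [Matrix.sub_mulVec, Matrix.one_mulVec]; rfl
  have h3 : M ^ 3 = 0 := by
    refine Matrix.toLin'.injective (LinearMap.ext fun x => ?_)
    rw [Matrix.toLin'_apply, map_zero, LinearMap.zero_apply, pow_succ, pow_two, ← Matrix.mulVec_mulVec,
      ← Matrix.mulVec_mulVec]
    have h1 : H v (M *ᵥ x) = 0 := by
      rw [hM, map_sub]
      have h := form_act hF g v x
      rw [hgv] at h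
      rw [h, sub_self]
    obtain ⟨a, ha⟩ := hgu _ h1
    rw [hM (M *ᵥ x), ha, add_sub_cancel_left, Matrix.mulVec_smul, hM, hgv, sub_self, smul_zero]
  haveI : Nonempty (Fin n) := by
    by_contra h
    rw [not_nonempty_iff] at h
    exact hv.1 (Subsingleton.elim _ _)
  have hp := (Fact.out : p.Prime).two_le
  refine su_ext fun x => ?_
  have h4 : M ^ p ^ 2 = 0 := pow_eq_zero_of_le (by nlinarith [hp]) h3
  rw [sub_pow_char_pow_of_commute p 2 (Commute.one_right _), one_pow, sub_eq_zero] at h4
  rw [act_one]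
  show mat (g ^ p ^ 2) *ᵥ x = x
  rw [show mat (g ^ p ^ 2) = mat g ^ p ^ 2 by simp [mat], h4, Matrix.one_mulVec]

theorem isPGroup_radU (p : ℕ) [Fact p.Prime] [CharP F p] {v : V} (hv : Iso hF v) : IsPGroup p (radU hF v) :=
  fun g => ⟨2, Subtype.ext (by simpa using pow_four_of_radU hF p hv g.2)⟩

/-- The element of the radical moving a partner of `v` by `u + c v`. -/
theorem exists_radU (p : ℕ) [Fact p.Prime] [CharP F p] {v u : V} (hv : Iso hF v) (hu : H v u = 0) {c : F}
    (hc : c + σ₀ c + H u u = 0) :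
    ∃ g : G, g ∈ radU hF v ∧ ∀ x : V, act g x = x + H v x • u + (c * H v x - H u x) • v := by
  haveI : Nonempty (Fin n) := by
    by_contra h
    rw [not_nonempty_iff] at h
    exact hv.1 (Subsingleton.elim _ _)
  let L : V →ₗ[F] V := LinearMap.id + (H v).smulRight u + ((c • H v) - H u).smulRight v
  have hL : ∀ x, L x = x + H v x • u + (c * H v x - H u x) • v := fun x => rfl
  set M := LinearMap.toMatrix' L with hM
  have hMx : ∀ x, M *ᵥ x = L x := fun x => by rw [hM, LinearMap.toMatrix'_mulVec]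
  have hvu : H u v = 0 := (form_comm_zero hF).1 hu
  have h3 : (M - 1) ^ 3 = 0 := by
    refine Matrix.toLin'.injective (LinearMap.ext fun x => ?_)
    have e : ∀ y, (M - 1) *ᵥ y = H v y • u + (c * H v y - H u y) • v := fun y => by
      rw [Matrix.sub_mulVec, Matrix.one_mulVec, hMx, hL]; abel
    rw [Matrix.toLin'_apply, map_zero, LinearMap.zero_apply, pow_succ, pow_two, ← Matrix.mulVec_mulVec,
      ← Matrix.mulVec_mulVec]
    simp only [e, map_add, form_smul_right, hu, hvu, hv.2, mul_zero, add_zero, zero_smul, zero_sub, zero_add]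
    simp
  have h4 : M ^ p ^ 2 = 1 := by
    have hp := (Fact.out : p.Prime).two_le
    have := pow_eq_zero_of_le (show 3 ≤ p ^ 2 by nlinarith [hp]) h3
    rwa [sub_pow_char_pow_of_commute p 2 (Commute.one_right _), one_pow, sub_eq_zero] at this
  have hdet : M.det = 1 := pow_pPower_eq_one p (k := 2) (by rw [← Matrix.det_pow, h4, Matrix.det_one])
  have hiso : ∀ a b, H (M *ᵥ a) (M *ᵥ b) = H a b := fun a b => by
    simp only [hMx, hL, map_add, LinearMap.add_apply, form_smul_left, form_smul_right, map_sub, map_mul, form_symm,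
      hv.2, hu, hvu]
    linear_combination (H a v * H v b) * hc
  refine ⟨⟨⟨M, hdet⟩, fun a b => hiso b a⟩, ⟨?_, fun w hw => ⟨-(H u w), ?_⟩⟩, fun x => (hMx x).trans (hL x)⟩
  · show M *ᵥ v = v
    rw [hMx, hL, hv.2, hvu]
    simp
  · show M *ᵥ w = _
    rw [hMx, hL, hw]
    simp

theorem radU_eq_one {v f : V} (P : Hyp hF v f) {g : G} (hg : g ∈ radU hF v) (hgf : act g f = f) : g = 1 := by
  refine su_ext fun x => ?_
  obtain ⟨a, ha⟩ := hg.2 _ (P.proj_perp_x hF x)
  have ha0 : a = 0 := by
    have h := form_act hF g f (proj hF v f x)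
    rw [hgf, ha, map_add, form_smul_right, P.hfx, P.proj_perp_f hF, zero_add, mul_one] at h
    exact h
  rw [ha0, zero_smul, add_zero] at ha
  rw [act_one]
  conv_rhs => rw [proj_decomp hF (x := v) (f := f) x]
  conv_lhs => rw [proj_decomp hF (x := v) (f := f) x]
  rw [act_add, act_add, act_smul, act_smul, hgf, ha, hg.1]

/-- Elements of `p`-power order commuting with the radical of `v` are transvections. -/
theorem eq_tU_of_commute (p : ℕ) [Fact p.Prime] [CharP F p] {v : V} (hv : Iso hF v) {y : G} {k : ℕ}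
    (hy : y ^ p ^ k = 1) (hcomm : ∀ g ∈ radU hF v, Commute g y) : ∃ c : F, Skew hF c ∧ y = tU hF v c := by
  obtain ⟨f, hf, hvf⟩ := exists_partner hF hv
  have P : Hyp hF v f := ⟨hv, hf, hvf⟩
  obtain ⟨l, hl0, hl⟩ := exists_skew hF
  have htmem : tU hF v l ∈ radU hF v :=
    ⟨by rw [act_tU hF hv.2 hl, hv.2, mul_zero, zero_smul, add_zero],
     fun u hu => ⟨0, by rw [act_tU hF hv.2 hl, hu, mul_zero]⟩⟩
  have hyv : act y v = v := by
    have h := conj_tU hF y hv.2 hl
    rw [← (hcomm _ htmem).eq, mul_inv_cancel_right] at h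
    obtain ⟨a, -, ha, -⟩ := tU_inj hF hv ((form_act hF y v v).trans hv.2) hl0 hl hl h
    exact act_eq_self_of_eigen p hy hv.1 ha
  have hperp : ∀ u, H v u = 0 → ∃ a : F, act y u = u + a • v ∧ σ₀ a = a := by
    intro u hu
    obtain ⟨c, hc⟩ := exists_trace hF (-(H u u)) (by rw [map_neg, self_mem])
    obtain ⟨g, hg, hgx⟩ := exists_radU hF p hv hu (c := c) (by linear_combination hc)
    have h : act y (act g (act y⁻¹ f)) = act g f := by
      rw [← act_mul, ← act_mul, ← (hcomm g hg).eq, mul_inv_cancel_right]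
    have h1 : H v (act y⁻¹ f) = 1 := by
      rw [← form_act hF y v (act y⁻¹ f), act_cancel_inv, hyv, hvf]
    have h2 : H u (act y⁻¹ f) = H (act y u) f := by
      rw [← form_act hF y u (act y⁻¹ f), act_cancel_inv]
    rw [hgx, hgx, h1, h2, hvf, one_smul, act_add, act_add, act_cancel_inv, act_smul, hyv] at h
    refine ⟨H (act y u) f - H u f, by linear_combination (norm := module) h, ?_⟩
    have h3 : act y u = u + (H (act y u) f - H u f) • v := by linear_combination (norm := module) h
    have h4 := congrArg (fun w => H w f) h3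
    simp only [map_add, LinearMap.add_apply, form_smul_left, hvf, mul_one] at h4
    linear_combination -h4
  have hfix : ∀ u, H v u = 0 → act y u = u := by
    intro u hu
    obtain ⟨a, ha, hfa⟩ := hperp u hu
    obtain ⟨s, hs⟩ : ∃ s : F, σ₀ s ≠ s := by
      by_contra h
      push Not at h
      exact frob_ne_id hF (RingHom.ext h)
    obtain ⟨b, hb, hfb⟩ := hperp (s • u) (by rw [form_smul_right, hu, mul_zero])
    rw [act_smul, ha, smul_add, smul_smul, add_right_inj] at hb
    obtain rfl : s * a = b := smul_left_injective F hv.1 hb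
    rw [map_mul, hfa] at hfb
    have : a = 0 := by
      by_contra hne
      exact hs (mul_right_cancel₀ hne hfb)
    rw [ha, this, zero_smul, add_zero]
  set d := act y f - f with hd
  have hdv : ∀ u, H v u = 0 → H u d = 0 := fun u hu => by
    have := form_act hF y u f
    rw [hfix u hu] at this
    rw [hd, map_sub, this, sub_self]
  have hdd : d = H f d • v := by
    refine sub_eq_zero.1 ((hB_nondegenerate hF n).2 _ fun x => ?_)
    obtain ⟨w, hw, hx⟩ : ∃ w, H v w = 0 ∧ x = H v x • f + w :=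
      ⟨x - H v x • f, by rw [map_sub, form_smul_right, hvf, mul_one, sub_self], (add_sub_cancel _ _).symm⟩
    have hwv : H w v = 0 := (form_comm_zero hF).1 hw
    rw [hx]
    simp only [map_add, LinearMap.add_apply, map_sub, form_smul_left, form_smul_right, hdv w hw, hwv, P.hfx]
    ring
  have hyf : act y f = f + H f d • v := by rw [← hdd, hd, add_sub_cancel]
  have hsk : Skew hF (H f d) := by
    have h := form_act hF y f f
    rw [hyf] at h
    simp only [map_add, LinearMap.add_apply, form_smul_left, form_smul_right, hvf, P.hfx, hv.2, hf.2] at h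
    show _ + σ₀ _ = _
    linear_combination h
  refine ⟨H f d, hsk, su_ext fun x => ?_⟩
  rw [act_tU hF hv.2 hsk]
  have hw := hfix (x - H v x • f) (by rw [map_sub, form_smul_right, hvf, mul_one, sub_self])
  rw [act_sub, act_smul, hyf] at hw
  linear_combination (norm := module) hw

/-- The conjugates of `x`. -/
def cls {X : Type*} [Group X] (x : X) : Set X := Set.range fun g => g * x * g⁻¹

/-- Elements of `p`-power order with a class of size prime to `p` are transvections. -/
theorem exists_eq_tU (p : ℕ) [Fact p.Prime] [CharP F p] (hn : 2 ≤ n) {x : G} (hx : x ≠ 1) {k : ℕ}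
    (hxp : x ^ p ^ k = 1) (hnd : ¬ p ∣ Nat.card (cls x)) :
    ∃ (v : V) (c : F), Iso hF v ∧ c ≠ 0 ∧ Skew hF c ∧ x = tU hF v c := by
  classical
  obtain ⟨v, -, hv0, hvv⟩ := exists_iso_ne_zero (frob_ne_id hF) (frob_frob hF) (hB_isSymm hF n) ⊤
    (by rw [finrank_top, finrank_fin_fun]; exact hn)
  have hv : Iso hF v := ⟨hv0, hvv⟩
  have hcls : MulAction.orbit (ConjAct G) x = cls x := by
    ext y
    constructor
    · rintro ⟨g, rfl⟩
      exact ⟨ConjAct.ofConjAct g, (ConjAct.smul_def g x).symm⟩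
    · rintro ⟨g, rfl⟩
      exact ⟨ConjAct.toConjAct g, ConjAct.smul_def _ x⟩
  have hQ : IsPGroup p ((radU hF v).map (ConjAct.toConjAct : G ≃* ConjAct G).toMonoidHom) := (isPGroup_radU hF p hv).map _
  obtain ⟨⟨y, hy⟩, hfix⟩ := hQ.nonempty_fixed_point_of_prime_not_dvd_card (MulAction.orbit (ConjAct G) x)
    (by rw [hcls]; exact hnd)
  rw [hcls] at hy
  obtain ⟨g, rfl⟩ := hy
  obtain ⟨c, hc, hyc⟩ := eq_tU_of_commute hF p hv (y := g * x * g⁻¹) (k := k)
    (by rw [conj_pow, hxp, mul_one, mul_inv_cancel]) (fun h hh => by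
      have h1 := congrArg Subtype.val (hfix ⟨ConjAct.toConjAct h, h, hh, rfl⟩)
      exact mul_inv_eq_iff_eq_mul.1 ((ConjAct.smul_def (ConjAct.toConjAct h) _).symm.trans h1))
  have hxe : x = tU hF (act g⁻¹ v) c := by
    rw [← conj_tU hF g⁻¹ hvv hc, ← hyc]; group
  exact ⟨_, c, hv.act hF g⁻¹, fun h0 => hx (by rw [hxe, h0, tU_zero hF ((form_act hF _ v v).trans hvv)]), hc, hxe⟩

end Cfsg.Lib.Linear.AutPSU
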