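import Cfsg.Prelude.Def_LieTypeDatum
import Cfsg.Agent.Lib.Linear.AutPSU.Radical
import Cfsg.Agent.Lib.Linear.AutPSL.Basic

/-!
# Automorphisms of `PSU_n(q)` induced by unitary matrices and field automorphisms
-/

set_option autoImplicit false

namespace Cfsg.Lib.Linear.AutPSU

open Matrix Module Cfsg.Lib.Linear.Herm

set_option quotPrecheck false

variable {n : ℕ} {F : Type*} [Field F] {q : ℕ}

local notation "V" => (Fin n → F)
local notation "G" => ↥(Cfsg.SU n F q)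
local notation "P" => Cfsg.PSU n F q

theorem mulVec_comp (σ : F ≃+* F) (M : Matrix (Fin n) (Fin n) F) (v : Fin n → F) :
    (M.map σ) *ᵥ (σ ∘ v) = σ ∘ (M *ᵥ v) := funext fun i => by
  simp [Matrix.mulVec, dotProduct, map_sum]

theorem herm_comp (σ : F ≃+* F) (u v : Fin n → F) :
    Cfsg.hermForm n F q (σ ∘ u) (σ ∘ v) = σ (Cfsg.hermForm n F q u v) := by
  simp [Cfsg.hermForm, map_sum, map_pow]

theorem map_memGU (σ : F ≃+* F) {g : GL (Fin n) F} (hg : g ∈ Cfsg.GU n F q) :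
    GeneralLinearGroup.map σ.toRingHom g ∈ Cfsg.GU n F q := fun u v => by
  obtain ⟨u, rfl⟩ : ∃ a, σ ∘ a = u := ⟨σ.symm ∘ u, funext fun i => σ.apply_symm_apply _⟩
  obtain ⟨v, rfl⟩ : ∃ a, σ ∘ a = v := ⟨σ.symm ∘ v, funext fun i => σ.apply_symm_apply _⟩
  show Cfsg.hermForm n F q ((g.1.map σ) *ᵥ (σ ∘ u)) ((g.1.map σ) *ᵥ (σ ∘ v)) = _
  rw [mulVec_comp, mulVec_comp, herm_comp, herm_comp]
  exact congrArg σ (hg u v)

theorem map_memSU (σ : F ≃+* F) (s : G) :
    Matrix.SpecialLinearGroup.map σ.toRingHom (s : Matrix.SpecialLinearGroup (Fin n) F) ∈ Cfsg.SU n F q :=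
  fun u v => map_memGU σ (g := Matrix.SpecialLinearGroup.toGL (s : Matrix.SpecialLinearGroup (Fin n) F)) s.2 u v

/-- Apply a field automorphism to the entries. -/
def frobU : (F ≃+* F) →* MulAut G where
  toFun σ :=
    { toFun := fun s => ⟨_, map_memSU σ s⟩
      invFun := fun s => ⟨_, map_memSU σ.symm s⟩
      left_inv := fun s => Subtype.ext (Subtype.ext (Matrix.ext fun i j => σ.symm_apply_apply _))
      right_inv := fun s => Subtype.ext (Subtype.ext (Matrix.ext fun i j => σ.apply_symm_apply _))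
      map_mul' := fun s t => Subtype.ext (map_mul _ _ _) }
  map_one' := MulEquiv.ext fun s => Subtype.ext (Subtype.ext (Matrix.ext fun i j => rfl))
  map_mul' σ τ := MulEquiv.ext fun s => Subtype.ext (Subtype.ext (Matrix.ext fun i j => rfl))

theorem conj_det {g : GL (Fin n) F} (s : Matrix.SpecialLinearGroup (Fin n) F) :
    (g.1 * s.1 * (g⁻¹).1).det = 1 := by
  rw [Matrix.det_mul, Matrix.det_mul, s.2, mul_one, ← Matrix.det_mul, Units.mul_inv, Matrix.det_one]

theorem conj_mem {g : GL (Fin n) F} (hg : g ∈ Cfsg.GU n F q) (s : G) :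
    (⟨_, conj_det (g := g) s.1⟩ : Matrix.SpecialLinearGroup (Fin n) F) ∈ Cfsg.SU n F q := fun u v => by
  show Cfsg.hermForm n F q ((g.1 * s.1.1 * (g⁻¹).1) *ᵥ u) ((g.1 * s.1.1 * (g⁻¹).1) *ᵥ v) = _
  rw [← Matrix.mulVec_mulVec, ← Matrix.mulVec_mulVec, ← Matrix.mulVec_mulVec, ← Matrix.mulVec_mulVec]
  exact ((hg _ _).trans (s.2 _ _)).trans ((inv_mem hg : g⁻¹ ∈ Cfsg.GU n F q) u v)

/-- Conjugation by a unitary matrix. -/
def cnj : ↥(Cfsg.GU n F q) →* MulAut G where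
  toFun g :=
    { toFun := fun s => ⟨_, conj_mem g.2 s⟩
      invFun := fun s => ⟨_, conj_mem (inv_mem g.2) s⟩
      left_inv := fun s => Subtype.ext (Subtype.ext (by
        show (g.1⁻¹).1 * (g.1.1 * s.1.1 * (g.1⁻¹).1) * (g.1⁻¹⁻¹).1 = s.1.1
        simp [← mul_assoc]))
      right_inv := fun s => Subtype.ext (Subtype.ext (by
        show g.1.1 * ((g.1⁻¹).1 * s.1.1 * (g.1⁻¹⁻¹).1) * (g.1⁻¹).1 = s.1.1
        simp [← mul_assoc]))
      map_mul' := fun s t => Subtype.ext (Subtype.ext (by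
        show g.1.1 * (s.1.1 * t.1.1) * (g.1⁻¹).1 = g.1.1 * s.1.1 * (g.1⁻¹).1 * (g.1.1 * t.1.1 * (g.1⁻¹).1)
        simp only [Matrix.mul_assoc]
        rw [← Matrix.mul_assoc (g.1⁻¹).1 g.1.1, Units.inv_mul, Matrix.one_mul])) }
  map_one' := MulEquiv.ext fun s => Subtype.ext (Subtype.ext (by
    show (1 : GL (Fin n) F).val * s.1.1 * ((1 : GL (Fin n) F)⁻¹).val = s.1.1
    simp))
  map_mul' g h := MulEquiv.ext fun s => Subtype.ext (Subtype.ext (by
    show (g.1 * h.1).val * s.1.1 * ((g.1 * h.1)⁻¹).val = g.1.val * (h.1.val * s.1.1 * (h.1⁻¹).val) * (g.1⁻¹).val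
    simp only [_root_.mul_inv_rev, Units.val_mul, Matrix.mul_assoc]))

/-- The automorphism induced on `PSU`. -/
def descend : MulAut G →* MulAut P where
  toFun e := QuotientGroup.congr _ _ e (Cfsg.Lib.Linear.AutPSL.map_center e)
  map_one' := MulEquiv.ext fun x => by
    obtain ⟨s, rfl⟩ := QuotientGroup.mk_surjective x
    exact QuotientGroup.congr_mk _ _ _ _ s
  map_mul' a b := MulEquiv.ext fun x => by
    obtain ⟨s, rfl⟩ := QuotientGroup.mk_surjective x
    rfl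

/-- The inner-diagonal automorphism of a unitary matrix. -/
def innd : ↥(Cfsg.GU n F q) →* MulAut P := descend.comp cnj

/-- The standard field automorphism. -/
def fld : (F ≃+* F) →* MulAut P := descend.comp frobU

theorem innd_mk (g : ↥(Cfsg.GU n F q)) (s : G) : innd g (QuotientGroup.mk s : P) = QuotientGroup.mk (cnj g s) := rfl

theorem fld_mk (σ : F ≃+* F) (s : G) : fld σ (QuotientGroup.mk s : P) = QuotientGroup.mk (frobU σ s) := rfl

theorem aut_ext {β γ : MulAut P} (h : ∀ s : G, β (QuotientGroup.mk s) = γ (QuotientGroup.mk s)) : β = γ :=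
  MulEquiv.ext fun x => by obtain ⟨s, rfl⟩ := QuotientGroup.mk_surjective x; exact h s

theorem isInduced_innd_mul_fld (g : ↥(Cfsg.GU n F q)) (σ : F ≃+* F) :
    Cfsg.IsInducedBySemilinearPSU g.1 σ (innd g * fld σ : MulAut P) := fun s s' h => by
  rw [MulAut.mul_apply, fld_mk, innd_mk]
  exact congrArg _ (Subtype.ext (Subtype.ext h.symm))

theorem act_cnj (g : ↥(Cfsg.GU n F q)) (s : G) (v : Fin n → F) :
    act (cnj g s) v = g.1.1 *ᵥ act s ((g.1⁻¹).1 *ᵥ v) := by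
  show (g.1.1 * s.1.1 * (g.1⁻¹).1) *ᵥ v = _
  rw [← Matrix.mulVec_mulVec, ← Matrix.mulVec_mulVec]
  rfl

variable [Fintype F] (hF : Fintype.card F = q ^ 2)

local notation "σ₀" => frob hF
local notation "H" => hB hF n

theorem form_GU (g : ↥(Cfsg.GU n F q)) (u v : V) : H (g.1.1 *ᵥ u) (g.1.1 *ᵥ v) = H u v := g.2 v u

theorem form_comp (σ : F ≃+* F) (u v : V) : H (σ ∘ u) (σ ∘ v) = σ (H u v) := herm_comp σ v u

theorem frob_comm (σ : F ≃+* F) (a : F) : σ₀ (σ a) = σ (σ₀ a) := by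
  rw [frob_apply, frob_apply, map_pow]

theorem Skew.map {k : F} (hk : Skew hF k) (σ : F ≃+* F) : Skew hF (σ k) := by
  show _ + σ₀ (σ k) = 0
  rw [frob_comm, hk.conj, map_neg, add_neg_cancel]

theorem Iso.map {v : Fin n → F} (hv : Iso hF v) (σ : F ≃+* F) : Iso hF (σ ∘ v) :=
  ⟨fun h => hv.1 (funext fun i => σ.injective ((congrFun h i).trans (map_zero σ).symm)),
    by rw [form_comp, hv.2, map_zero]⟩

theorem Iso.mulVec {v : Fin n → F} (hv : Iso hF v) (g : ↥(Cfsg.GU n F q)) : Iso hF (g.1.1 *ᵥ v) :=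
  ⟨fun h => hv.1 (by
    have := congrArg (fun y : Fin n → F => (g.1⁻¹).1 *ᵥ y) h
    simpa [Matrix.mulVec_mulVec] using this), by rw [form_GU, hv.2]⟩

theorem cnj_tU (g : ↥(Cfsg.GU n F q)) {v : Fin n → F} (hv : H v v = 0) {k : F} (hk : Skew hF k) :
    cnj g (tU hF v k) = tU hF (g.1.1 *ᵥ v) k := su_ext fun x => by
  rw [act_cnj, act_tU hF hv hk, act_tU hF ((form_GU hF g v v).trans hv) hk, Matrix.mulVec_add, Matrix.mulVec_smul,
    ← form_GU hF g v ((g.1⁻¹).1 *ᵥ x), Matrix.mulVec_mulVec _ g.1.1, Units.mul_inv, Matrix.one_mulVec]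

theorem frobU_tU (σ : F ≃+* F) {v : Fin n → F} (hv : H v v = 0) {k : F} (hk : Skew hF k) :
    frobU σ (tU hF v k) = tU hF (σ ∘ v) (σ k) := su_ext fun x => by
  obtain ⟨x, rfl⟩ : ∃ a : Fin n → F, σ ∘ a = x := ⟨σ.symm ∘ x, funext fun i => σ.apply_symm_apply _⟩
  rw [act_tU hF (by rw [form_comp, hv, map_zero]) (hk.map hF σ), form_comp]
  show ((tU hF v k).1.1.map σ) *ᵥ (σ ∘ x) = _
  rw [mulVec_comp, show (tU hF v k).1.1 *ᵥ x = act (tU hF v k) x from rfl, act_tU hF hv hk]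
  funext i
  simp

section PGroup

variable (p : ℕ) [Fact p.Prime] [CharP F p]

include hF in
theorem p_dvd_q : p ∣ q := by
  obtain ⟨k, -, hk⟩ := FiniteField.card F p
  exact (Fact.out : p.Prime).dvd_of_dvd_pow (m := q) (n := 2) (by rw [← hF, hk]; exact dvd_pow_self p k.pos.ne')

include hF in
theorem center_coprime (hn : 2 ≤ n) (k : ℕ) : (p ^ k).Coprime (Nat.card (Subgroup.center G)) := by
  rw [card_center_SU hF hn]
  refine Nat.Coprime.pow_left k ((Nat.Prime.coprime_iff_not_dvd Fact.out).2 fun h => ?_)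
  have h1 : p ∣ q + 1 := h.trans (Nat.gcd_dvd_right _ _)
  exact (Fact.out : p.Prime).not_dvd_one ((Nat.dvd_add_right (p_dvd_q hF p)).1 h1)

include hF in
theorem mk_inj_of_pow (hn : 2 ≤ n) {x y : G} {k l : ℕ} (hx : x ^ p ^ k = 1) (hy : y ^ p ^ l = 1)
    (h : (QuotientGroup.mk x : P) = QuotientGroup.mk y) : x = y := by
  have hx' : x ^ p ^ (k + l) = 1 := by rw [pow_add, pow_mul, hx, one_pow]
  have hy' : y ^ p ^ (k + l) = 1 := by rw [pow_add, mul_comm, pow_mul, hy, one_pow]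
  have hz : x⁻¹ * y ∈ Subgroup.center G := QuotientGroup.eq.1 h
  have hcomm : Commute x (x⁻¹ * y) := Subgroup.mem_center_iff.1 hz x
  have h1 : (x⁻¹ * y) ^ p ^ (k + l) = 1 := by
    have h2 := hcomm.mul_pow (p ^ (k + l))
    rw [mul_inv_cancel_left, hy', hx', one_mul] at h2
    exact h2.symm
  have h3 : (⟨_, hz⟩ : Subgroup.center G) = 1 :=
    (powCoprime (center_coprime hF p hn (k + l)).symm).injective (by
      rw [powCoprime_apply, powCoprime_apply, one_pow]; exact Subtype.ext h1)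
  exact inv_mul_eq_one.1 (congrArg Subtype.val h3)

include hF in
theorem exists_lift_pow (hn : 2 ≤ n) {a : P} {k : ℕ} (ha : a ^ p ^ k = 1) :
    ∃ y : G, y ^ p ^ k = 1 ∧ QuotientGroup.mk y = a := by
  obtain ⟨y, rfl⟩ := QuotientGroup.mk_surjective a
  rw [← QuotientGroup.mk_pow, QuotientGroup.eq_one_iff] at ha
  obtain ⟨w, hw⟩ := (powCoprime (center_coprime hF p hn k).symm).surjective ⟨_, ha⟩
  have hw' : (w : G) ^ p ^ k = y ^ p ^ k := by
    have := congrArg Subtype.val hw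
    simpa [powCoprime] using this
  refine ⟨y * (w⁻¹ : Subgroup.center G).1, ?_, ?_⟩
  · have hc : Commute y ((w⁻¹ : Subgroup.center G).1) := Subgroup.mem_center_iff.1 (w⁻¹).2 y
    rw [hc.mul_pow, Subgroup.coe_inv, inv_pow, hw', mul_inv_cancel]
  · rw [QuotientGroup.mk_mul, (QuotientGroup.eq_one_iff _).2 (w⁻¹).2, mul_one]

end PGroup

end Cfsg.Lib.Linear.AutPSU
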